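import Groth.Agent.SchBasics.OmegaChart
import Groth.Agent.SchBasics.PullSpan
import Groth.Agent.EGA73.GammaStarIso
import Mathlib.RingTheory.Kaehler.TensorProduct
import Mathlib.AlgebraicGeometry.Morphisms.Flat

/-! Sheaves of differentials commute with base change. -/

set_option autoImplicit false
set_option backward.isDefEq.respectTransparency false

universe u

open CategoryTheory CategoryTheory.Limits AlgebraicGeometry TopologicalSpace Opposite TensorProduct

noncomputable section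

namespace Groth.Agent.Om3

open Groth.Agent Var76.OmegaUniv QC70

/-- A map compatible with universal derivations is bijective over a pair of affine charts as soon as the
corresponding map of Kähler differentials becomes bijective after base change. -/
theorem bijective_app {X S X' S' : Scheme.{u}} {f : X ⟶ S} {f' : X' ⟶ S'} {g' : X' ⟶ X}
    {Ω : X.Modules} {d : OmegaSh.Der f Ω} (hd : OmegaSh.IsUniversal d)
    {Ω' : X'.Modules} {d' : OmegaSh.Der f' Ω'} (hd' : OmegaSh.IsUniversal d')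
    {c : (Scheme.Modules.pullback g').obj Ω ⟶ Ω'} (hc : OmegaSh.IsDiffCompat g' d d' c)
    {V : S.Opens} (hV : IsAffineOpen V) {U : S'.Opens} (hU : IsAffineOpen U)
    {W : X.Opens} (hW : IsAffineOpen W) (hWV : W ≤ f ⁻¹ᵁ V)
    {P : X'.Opens} (hP : IsAffineOpen P) (ePW : P ≤ g' ⁻¹ᵁ W) (ePU : P ≤ f' ⁻¹ᵁ U)
    (hK : letI := (f.appLE V W hWV).hom.toAlgebra
      letI := (f'.appLE U P ePU).hom.toAlgebra
      letI := (g'.appLE W P ePW).hom.toAlgebra
      ∃ t : Γ(X', P) ⊗[Γ(X, W)] Ω[Γ(X, W)⁄Γ(S, V)] ≃ₗ[Γ(X', P)] Ω[Γ(X', P)⁄Γ(S', U)],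
        ∀ a, t (1 ⊗ₜ KaehlerDifferential.D Γ(S, V) Γ(X, W) a) =
          KaehlerDifferential.D Γ(S', U) Γ(X', P) (g'.appLE W P ePW a)) :
    Function.Bijective (c.app P) := by
  haveI := SchBasics.isQuasicoherent_of_isUniversal hd
  haveI := SchBasics.isQuasicoherent_of_isUniversal hd'
  algebraize [(f.appLE V W hWV).hom, (g'.appLE W P ePW).hom, (f'.appLE U P ePU).hom]
  obtain ⟨t, ht⟩ := hK
  obtain ⟨e, he⟩ := SchBasics.exists_chartEquiv hd hW hV hWV
  obtain ⟨e', he'⟩ := SchBasics.exists_chartEquiv hd' hP hU ePU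
  let G := (Scheme.Modules.pullback g').obj Ω
  let pz : Γ(Ω, W) → Γ(G, P) := fun m => res G ePW (OmegaSh.pullSect g' Ω (W) m)
  have hcz : ∀ a, c.app P (pz (d.app (W) a)) = d'.app P (g'.appLE (W) P ePW a) := fun a => by
    show c.app P (res G ePW _) = _
    rw [QC70.app_res, hc, ← Der.res]
    rfl
  have hpzs : ∀ r m, pz (r • m) = algebraMap Γ(X, W) Γ(X', P) r • pz m := fun r m => by
    show res G ePW (OmegaSh.pullSect g' Ω (W) (r • m)) = _
    rw [OmegaSh.pullSect_smul, res_smul]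
    rfl
  letI : Module Γ(X, W) Γ(G, P) := Module.compHom _ (algebraMap Γ(X, W) Γ(X', P))
  haveI : IsScalarTower Γ(X, W) Γ(X', P) Γ(G, P) := IsScalarTower.of_algebraMap_smul fun _ _ => rfl
  let pzL : Ω[Γ(X, W)⁄Γ(S, V)] →ₗ[Γ(X, W)] Γ(G, P) :=
    { toFun := fun z => pz (e z)
      map_add' := fun a b => by
        show res G ePW (OmegaSh.pullSect g' Ω (W) (e (a + b))) = _
        rw [map_add, map_add, res_add]
      map_smul' := fun r a => by
        rw [map_smul]
        exact hpzs r (e a) }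
  let α : Γ(Ω', P) →ₗ[Γ(X', P)] Γ(G, P) :=
    (pzL.liftBaseChange Γ(X', P)).comp
      (t.symm.toLinearMap.comp
        e'.symm.toLinearMap)
  have hα : ∀ a, α (d'.app P (algebraMap Γ(X, W) Γ(X', P) a)) = pz (d.app (W) a) := fun a => by
    show pzL.liftBaseChange Γ(X', P) (t.symm
      (e'.symm (d'.app P _))) = _
    rw [show e'.symm (d'.app P (algebraMap Γ(X, W) Γ(X', P) a)) = _ from e'.symm_apply_eq.2 (he' _).symm,
      show t.symm (KaehlerDifferential.D _ _ (algebraMap Γ(X, W) Γ(X', P) a)) =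
          (1 : Γ(X', P)) ⊗ₜ KaehlerDifferential.D Γ(S, V) Γ(X, W) a from
        (LinearEquiv.symm_apply_eq _).2 (ht a).symm,
      LinearMap.liftBaseChange_tmul, one_smul]
    show pz (e _) = _
    rw [he]
  let cL : Γ(G, P) →ₗ[Γ(X', P)] Γ(Ω', P) :=
    { toFun := fun s => c.app P s, map_add' := fun a b => map_add _ a b,
      map_smul' := fun r s => Scheme.Modules.Hom.app_smul c r s }
  have hgen : ∀ z : Ω[Γ(X, W)⁄Γ(S, V)], α (c.app P (pz (e z))) = pz (e z) := by
    intro z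
    have hz : z ∈ Submodule.span Γ(X, W) (Set.range (KaehlerDifferential.D Γ(S, V) Γ(X, W))) := by
      rw [KaehlerDifferential.span_range_derivation]; trivial
    induction hz using Submodule.span_induction with
    | mem y hy => obtain ⟨a, rfl⟩ := hy; rw [he, hcz]; exact hα a
    | zero =>
      show α (cL (pzL 0)) = pzL 0
      rw [map_zero pzL, map_zero, map_zero]
    | add y z _ _ hy hz =>
      show α (cL (pzL (y + z))) = pzL (y + z)
      rw [map_add pzL, map_add, map_add]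
      exact congrArg₂ (· + ·) hy hz
    | smul r y _ hy =>
      show α (cL (pz (e (r • y)))) = pz (e (r • y))
      rw [map_smul e, hpzs, map_smul, map_smul]
      exact congrArg _ hy
  refine ⟨Function.LeftInverse.injective (g := α) fun s => ?_, fun t' => ⟨α t', ?_⟩⟩
  · have hs : s ∈ Submodule.span Γ(X', P) (Set.range pz) := by
      rw [SchBasics.span_pullSect g' Ω hP (hW) ePW]; trivial
    show α (cL s) = s
    induction hs using Submodule.span_induction with
    | mem y hy => obtain ⟨m, rfl⟩ := hy; obtain ⟨z, rfl⟩ := e.surjective m; exact hgen z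
    | zero => rw [map_zero, map_zero]
    | add y z _ _ hy hz => rw [map_add, map_add, hy, hz]
    | smul r y _ hy => rw [map_smul, map_smul, hy]
  · obtain ⟨w, rfl⟩ := e'.surjective t'
    obtain ⟨v, rfl⟩ := t.surjective w
    show cL (α (e' _)) = _
    induction v with
    | zero => simp only [map_zero]
    | add y z hy hz => simp only [map_add, hy, hz]
    | tmul r z =>
      have hz : z ∈ Submodule.span Γ(X, W) (Set.range (KaehlerDifferential.D Γ(S, V) Γ(X, W))) := by
        rw [KaehlerDifferential.span_range_derivation]; trivial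
      rw [← mul_one r, ← smul_eq_mul, ← TensorProduct.smul_tmul', map_smul, map_smul, map_smul, map_smul]
      congr 1
      induction hz using Submodule.span_induction with
      | mem y hy =>
        obtain ⟨a, rfl⟩ := hy
        rw [ht, he']
        refine (congrArg cL (hα a)).trans ?_
        exact hcz a
      | zero => simp only [TensorProduct.tmul_zero, map_zero]
      | add y z _ _ hy hz => simp only [TensorProduct.tmul_add, map_add, hy, hz]
      | smul q y _ hy =>
        rw [TensorProduct.tmul_smul, ← algebraMap_smul Γ(X', P) q, map_smul, map_smul, map_smul, map_smul, hy]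

theorem isIso_of_isPullback {X S X' S' : Scheme.{u}} (f : X ⟶ S) (g : S' ⟶ S) (g' : X' ⟶ X) (f' : X' ⟶ S')
    (hsq : IsPullback g' f' f g) {Ω : X.Modules} {d : OmegaSh.Der f Ω} (hd : OmegaSh.IsUniversal d)
    {Ω' : X'.Modules} {d' : OmegaSh.Der f' Ω'} (hd' : OmegaSh.IsUniversal d')
    (c : (Scheme.Modules.pullback g').obj Ω ⟶ Ω') (hc : OmegaSh.IsDiffCompat g' d d' c) : IsIso c := by
  haveI := SchBasics.isQuasicoherent_of_isUniversal hd
  haveI := SchBasics.isQuasicoherent_of_isUniversal hd'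
  haveI : ((Scheme.Modules.pullback g').obj Ω).IsQuasicoherent := QCPull72.isQuasicoherent_pullback g' Ω
  have hex : ∀ x : X', ∃ (V : S.Opens) (U : S'.Opens) (W : X.Opens), IsAffineOpen V ∧ IsAffineOpen U ∧
      IsAffineOpen W ∧ U ≤ g ⁻¹ᵁ V ∧ W ≤ f ⁻¹ᵁ V ∧ x ∈ g' ⁻¹ᵁ W ⊓ f' ⁻¹ᵁ U := by
    intro x
    obtain ⟨_, ⟨V, hV, rfl⟩, hxV, -⟩ := S.isBasis_affineOpens.exists_subset_of_mem_open
      (show g (f' x) ∈ (⊤ : S.Opens) from trivial) (⊤ : S.Opens).isOpen
    obtain ⟨_, ⟨U, hU, rfl⟩, hxU, hUle⟩ := S'.isBasis_affineOpens.exists_subset_of_mem_open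
      (show f' x ∈ g ⁻¹ᵁ V from hxV) (g ⁻¹ᵁ V).isOpen
    have hfx : f (g' x) = g (f' x) := by
      rw [← Scheme.Hom.comp_apply, ← Scheme.Hom.comp_apply, hsq.w]
    obtain ⟨_, ⟨W, hW, rfl⟩, hxW, hWle⟩ := X.isBasis_affineOpens.exists_subset_of_mem_open
      (show g' x ∈ f ⁻¹ᵁ V by show f (g' x) ∈ V; rw [hfx]; exact hxV) (f ⁻¹ᵁ V).isOpen
    exact ⟨V, U, W, hV, hU, hW, hUle, hWle, hxW, hxU⟩
  choose V U W hV hU hW hUV hWV hx using hex
  have hP : ∀ x, IsAffineOpen (g' ⁻¹ᵁ W x ⊓ f' ⁻¹ᵁ U x) := fun x => by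
    haveI : IsAffine (U x) := hU x
    haveI : IsAffine (W x) := hW x
    haveI : IsAffine (V x) := hV x
    exact .of_isIso (Scheme.Hom.isPullback_resLE hsq (hUV x) (hWV x) rfl).isoPullback.hom
  refine EGA73.isIso_of_bijective_cover c (fun x => g' ⁻¹ᵁ W x ⊓ f' ⁻¹ᵁ U x) hP (fun x => ⟨x, hx x⟩)
    fun x => ?_
  let P : X'.Opens := g' ⁻¹ᵁ W x ⊓ f' ⁻¹ᵁ U x
  have ePW : P ≤ g' ⁻¹ᵁ W x := inf_le_left
  have ePU : P ≤ f' ⁻¹ᵁ U x := inf_le_right
  have hpush := (isIso_pushoutSection_iff hsq (hUV x) (hWV x) (rfl : P = _)).mp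
    (isIso_pushoutSection_of_isAffineOpen hsq (hUV x) (hWV x) rfl (hV x) (hU x) (hW x))
  algebraize [(f.appLE (V x) (W x) (hWV x)).hom, (g.appLE (V x) (U x) (hUV x)).hom,
    (g'.appLE (W x) P ePW).hom, (f'.appLE (U x) P ePU).hom,
    ((g.appLE (V x) (U x) (hUV x)) ≫ (f'.appLE (U x) P ePU)).hom]
  haveI : IsScalarTower Γ(S, V x) Γ(S', U x) Γ(X', P) := IsScalarTower.of_algebraMap_eq fun _ => rfl
  haveI : IsScalarTower Γ(S, V x) Γ(X, W x) Γ(X', P) :=
    IsScalarTower.of_algebraMap_eq fun r => (congr($(hpush.w) r)).symm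
  haveI : Algebra.IsPushout Γ(S, V x) Γ(X, W x) Γ(S', U x) Γ(X', P) :=
    CommRingCat.isPushout_iff_isPushout.mp hpush
  haveI : Algebra.IsPushout Γ(S, V x) Γ(S', U x) Γ(X, W x) Γ(X', P) := .symm inferInstance
  refine bijective_app hd hd' hc (hV x) (hU x) (hW x) (hWV x) (hP x) ePW ePU
    ⟨KaehlerDifferential.tensorKaehlerEquiv Γ(S, V x) Γ(S', U x) Γ(X, W x) Γ(X', P), fun a => ?_⟩
  rw [KaehlerDifferential.tensorKaehlerEquiv_tmul_D, one_smul]
  rfl

end Groth.Agent.Om3
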