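import Groth.Agent.SchBasics.OmegaChart

/-! The canonical maps between sheaves of differentials; derivations on affine schemes. -/

set_option autoImplicit false
set_option backward.isDefEq.respectTransparency false

universe u

open CategoryTheory CategoryTheory.Limits AlgebraicGeometry TopologicalSpace Opposite

noncomputable section

namespace Groth.Agent.Om3

open Groth.Agent Var76.OmegaUniv QC70

variable {X S X' S' : Scheme.{u}} {f : X ⟶ S} {f' : X' ⟶ S'} (h : X' ⟶ X) {b : S' ⟶ S}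

/-- A derivation of the source of a square, pushed forward. -/
def pushDerSquare (hsq : f' ≫ b = h ≫ f) {F : X'.Modules} (D : OmegaSh.Der f' F) :
    OmegaSh.Der f ((Scheme.Modules.pushforward h).obj F) where
  d {W} := AddMonoidHom.mk' (fun a => D.app (h ⁻¹ᵁ W.unop) (h.app W.unop a)) fun a b => by
    rw [map_add]; exact map_add _ _ _
  d_mul {W} a c := by
    show D.app (h ⁻¹ᵁ W.unop) (h.app W.unop (a * c)) = _
    rw [map_mul, Der.map_mul]
    rfl
  d_map {W W'} i a := by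
    show D.app (h ⁻¹ᵁ W'.unop) (h.app W'.unop (X.presheaf.map i a)) = _
    have hn : h.app W'.unop (X.presheaf.map i a) =
        resO X' (h.preimage_mono i.unop.le) (h.app W.unop a) :=
      congr($(Scheme.Hom.naturality h i) a)
    rw [hn, Der.res]
    rfl
  d_app {V} c := by
    show D.app _ (h.app (f ⁻¹ᵁ V.unop) (f.app V.unop c)) = 0
    have key : ∀ (g : X' ⟶ S) (e : h ⁻¹ᵁ (f ⁻¹ᵁ V.unop) ≤ g ⁻¹ᵁ V.unop), g = h ≫ f →
        h.app (f ⁻¹ᵁ V.unop) (f.app V.unop c) = g.appLE V.unop _ e c := by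
      rintro g e rfl
      rw [Scheme.Hom.appLE, Scheme.Hom.comp_app]
      show _ = X'.presheaf.map (𝟙 _) _
      rw [CategoryTheory.Functor.map_id]
      rfl
    have e : h ⁻¹ᵁ (f ⁻¹ᵁ V.unop) ≤ (f' ≫ b) ⁻¹ᵁ V.unop := by rw [hsq]; exact le_rfl
    rw [key (f' ≫ b) e hsq, Scheme.Hom.comp_appLE, ConcreteCategory.comp_apply]
    exact Der.appLE D _ _

theorem existsUnique_diffCompat (hsq : f' ≫ b = h ≫ f) {Ω : X.Modules} {d : OmegaSh.Der f Ω}
    (hd : OmegaSh.IsUniversal d) {Ω' : X'.Modules} (d' : OmegaSh.Der f' Ω') :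
    ∃! c : (Scheme.Modules.pullback h).obj Ω ⟶ Ω', OmegaSh.IsDiffCompat h d d' c := by
  let adj := Scheme.Modules.pullbackPushforwardAdjunction h
  obtain ⟨α, hα, hu⟩ := hd _ (pushDerSquare h hsq d')
  have hval : ∀ W a, α.app W (d.app W a) = d'.app (h ⁻¹ᵁ W) (h.app W a) := fun W a =>
    congrArg (fun D : OmegaSh.Der f _ => D.app W a) hα
  have hiff : ∀ c W a, c.app (h ⁻¹ᵁ W) (OmegaSh.pullSect h Ω W (d.app W a)) =
      (adj.homEquiv Ω Ω' c).app W (d.app W a) := fun c W a => by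
    rw [Adjunction.homEquiv_unit]
    rfl
  refine ⟨(adj.homEquiv _ _).symm α, fun W a => ?_, fun c hc => ?_⟩
  · rw [hiff, Equiv.apply_symm_apply, hval]
  · rw [Equiv.eq_symm_apply]
    refine hu _ (PresheafOfModules.Derivation.ext (funext fun W => AddMonoidHom.ext fun a => ?_))
    exact (hiff c W.unop a).symm.trans (hc W.unop a)

theorem der_affine [IsAffine X] [IsAffine S] (f : X ⟶ S) (F : X.Modules) :
    Function.Injective (fun D : OmegaSh.Der f F => D.app ⊤) ∧
      ∀ δ : Γ(X, ⊤) →+ Γ(F, ⊤),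
        ((∀ a b : Γ(X, ⊤), δ (a * b) = a • δ b + b • δ a) ∧ ∀ c : Γ(S, ⊤), δ (f.appTop c) = 0) ↔
          ∃ D : OmegaSh.Der f F, D.app ⊤ = δ := by
  haveI : QuasiSeparated f := .of_comp _ (terminal.from S)
  haveI : (Omega.sheaf f).IsQuasicoherent := Omega57.isQuasicoherent_omega f
  have hU := isAffineOpen_top X
  have hV := isAffineOpen_top S
  have htop : (⊤ : X.Opens) ≤ f ⁻¹ᵁ ⊤ := le_top
  have happ : ∀ c, f.appLE ⊤ ⊤ htop c = f.appTop c := fun c => by
    rw [Scheme.Hom.appLE]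
    show X.presheaf.map (𝟙 _) _ = _
    rw [CategoryTheory.Functor.map_id]
    rfl
  refine ⟨fun D D' hDD => ?_, fun δ => ⟨fun hδ => ?_, ?_⟩⟩
  · obtain ⟨α, rfl, -⟩ := isUniversal f F D
    obtain ⟨α', rfl, -⟩ := isUniversal f F D'
    congr 2
    refine Omega57.hom_ext_top hU α α' fun m => ?_
    induction m using sect_induction hU hV htop with
    | hd a => exact DFunLike.congr_fun hDD a
    | h0 => rw [map_zero, map_zero]
    | hadd y z hy hz => rw [map_add, map_add, hy, hz]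
    | hsmul a y hy => rw [Scheme.Modules.Hom.app_smul, Scheme.Modules.Hom.app_smul, hy]
  · letI := (f.appLE ⊤ ⊤ htop).hom.toAlgebra
    let δ' : (OmAff.sectMod F ⊤).Derivation (f.appLE ⊤ ⊤ htop) :=
      ModuleCat.Derivation.mk (fun b => δ b) (fun a b => map_add _ a b) (fun a b => hδ.1 a b)
        (fun c => (congrArg δ (happ c)).trans (hδ.2 c))
    haveI := Omega57.isIso_toSect f hU hV htop
    let g := inv (OmAff.toSect f ⊤ ⊤ htop) ≫ δ'.desc
    let φ : HomOn (Omega.sheaf f) F ⊤ := HomOn.ofLinear hU g.hom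
    refine ⟨(OmegaSh.dOmega f).postcomp φ.toHom.val, AddMonoidHom.ext fun a => ?_⟩
    show φ.toHom.app ⊤ (OmegaSh.dSect f ⊤ a) = δ a
    rw [HomOn.toHom_app, HomOn.ofLinear_app_self]
    show δ'.desc (inv (OmAff.toSect f ⊤ ⊤ htop) (OmegaSh.dSect f ⊤ a)) = _
    rw [← OmAff.toSect_d f ⊤ ⊤ htop a, ← ConcreteCategory.comp_apply (OmAff.toSect f ⊤ ⊤ htop),
      IsIso.hom_inv_id]
    exact δ'.desc_d a
  · rintro ⟨D, rfl⟩
    exact ⟨fun a b => Der.map_mul D ⊤ a b, fun c => by rw [← happ c]; exact Der.appLE D htop c⟩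

end Groth.Agent.Om3
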