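import Groth.Agent.Om3.BaseChange
import Mathlib.RingTheory.Etale.Kaehler
import Mathlib.AlgebraicGeometry.Morphisms.Etale

/-! Differentials in a square with etale horizontal maps. -/

set_option autoImplicit false
set_option backward.isDefEq.respectTransparency false

universe u

open CategoryTheory CategoryTheory.Limits AlgebraicGeometry TopologicalSpace Opposite TensorProduct

noncomputable section

namespace Groth.Agent.Om3

open Groth.Agent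

theorem exists_kaehler_equiv (A₁ B₁ A₂ B₂ : Type u) [CommRing A₁] [CommRing B₁] [CommRing A₂] [CommRing B₂]
    [Algebra A₁ B₁] [Algebra A₁ A₂] [Algebra A₂ B₂] [Algebra B₁ B₂] [Algebra A₁ B₂] [IsScalarTower A₁ B₁ B₂]
    [IsScalarTower A₁ A₂ B₂] [Algebra.FormallyUnramified A₁ A₂] [Algebra.FormallyEtale B₁ B₂] :
    ∃ t : B₂ ⊗[B₁] Ω[B₁⁄A₁] ≃ₗ[B₂] Ω[B₂⁄A₂], ∀ a,
      t (1 ⊗ₜ KaehlerDifferential.D A₁ B₁ a) = KaehlerDifferential.D A₂ B₂ (algebraMap B₁ B₂ a) := by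
  let m := KaehlerDifferential.map A₁ A₂ B₂ B₂
  have hb : Function.Bijective m := by
    refine ⟨(injective_iff_map_eq_zero m).2 fun x hx => ?_, KaehlerDifferential.map_surjective A₁ A₂ B₂⟩
    obtain ⟨y, rfl⟩ := (KaehlerDifferential.exact_mapBaseChange_map A₁ A₂ B₂ x).1 hx
    induction y with
    | zero => rw [map_zero]
    | add y z hy hz =>
      rw [map_add] at hx ⊢
      rw [hy (by
        show m _ = 0
        exact (KaehlerDifferential.exact_mapBaseChange_map A₁ A₂ B₂ _).2 ⟨y, rfl⟩),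
        hz ((KaehlerDifferential.exact_mapBaseChange_map A₁ A₂ B₂ _).2 ⟨z, rfl⟩), add_zero]
    | tmul b w => rw [Subsingleton.elim w 0, TensorProduct.tmul_zero, map_zero]
  refine ⟨(KaehlerDifferential.tensorKaehlerEquivOfFormallyEtale A₁ B₁ B₂).trans (LinearEquiv.ofBijective m hb),
    fun a => ?_⟩
  show m (KaehlerDifferential.tensorKaehlerEquivOfFormallyEtale A₁ B₁ B₂ (1 ⊗ₜ _)) = _
  rw [KaehlerDifferential.tensorKaehlerEquivOfFormallyEtale_apply, KaehlerDifferential.mapBaseChange_tmul,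
    one_smul, KaehlerDifferential.map_D, KaehlerDifferential.map_D]
  rfl

theorem isIso_of_etale {X₁ S₁ X₂ S₂ : Scheme.{u}} {p₁ : X₁ ⟶ S₁} {p₂ : X₂ ⟶ S₂} (f : X₂ ⟶ X₁) (g : S₂ ⟶ S₁)
    [Etale f] [Etale g] (hsq : f ≫ p₁ = p₂ ≫ g)
    {Ω₁ : X₁.Modules} {d₁ : OmegaSh.Der p₁ Ω₁} (hd₁ : OmegaSh.IsUniversal d₁)
    {Ω₂ : X₂.Modules} {d₂ : OmegaSh.Der p₂ Ω₂} (hd₂ : OmegaSh.IsUniversal d₂)
    (c : (Scheme.Modules.pullback f).obj Ω₁ ⟶ Ω₂) (hc : OmegaSh.IsDiffCompat f d₁ d₂ c) : IsIso c := by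
  haveI := SchBasics.isQuasicoherent_of_isUniversal hd₁
  haveI := SchBasics.isQuasicoherent_of_isUniversal hd₂
  haveI : ((Scheme.Modules.pullback f).obj Ω₁).IsQuasicoherent := QCPull72.isQuasicoherent_pullback f Ω₁
  have hex : ∀ x : X₂, ∃ (V : S₁.Opens) (U : S₂.Opens) (W : X₁.Opens) (P : X₂.Opens), IsAffineOpen V ∧
      IsAffineOpen U ∧ IsAffineOpen W ∧ IsAffineOpen P ∧ U ≤ g ⁻¹ᵁ V ∧ W ≤ p₁ ⁻¹ᵁ V ∧ P ≤ f ⁻¹ᵁ W ∧
      P ≤ p₂ ⁻¹ᵁ U ∧ x ∈ P := by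
    intro x
    obtain ⟨_, ⟨V, hV, rfl⟩, hxV, -⟩ := S₁.isBasis_affineOpens.exists_subset_of_mem_open
      (show g (p₂ x) ∈ (⊤ : S₁.Opens) from trivial) (⊤ : S₁.Opens).isOpen
    obtain ⟨_, ⟨U, hU, rfl⟩, hxU, hUle⟩ := S₂.isBasis_affineOpens.exists_subset_of_mem_open
      (show p₂ x ∈ g ⁻¹ᵁ V from hxV) (g ⁻¹ᵁ V).isOpen
    have hfx : p₁ (f x) = g (p₂ x) := by
      rw [← Scheme.Hom.comp_apply, ← Scheme.Hom.comp_apply, hsq]
    obtain ⟨_, ⟨W, hW, rfl⟩, hxW, hWle⟩ := X₁.isBasis_affineOpens.exists_subset_of_mem_open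
      (show f x ∈ p₁ ⁻¹ᵁ V by show p₁ (f x) ∈ V; rw [hfx]; exact hxV) (p₁ ⁻¹ᵁ V).isOpen
    obtain ⟨_, ⟨P, hP, rfl⟩, hxP, hPle⟩ := X₂.isBasis_affineOpens.exists_subset_of_mem_open
      (show x ∈ f ⁻¹ᵁ W ⊓ p₂ ⁻¹ᵁ U from ⟨hxW, hxU⟩) (f ⁻¹ᵁ W ⊓ p₂ ⁻¹ᵁ U).isOpen
    exact ⟨V, U, W, P, hV, hU, hW, hP, hUle, hWle, hPle.trans inf_le_left, hPle.trans inf_le_right, hxP⟩
  choose V U W P hV hU hW hP hUV hWV hPW hPU hx using hex
  refine EGA73.isIso_of_bijective_cover c P hP (fun x => ⟨x, hx x⟩) fun x => ?_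
  have hge := g.etale_appLE (hV x) (hU x) (hUV x)
  have hfe := f.etale_appLE (hW x) (hP x) (hPW x)
  refine bijective_app hd₁ hd₂ hc (hV x) (hU x) (hW x) (hWV x) (hP x) (hPW x) (hPU x) ?_
  letI := (g.appLE (V x) (U x) (hUV x)).hom.toAlgebra
  letI := (p₁.appLE (V x) (W x) (hWV x)).hom.toAlgebra
  letI := (p₂.appLE (U x) (P x) (hPU x)).hom.toAlgebra
  letI := (f.appLE (W x) (P x) (hPW x)).hom.toAlgebra
  letI := ((g.appLE (V x) (U x) (hUV x)) ≫ (p₂.appLE (U x) (P x) (hPU x))).hom.toAlgebra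
  haveI : IsScalarTower Γ(S₁, V x) Γ(S₂, U x) Γ(X₂, P x) := IsScalarTower.of_algebraMap_eq fun _ => rfl
  haveI : IsScalarTower Γ(S₁, V x) Γ(X₁, W x) Γ(X₂, P x) := IsScalarTower.of_algebraMap_eq fun r => by
    show p₂.appLE _ _ _ (g.appLE _ _ _ r) = f.appLE _ _ _ (p₁.appLE _ _ _ r)
    rw [← ConcreteCategory.comp_apply, ← ConcreteCategory.comp_apply, Scheme.Hom.appLE_comp_appLE,
      Scheme.Hom.appLE_comp_appLE]
    exact congr($(OmegaSh.appLE_congr_hom hsq.symm _ _) r)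
  haveI h1 : Algebra.Etale Γ(S₁, V x) Γ(S₂, U x) := hge
  haveI h2 : Algebra.Etale Γ(X₁, W x) Γ(X₂, P x) := hfe
  exact exists_kaehler_equiv Γ(S₁, V x) Γ(X₁, W x) Γ(S₂, U x) Γ(X₂, P x)

end Groth.Agent.Om3
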