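import Groth.Agent.Om3.ExtPowPull
import Groth.Agent.Om3.BaseChange
import Groth.Agent.Om3.EtaleSquare
import Groth.Agent.Om3.Compat
import Groth.Agent.Var76.OmegaUniv

/-! Exterior powers of differentials under cartesian and etale squares. -/

set_option autoImplicit false

universe u

open CategoryTheory CategoryTheory.Limits AlgebraicGeometry

namespace Groth.Agent.Om3

open Groth.Agent

variable {X S X' S' : Scheme.{u}} {f : X ⟶ S} {f' : X' ⟶ S'} {g : X' ⟶ X} {h : S' ⟶ S}
  [QuasiSeparated f] [QuasiSeparated f'] {p : ℕ} {L : X.Modules}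

theorem isExtPow_omega_of_isIso (w : f' ≫ h = g ≫ f)
    (hiso : ∀ c : (Scheme.Modules.pullback g).obj (Omega.sheaf f) ⟶ Omega.sheaf f',
      OmegaSh.IsDiffCompat g (OmegaSh.dOmega f) (OmegaSh.dOmega f') c → IsIso c)
    (hL : ExtPow.IsExtPow p (Omega.sheaf f) L) :
    ExtPow.IsExtPow p (Omega.sheaf f') ((Scheme.Modules.pullback g).obj L) := by
  obtain ⟨c, hc, -⟩ := existsUnique_diffCompat g w (Var76.OmegaUniv.isUniversal f) (OmegaSh.dOmega f')
  haveI := hiso c hc
  haveI := Omega57.isQuasicoherent_omega f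
  exact isExtPow_of_iso (asIso c) (isExtPow_pullback g hL)

theorem isExtPow_omega_of_isPullback (sq : IsPullback g f' f h) (hL : ExtPow.IsExtPow p (Omega.sheaf f) L) :
    ExtPow.IsExtPow p (Omega.sheaf f') ((Scheme.Modules.pullback g).obj L) :=
  isExtPow_omega_of_isIso sq.w.symm (fun c hc => isIso_of_isPullback f h g f' sq
    (Var76.OmegaUniv.isUniversal f) (Var76.OmegaUniv.isUniversal f') c hc) hL

theorem isExtPow_omega_of_etale (w : g ≫ f = f' ≫ h) [Etale g] [Etale h]
    (hL : ExtPow.IsExtPow p (Omega.sheaf f) L) :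
    ExtPow.IsExtPow p (Omega.sheaf f') ((Scheme.Modules.pullback g).obj L) :=
  isExtPow_omega_of_isIso w.symm (fun c hc => isIso_of_etale g h w
    (Var76.OmegaUniv.isUniversal f) (Var76.OmegaUniv.isUniversal f') c hc) hL

end Groth.Agent.Om3
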