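import Groth.Prelude.Def_Omega3
import Groth.Agent.An92.FSch.Basic
import Groth.Agent.S1434

/-! Formal properties of universal first order thickenings. -/

set_option autoImplicit false
set_option backward.isDefEq.respectTransparency false

universe u

open CategoryTheory CategoryTheory.Limits AlgebraicGeometry TopologicalSpace MoreMor

namespace Groth.Agent.Om3

open Groth.Agent

theorem fot_of_isPullback {P X Y Z : Scheme.{u}} {fst : P ⟶ X} {snd : P ⟶ Y} {f : X ⟶ Z} {g : Y ⟶ Z}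
    (h : IsPullback fst snd f g) (hg : IsFirstOrderThickening g) : IsFirstOrderThickening fst := by
  haveI := hg.1.1
  haveI := hg.1.2
  haveI hc : IsClosedImmersion fst := MorphismProperty.of_isPullback h.flip ‹IsClosedImmersion g›
  have hs : Surjective fst := MorphismProperty.of_isPullback h.flip ‹Surjective g›
  refine ⟨⟨hc, hs⟩, ?_⟩
  rw [An92.FSch.comap_ker_of_isPullback h, ← MP99.comap_mul, hg.2, Scheme.IdealSheafData.comap_bot]

theorem fot_of_comp {Z P W : Scheme.{u}} (l : Z ⟶ P) (s : P ⟶ W) [IsClosedImmersion s] (i : Z ⟶ W)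
    (hls : l ≫ s = i) (hi : IsFirstOrderThickening i) : IsFirstOrderThickening l := by
  have hm : IsPullback l (𝟙 Z) s i := by
    refine IsPullback.of_isLimit' ⟨by rw [Category.id_comp, hls]⟩ ?_
    refine PullbackCone.IsLimit.mk _ (fun c => c.snd) (fun c => ?_) (fun c => Category.comp_id _)
      (fun c m _ h2 => (Category.comp_id m).symm.trans h2)
    rw [← cancel_mono s, Category.assoc, hls]
    exact c.condition.symm
  haveI := hi.1.1
  haveI := hi.1.2
  haveI : IsClosedImmersion (l ≫ s) := hls ▸ inferInstance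
  haveI hc : IsClosedImmersion l := IsClosedImmersion.of_comp l s
  refine ⟨⟨hc, ⟨fun p => ?_⟩⟩, ?_⟩
  · obtain ⟨z, hz⟩ := i.surjective (s p)
    refine ⟨z, s.isEmbedding.injective ?_⟩
    rw [← Scheme.Hom.comp_apply, hls, hz]
  rw [An92.FSch.comap_ker_of_isPullback hm, ← MP99.comap_mul, hi.2, Scheme.IdealSheafData.comap_bot]

/-- A map out of a thickening lands in an open as soon as its restriction does. -/
theorem range_subset_of_thickening {T T' X U : Scheme.{u}} {j : T ⟶ T'} (hj : IsFirstOrderThickening j)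
    (o : U ⟶ X) (b : T' ⟶ X) (a : T ⟶ U) (h : j ≫ b = a ≫ o) : Set.range b ⊆ Set.range o := by
  rintro _ ⟨p, rfl⟩
  obtain ⟨q, rfl⟩ := hj.1.2.surj p
  exact ⟨a q, by rw [← Scheme.Hom.comp_apply, ← h]; rfl⟩

theorem univ_baseChange {Z X W Y W' : Scheme.{u}} (h : Z ⟶ X) (f : Z ⟶ W) (g : X ⟶ Y) (h' : W ⟶ Y)
    (hc : IsPullback h f g h') (j : W ⟶ W') (k : W' ⟶ Y) (hu : OmegaSh.IsUnivThickening h' j k)
    (hw : h ≫ g = (f ≫ j) ≫ k) :
    OmegaSh.IsUnivThickening h (pullback.lift h (f ≫ j) hw) (pullback.fst g k) := by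
  set l := pullback.lift h (f ≫ j) hw
  have hsq : IsPullback l f (pullback.snd g k) j := by
    refine IsPullback.of_right ?_ (pullback.lift_snd _ _ _) (IsPullback.of_hasPullback g k)
    rw [pullback.lift_fst, hu.2.1]
    exact hc
  refine ⟨fot_of_isPullback hsq hu.1, pullback.lift_fst _ _ _, fun T T' jT b a hT hab => ?_⟩
  have hab' : jT ≫ b ≫ g = (a ≫ f) ≫ h' := by rw [← Category.assoc, hab, Category.assoc, hc.w, Category.assoc]
  obtain ⟨a'', ⟨h1, h2⟩, huq⟩ := hu.2.2 T T' jT (b ≫ g) (a ≫ f) hT hab'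
  refine ⟨pullback.lift b a'' h2.symm, ⟨?_, pullback.lift_fst _ _ _⟩, fun c hc' => ?_⟩
  · refine pullback.hom_ext ?_ ?_
    · rw [Category.assoc, pullback.lift_fst, hab, Category.assoc, pullback.lift_fst]
    · rw [Category.assoc, pullback.lift_snd, h1, Category.assoc, Category.assoc, pullback.lift_snd]
  · refine pullback.hom_ext (by rw [hc'.2, pullback.lift_fst]) ?_
    rw [pullback.lift_snd]
    refine huq _ ⟨?_, ?_⟩
    · rw [← Category.assoc, hc'.1, Category.assoc, pullback.lift_snd, Category.assoc]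
    · rw [Category.assoc, ← pullback.condition, ← Category.assoc, hc'.2]

theorem univ_restrict {Z Z' X : Scheme.{u}} (h : Z ⟶ X) (i : Z ⟶ Z') (h' : Z' ⟶ X)
    (hu : OmegaSh.IsUnivThickening h i h') (V : Z.Opens) (U : X.Opens) (hVU : V ≤ h ⁻¹ᵁ U)
    (V' : Z'.Opens) (hV' : i ⁻¹ᵁ V' = V) (hV'U : V' ≤ h' ⁻¹ᵁ U) :
    OmegaSh.IsUnivThickening (h.resLE U V hVU) (i.resLE V' V hV'.ge) (h'.resLE U V' hV'U) := by
  subst hV'
  have hsq : IsPullback (i.resLE V' (i ⁻¹ᵁ V') le_rfl) (i ⁻¹ᵁ V').ι V'.ι i := by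
    rw [Scheme.Hom.resLE_eq_morphismRestrict]
    exact (isPullback_morphismRestrict i V')
  refine ⟨fot_of_isPullback hsq hu.1, ?_, fun T T' j b a hj hab => ?_⟩
  · rw [← cancel_mono U.ι]
    simp [hu.2.1]
  have hab' : j ≫ b ≫ U.ι = (a ≫ (i ⁻¹ᵁ V').ι) ≫ h := by
    rw [← Category.assoc, hab]
    simp
  obtain ⟨a', ⟨h1, h2⟩, huq⟩ := hu.2.2 T T' j (b ≫ U.ι) (a ≫ (i ⁻¹ᵁ V').ι) hj hab'
  have hr := range_subset_of_thickening hj V'.ι a' (a ≫ i.resLE V' (i ⁻¹ᵁ V') le_rfl)
    (by rw [h1]; simp)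
  refine ⟨IsOpenImmersion.lift V'.ι a' hr, ⟨?_, ?_⟩, fun c hc => ?_⟩
  · rw [← cancel_mono V'.ι]
    simp [h1]
  · rw [← cancel_mono U.ι]
    simp [h2]
  · rw [← cancel_mono V'.ι, IsOpenImmersion.lift_fac]
    refine huq _ ⟨?_, ?_⟩
    · rw [← Category.assoc, hc.1]; simp
    · rw [← hc.2]; simp

theorem univ_comp {Z Y X Z' Y' : Scheme.{u}} (a : Z ⟶ Y) (b : Y ⟶ X)
    (i : Z ⟶ Z') (c : Z' ⟶ X) (hZ : OmegaSh.IsUnivThickening (a ≫ b) i c)
    (j : Y ⟶ Y') (d : Y' ⟶ X) (hY : OmegaSh.IsUnivThickening b j d) :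
    ∃ (m : Z' ⟶ Y') (hm : i ≫ m = a ≫ j), m ≫ d = c ∧
      OmegaSh.IsUnivThickening a (pullback.lift a i hm.symm) (pullback.fst j m) := by
  obtain ⟨m, ⟨hm, hmd⟩, -⟩ := hY.2.2 Z Z' i c a hZ.1 hZ.2.1
  refine ⟨m, hm, hmd, ?_⟩
  set l := pullback.lift a i hm.symm
  haveI := hY.1.1.1
  haveI : IsClosedImmersion (pullback.snd j m) := inferInstance
  refine ⟨fot_of_comp l (pullback.snd j m) i (pullback.lift_snd _ _ _) hZ.1, pullback.lift_fst _ _ _,
    fun T T' jT b₀ a₀ hT hab => ?_⟩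
  have hab' : jT ≫ b₀ ≫ b = a₀ ≫ a ≫ b := by rw [← Category.assoc, hab, Category.assoc]
  obtain ⟨a', ⟨h1, h2⟩, huq⟩ := hZ.2.2 T T' jT (b₀ ≫ b) a₀ hT hab'
  have hcond : b₀ ≫ j = a' ≫ m := by
    refine (hY.2.2 T T' jT (b₀ ≫ b) (a₀ ≫ a) hT (by rw [hab', Category.assoc])).unique ?_ ?_
    · exact ⟨by rw [← Category.assoc, hab], by rw [Category.assoc, hY.2.1]⟩
    · exact ⟨by rw [← Category.assoc, h1, Category.assoc, hm, Category.assoc],
        by rw [Category.assoc, hmd, h2]⟩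
  refine ⟨pullback.lift b₀ a' hcond, ⟨?_, pullback.lift_fst _ _ _⟩, fun e he => ?_⟩
  · refine pullback.hom_ext ?_ ?_
    · rw [Category.assoc, pullback.lift_fst, hab, Category.assoc, pullback.lift_fst]
    · rw [Category.assoc, pullback.lift_snd, h1, Category.assoc, pullback.lift_snd]
  · refine pullback.hom_ext (by rw [he.2, pullback.lift_fst]) ?_
    rw [pullback.lift_snd]
    refine huq _ ⟨?_, ?_⟩
    · rw [← Category.assoc, he.1, Category.assoc, pullback.lift_snd]
    · rw [← hmd, ← Category.assoc (e ≫ _), Category.assoc e, ← pullback.condition, ← Category.assoc e, he.2,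
        Category.assoc, hY.2.1]

theorem univ_nbhd {X : Scheme.{u}} (U : X.Opens) (I : (U : Scheme.{u}).IdealSheafData) (h : I ^ 2 ≤ I) :
    OmegaSh.IsUnivThickening (I.subschemeι ≫ U.ι) (Scheme.IdealSheafData.inclusion h)
      ((I ^ 2).subschemeι ≫ U.ι) := by
  set l := Scheme.IdealSheafData.inclusion h
  have hl : l ≫ (I ^ 2).subschemeι = I.subschemeι := Scheme.IdealSheafData.inclusion_subschemeι h
  haveI : IsClosedImmersion (l ≫ (I ^ 2).subschemeι) := hl ▸ inferInstance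
  haveI : IsClosedImmersion l := IsClosedImmersion.of_comp l (I ^ 2).subschemeι
  refine ⟨⟨⟨inferInstance, ⟨fun p => ?_⟩⟩, ?_⟩, by rw [reassoc_of% hl], fun T T' j b a hj hab => ?_⟩
  · have hp : (I ^ 2).subschemeι p ∈ Set.range I.subschemeι := by
      rw [Scheme.IdealSheafData.range_subschemeι, ← Scheme.IdealSheafData.support_pow I 2 two_ne_zero,
        ← Scheme.IdealSheafData.range_subschemeι]
      exact ⟨p, rfl⟩
    obtain ⟨z, hz⟩ := hp
    exact ⟨z, (I ^ 2).subschemeι.isEmbedding.injective (by rw [← Scheme.Hom.comp_apply, hl, hz])⟩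
  · have hm : IsPullback l (𝟙 _) (I ^ 2).subschemeι I.subschemeι := by
      refine IsPullback.of_isLimit' ⟨by rw [Category.id_comp, hl]⟩ ?_
      refine PullbackCone.IsLimit.mk _ (fun c => c.snd) (fun c => ?_) (fun c => Category.comp_id _)
        (fun c m _ h2 => (Category.comp_id m).symm.trans h2)
      rw [← cancel_mono (I ^ 2).subschemeι, Category.assoc, hl]
      exact c.condition.symm
    rw [An92.FSch.comap_ker_of_isPullback hm, ← MP99.comap_mul, Scheme.IdealSheafData.ker_subschemeι, ← sq]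
    exact (congrArg (fun J => J.comap (I ^ 2).subschemeι) (Scheme.IdealSheafData.ker_subschemeι (I ^ 2)).symm).trans
      (An92.FSch.comap_ker_self _)
  · have hr := range_subset_of_thickening hj U.ι b (a ≫ I.subschemeι) (by rw [hab, Category.assoc])
    obtain ⟨a', ha', hu⟩ := S1434.result I j hj a (IsOpenImmersion.lift U.ι b hr) (by
      rw [← cancel_mono U.ι, Category.assoc, hab.symm, Category.assoc, IsOpenImmersion.lift_fac])
    refine ⟨a', ⟨?_, ?_⟩, fun e he => hu e ?_⟩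
    · rw [← cancel_mono ((I ^ 2).subschemeι ≫ U.ι)]
      simp only [Category.assoc]
      rw [reassoc_of% ha', IsOpenImmersion.lift_fac, hab, reassoc_of% hl]
    · rw [reassoc_of% ha', IsOpenImmersion.lift_fac]
    · show e ≫ _ = _
      rw [← cancel_mono U.ι, Category.assoc, he.2, IsOpenImmersion.lift_fac]

end Groth.Agent.Om3
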