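import Groth.Agent.Om3.ConormalOmega
import Groth.Agent.Om3.UnivTh
import Groth.Agent.FlatMor67.LiftAffine
import Mathlib.AlgebraicGeometry.Morphisms.Smooth

/-! Global consequences of the chart form of the conormal sequence. -/

set_option autoImplicit false
set_option backward.isDefEq.respectTransparency false

universe u

open CategoryTheory CategoryTheory.Limits AlgebraicGeometry TopologicalSpace MoreMor

noncomputable section

namespace Groth.Agent.Om3

open Groth.Agent QC70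

variable {Z X Y : Scheme.{u}} {p : X ⟶ Y} {i : Z ⟶ X} {j : Z ⟶ Y} [IsImmersion i] [IsImmersion j]
  [QuasiCompact i] [QuasiCompact j] {Ω : X.Modules} {d : OmegaSh.Der p Ω}
  {ψ : (Scheme.Modules.pullback (𝟙 Z)).obj (Omega.conormal j) ⟶ Omega.conormal i}
  {φ : Omega.conormal i ⟶ (Scheme.Modules.pullback i).obj Ω}

theorem conormal_omega_exact (hd : OmegaSh.IsUniversal d) (hψ : OmegaSh.IsConormalMap i j p (𝟙 Z) ψ)
    (hφ : OmegaSh.IsConormalDiff i d φ) : ∃ w : ψ ≫ φ = 0, (ShortComplex.mk ψ φ w).Exact ∧ Epi φ := by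
  have chart : ∀ (O : Z.Opens) (z : Z), z ∈ O → ∃ P : Z.Opens, z ∈ P ∧ P ≤ O ∧
      (∀ x, φ.app P (ψ.app P x) = 0) ∧ (∀ x, φ.app P x = 0 → ∃ y, ψ.app P y = x) ∧
      Function.Surjective (φ.app P) := by
    intro O z hz
    obtain ⟨V, W, -, hV, hW, hle, hjV, hjs, his, hpre, hzP, hPO⟩ :=
      exists_compatible_chart p i j (hψ.1.symm.trans (Category.id_comp j)) hz (T := ⊤) trivial
    obtain ⟨h1, h2, h3, -⟩ := chart_seq hd hψ hφ hV hW hle hjV hjs his hpre
    exact ⟨_, hzP, hPO, h1, h2, h3⟩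
  have w := comp_eq_zero_of_basis ψ φ fun O z hz => by
    obtain ⟨P, h1, h2, h3, -, -⟩ := chart O z hz
    exact ⟨P, h1, h2, h3⟩
  exact ⟨w, exact_of_basis (ShortComplex.mk ψ φ w) fun O z hz => by
      obtain ⟨P, h1, h2, -, h4, -⟩ := chart O z hz
      exact ⟨P, h1, h2, h4⟩,
    epi_of_basis φ fun O z hz => by
      obtain ⟨P, h1, h2, -, -, h5⟩ := chart O z hz
      exact ⟨P, h1, h2, h5⟩⟩

theorem conormal_omega_shortExact_of_smooth [Smooth p] (hd : OmegaSh.IsUniversal d)
    (hψ : OmegaSh.IsConormalMap i j p (𝟙 Z) ψ) (hφ : OmegaSh.IsConormalDiff i d φ) :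
    ∃ w : ψ ≫ φ = 0, (ShortComplex.mk ψ φ w).ShortExact := by
  obtain ⟨w, hex, hepi⟩ := conormal_omega_exact hd hψ hφ
  have hij : i ≫ p = j := hψ.1.symm.trans (Category.id_comp j)
  have : Mono ψ := mono_of_basis ψ fun O z hz => by
    obtain ⟨V, W, -, hV, hW, hle, hjV, hjs, his, hpre, hzP, hPO⟩ :=
      exists_compatible_chart p i j hij hz (T := ⊤) trivial
    obtain ⟨-, -, -, h4⟩ := chart_seq hd hψ hφ hV hW hle hjV hjs his hpre
    refine ⟨_, hzP, hPO, ?_⟩
    obtain ⟨l, hl⟩ := h4 (by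
      have hsm : RingHom.Smooth (p.appLE V W hle).hom := p.smooth_appLE hV hW hle
      algebraize [(p.appLE V W hle).hom, (j.appLE V (i ⁻¹ᵁ W) hpre.le).hom]
      let q : (Γ(Y, V) ⧸ RingHom.ker (j.app V).hom ^ 2) →ₐ[Γ(Y, V)] Γ(Z, i ⁻¹ᵁ W) :=
        Ideal.Quotient.liftₐ _ (Algebra.ofId _ _) fun a ha => by
          show j.appLE V (i ⁻¹ᵁ W) hpre.le a = 0
          rw [Scheme.Hom.appLE, ConcreteCategory.comp_apply,
            RingHom.mem_ker.1 (Ideal.pow_le_self two_ne_zero ha), map_zero]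
      have hq : Function.Surjective q := fun c => by
        obtain ⟨r, hr⟩ := hjs (Z.presheaf.map (homOfLE hpre.ge).op c)
        refine ⟨Ideal.Quotient.mk _ r, ?_⟩
        show j.appLE V (i ⁻¹ᵁ W) hpre.le r = c
        rw [Scheme.Hom.appLE, ConcreteCategory.comp_apply, hr, ← ConcreteCategory.comp_apply, ← Functor.map_comp]
        show Z.presheaf.map (𝟙 _) c = c
        rw [CategoryTheory.Functor.map_id]
        rfl
      have hnil : IsNilpotent ((RingHom.ker q.toRingHom)) := by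
        refine ⟨2, le_bot_iff.1 ?_⟩
        have hle' : (RingHom.ker q.toRingHom) ≤
            (RingHom.ker (j.app V).hom).map (Ideal.Quotient.mk (RingHom.ker (j.app V).hom ^ 2)) := fun x hx => by
          obtain ⟨x, rfl⟩ := Ideal.Quotient.mk_surjective x
          refine Ideal.mem_map_of_mem _ (RingHom.mem_ker.2 ?_)
          have h0 : j.appLE V (i ⁻¹ᵁ W) hpre.le x = 0 := hx
          rw [Scheme.Hom.appLE, ConcreteCategory.comp_apply] at h0
          exact (ConcreteCategory.bijective_of_isIso (Z.presheaf.map (eqToHom hpre).op)).1 (h0.trans (map_zero _).symm)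
        refine (Ideal.pow_right_mono hle' 2).trans ?_
        rw [← Ideal.map_pow, Ideal.map_quotient_self]
      have hcomp : ∀ r, i.app W (p.appLE V W hle r) = j.appLE V (i ⁻¹ᵁ W) hpre.le r := by
        have key : ∀ (q : Z ⟶ Y) (e : i ⁻¹ᵁ W ≤ q ⁻¹ᵁ V), q = i ≫ p → ∀ r,
            i.app W (p.appLE V W hle r) = q.appLE V _ e r := by
          rintro q e rfl r
          show (p.appLE V W hle ≫ i.app W) r = _
          rw [Scheme.Hom.app_eq_appLE, Scheme.Hom.appLE_comp_appLE]
        exact key j hpre.le hij.symm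
      let π : Γ(X, W) →ₐ[Γ(Y, V)] Γ(Z, i ⁻¹ᵁ W) := ⟨(i.app W).hom, hcomp⟩
      let σ := Algebra.FormallySmooth.liftOfSurjective π q hq hnil
      refine ⟨σ.toRingHom, fun r => σ.commutes r, fun b r hb => ?_⟩
      have := Algebra.FormallySmooth.liftOfSurjective_apply π q hq hnil b
      rw [show σ b = Ideal.Quotient.mk _ r from hb] at this
      exact this)
    exact fun x y hxy => by rw [← hl x, ← hl y, hxy]
  exact ⟨w, { exact := hex, mono_f := this, epi_g := hepi }⟩

end Groth.Agent.Om3
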