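import Groth.Agent.Om3.Conormal
import Mathlib.RingTheory.Ideal.Cotangent

/-! Exactness checked on a basis, and sections of conormal sheaves on closed charts. -/

set_option autoImplicit false
set_option backward.isDefEq.respectTransparency false

universe u

open CategoryTheory CategoryTheory.Limits AlgebraicGeometry TopologicalSpace Opposite

noncomputable section

namespace Groth.Agent.Om3

open Groth.Agent QC70

section Exact

variable {X : Scheme.{u}} {M N P : X.Modules}

theorem mono_of_basis (φ : M ⟶ N)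
    (h : ∀ (O : X.Opens) (p : X), p ∈ O → ∃ W : X.Opens, p ∈ W ∧ W ≤ O ∧ Function.Injective (φ.app W)) :
    Mono φ :=
  mono_of_app_injective φ fun O s t e => section_ext M _ _ fun p hp => by
    obtain ⟨W, hpW, hWO, hW⟩ := h O p hp
    exact ⟨W, hWO, hpW, hW (by rw [app_res, app_res, e])⟩

theorem epi_of_basis (φ : M ⟶ N)
    (h : ∀ (O : X.Opens) (p : X), p ∈ O → ∃ W : X.Opens, p ∈ W ∧ W ≤ O ∧ Function.Surjective (φ.app W)) :
    Epi φ :=
  epi_of_locally_surjective φ fun O s p hp => by
    obtain ⟨W, hpW, hWO, hW⟩ := h O p hp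
    obtain ⟨t, ht⟩ := hW (res N hWO s)
    exact ⟨W, hWO, t, hpW, ht⟩

theorem comp_eq_zero_of_basis (φ : M ⟶ N) (ψ : N ⟶ P)
    (h : ∀ (O : X.Opens) (p : X), p ∈ O → ∃ W : X.Opens, p ∈ W ∧ W ≤ O ∧ ∀ x, ψ.app W (φ.app W x) = 0) :
    φ ≫ ψ = 0 := by
  refine Scheme.Modules.hom_ext _ _ fun O => ?_
  ext s
  show ψ.app O (φ.app O s) = (0 : Γ(P, O))
  refine section_ext P _ _ fun p hp => ?_
  obtain ⟨W, hpW, hWO, hW⟩ := h O p hp
  exact ⟨W, hWO, hpW, by rw [← app_res ψ, ← app_res φ, hW, QC70.res_zero]⟩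

theorem exact_of_basis (S : ShortComplex X.Modules)
    (h : ∀ (O : X.Opens) (p : X), p ∈ O → ∃ W : X.Opens, p ∈ W ∧ W ≤ O ∧
      ∀ x, S.g.app W x = 0 → ∃ y, S.f.app W y = x) : S.Exact := by
  rw [ShortComplex.exact_iff_epi_kernel_lift]
  refine epi_of_locally_surjective _ fun O k p hp => ?_
  obtain ⟨W, hpW, hWO, hW⟩ := h O p hp
  have hk : S.g.app W (res S.X₂ hWO ((kernel.ι S.g).app O k)) = 0 := by
    rw [app_res]
    have : S.g.app O ((kernel.ι S.g).app O k) = 0 := congr($(congrArg (fun φ => Scheme.Modules.Hom.app φ O) (kernel.condition S.g)) k)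
    rw [this, QC70.res_zero]
  obtain ⟨y, hy⟩ := hW _ hk
  refine ⟨W, hWO, y, hpW, OmegaSh.ι_app_injective S.g W ?_⟩
  show (kernel.ι S.g).app W ((kernel.lift S.g S.f S.zero).app W y) = _
  have h1 : (kernel.ι S.g).app W ((kernel.lift S.g S.f S.zero).app W y) = S.f.app W y :=
    congr($(congrArg (fun φ => Scheme.Modules.Hom.app φ W) (kernel.lift_ι S.g S.f S.zero)) y)
  rw [h1, hy]
  exact (app_res (kernel.ι S.g) hWO k).symm

/-- Pulling back along the identity does not change sections. -/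
theorem pullSect_id_bijective (M : X.Modules) (W : X.Opens) :
    Function.Bijective (OmegaSh.pullSect (𝟙 X) M W) := by
  have h := unit_conjugateEquiv Adjunction.id (Scheme.Modules.pullbackPushforwardAdjunction (𝟙 X))
    (Scheme.Modules.pullbackId X).hom M
  rw [Scheme.Modules.conjugateEquiv_pullbackId_hom] at h
  haveI : IsIso ((Scheme.Modules.pullbackPushforwardAdjunction (𝟙 X)).unit.app M) := by
    refine @IsIso.of_isIso_fac_right _ _ _ _ _ _ _ _ ?_ ?_ h.symm
    · infer_instance
    · infer_instance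
  exact ConcreteCategory.bijective_of_isIso
    (((Scheme.Modules.pullbackPushforwardAdjunction (𝟙 X)).unit.app M).app W)

theorem map_app_pullSect {Y : Scheme.{u}} (f : Y ⟶ X) (φ : M ⟶ N) (W : X.Opens) (s : Γ(M, W)) :
    ((Scheme.Modules.pullback f).map φ).app (f ⁻¹ᵁ W) (OmegaSh.pullSect f M W s) =
      OmegaSh.pullSect f N W (φ.app W s) :=
  congr($(congrArg (fun a => Scheme.Modules.Hom.app a W)
    ((Scheme.Modules.pullbackPushforwardAdjunction f).unit.naturality φ).symm) s)

end Exact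

section ConormalChart

variable {Z X : Scheme.{u}} (i : Z ⟶ X)

theorem conormalSect_smul (W : X.Opens) (r : Γ(X, W)) (s : Γ(ClSub.idealMod i.ker, W)) :
    OmegaSh.conormalSect i W (r • s) = i.app W r • OmegaSh.conormalSect i W s :=
  OmegaSh.pullSect_smul i _ W r s

variable [QuasiCompact i] {W : X.Opens} (hW : IsAffineOpen W) (hP : IsAffineOpen (i ⁻¹ᵁ W))
  (hsurj : Function.Surjective (i.app W))

omit hsurj in
theorem exists_sect_of_app_eq_zero (a : Γ(X, W)) (ha : i.app W a = 0) :
    ∃ s : Γ(ClSub.idealMod i.ker, W), OmegaSh.idealSect i.ker W s = a :=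
  Omega57.exists_idealSect_eq _ _ _ (subschemeι_app_eq_zero i W a ha)

include hW hP hsurj in
theorem conormalSect_surjective : Function.Surjective (OmegaSh.conormalSect i W) := by
  intro x
  let M := ClSub.idealMod i.ker
  haveI : M.IsQuasicoherent := Omega57.isQuasicoherent_idealMod _
  have hx : x ∈ Submodule.span Γ(Z, i ⁻¹ᵁ W) (Set.range fun s : Γ(M, W) =>
      res (Omega.conormal i) le_rfl (OmegaSh.conormalSect i W s)) :=
    (SchBasics.span_pullSect i M hP hW le_rfl).ge trivial
  induction hx using Submodule.span_induction with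
  | mem y hy => obtain ⟨s, rfl⟩ := hy; exact ⟨s, (res_self (M := Omega.conormal i) _).symm⟩
  | zero => exact ⟨0, map_zero _⟩
  | add y z _ _ hy hz =>
    obtain ⟨a, rfl⟩ := hy; obtain ⟨b, rfl⟩ := hz
    exact ⟨a + b, map_add _ _ _⟩
  | smul r y _ hy =>
    obtain ⟨s, rfl⟩ := hy
    obtain ⟨c, rfl⟩ := hsurj r
    exact ⟨c • s, conormalSect_smul i W c s⟩

include hW hP hsurj in
theorem conormalSect_eq_zero_iff (s : Γ(ClSub.idealMod i.ker, W)) :
    OmegaSh.conormalSect i W s = 0 ↔
      OmegaSh.idealSect i.ker W s ∈ RingHom.ker (i.app W).hom ^ 2 := by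
  let M := ClSub.idealMod i.ker
  haveI : M.IsQuasicoherent := Omega57.isQuasicoherent_idealMod _
  let I := RingHom.ker (i.app W).hom
  have hI : ∀ t : Γ(M, W), OmegaSh.idealSect i.ker W t ∈ I := fun t => FlatMor67.app_idealSect i W t
  constructor
  · intro hs
    let e : (Γ(X, W) ⧸ I) ≃+* Γ(Z, i ⁻¹ᵁ W) := RingHom.quotientKerEquivOfSurjective hsurj
    letI : Module Γ(Z, i ⁻¹ᵁ W) I.Cotangent := Module.compHom _ e.symm.toRingHom
    let g : Γ(M, W) →+ I.Cotangent := AddMonoidHom.mk' (fun t => I.toCotangent ⟨_, hI t⟩) fun a b => by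
      rw [← map_add]
      exact congrArg I.toCotangent (Subtype.ext (map_add _ _ _))
    obtain ⟨l, hl⟩ := SchBasics.exists_linear_pullSect_module i M hP hW le_rfl I.Cotangent g fun r t => by
      show I.toCotangent _ = e.symm (i.appLE W (i ⁻¹ᵁ W) le_rfl r) • I.toCotangent _
      rw [show e.symm (i.appLE W (i ⁻¹ᵁ W) le_rfl r) = Ideal.Quotient.mk I r from e.injective (by
        rw [e.apply_symm_apply, ← Scheme.Hom.app_eq_appLE]; rfl)]
      refine Eq.trans ?_ (I.toCotangent.map_smul r ⟨_, hI t⟩)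
      exact congrArg I.toCotangent (Subtype.ext (Omega57.idealSect_smul _ _ _ _))
    have h0 : g s = 0 := by
      rw [← hl s, show res _ _ (OmegaSh.pullSect i M W s) = (0 : Γ(Omega.conormal i, i ⁻¹ᵁ W)) from
        (congrArg _ hs).trans (QC70.res_zero _)]
      exact map_zero l
    exact (I.toCotangent_eq_zero _).1 h0
  · intro hs
    rw [pow_two] at hs
    obtain ⟨t, ht, ht0⟩ : ∃ t : Γ(M, W), OmegaSh.idealSect i.ker W t = OmegaSh.idealSect i.ker W s ∧
        OmegaSh.conormalSect i W t = 0 := by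
      generalize OmegaSh.idealSect i.ker W s = z at hs
      induction hs using Submodule.mul_induction_on' with
      | mem_mul_mem a ha b hb =>
        obtain ⟨t, ht⟩ := exists_sect_of_app_eq_zero i b hb
        refine ⟨a • t, by rw [Omega57.idealSect_smul, ht], ?_⟩
        rw [conormalSect_smul, show i.app W a = 0 from ha, zero_smul]
      | add a _ b _ ha hb =>
        obtain ⟨t, ht, ht0⟩ := ha
        obtain ⟨t', ht', ht0'⟩ := hb
        exact ⟨t + t', by rw [map_add, ht, ht'], by rw [map_add, ht0, ht0', add_zero]⟩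
    rwa [← Omega57.idealSect_injective _ _ ht]

include hW hP hsurj in
theorem conormalSect_eq_zero_iff_of_sq (hsq : RingHom.ker (i.app W).hom ^ 2 = ⊥)
    (s : Γ(ClSub.idealMod i.ker, W)) : OmegaSh.conormalSect i W s = 0 ↔ s = 0 := by
  rw [conormalSect_eq_zero_iff i hW hP hsurj, hsq, Ideal.mem_bot]
  exact ⟨fun h => Omega57.idealSect_injective _ _ (h.trans (map_zero _).symm), fun h => h ▸ map_zero _⟩

end ConormalChart

end Groth.Agent.Om3
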