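import Groth.Prelude.Def_RegImm
import Groth.Prelude.Def_Omega3
import Groth.Agent.Om3.Chart
import Groth.Agent.Koszul19.Conormal
import Groth.Agent.QC70.Finite
import Groth.Agent.EGA73.GammaStarIso
import Groth.Agent.Props58.LocFree.Sections
import Mathlib.RingTheory.Localization.Module
import Mathlib.RingTheory.OrzechProperty

/-! The conormal sheaf of a Koszul-regular intersection. -/

set_option autoImplicit false
set_option backward.isDefEq.respectTransparency false

universe u

open CategoryTheory CategoryTheory.Limits AlgebraicGeometry TopologicalSpace Opposite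

noncomputable section

namespace Groth.Agent.Om3

open Groth.Agent QC70

theorem bijective_of_span_of_basis {R M N : Type u} [CommRing R] [AddCommGroup M] [Module R M]
    [AddCommGroup N] [Module R N] {n : ℕ} (g : Fin n → M) (hg : Submodule.span R (Set.range g) = ⊤)
    (b : Module.Basis (Fin n) R N) (φ : M →ₗ[R] N) (hφ : Function.Surjective φ) : Function.Bijective φ := by
  have hl : Function.Surjective (Fintype.linearCombination R g) := by
    rw [← LinearMap.range_eq_top, Fintype.range_linearCombination, hg]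
  have hb := OrzechProperty.bijective_of_surjective_endomorphism
    ((b.equivFun.toLinearMap ∘ₗ φ) ∘ₗ Fintype.linearCombination R g)
    (b.equivFun.surjective.comp (hφ.comp hl))
  refine ⟨fun x y hxy => ?_, hφ⟩
  obtain ⟨x, rfl⟩ := hl x
  obtain ⟨y, rfl⟩ := hl y
  exact congrArg _ (hb.1 (congrArg b.equivFun hxy))

variable {X Y : Scheme.{u}} (i : Y ⟶ X)

theorem exists_basis_conormal [QuasiCompact i] {U : X.Opens} (hU : IsAffineOpen U)
    (hP : IsAffineOpen (i ⁻¹ᵁ U)) (hsurj : Function.Surjective (i.app U)) {n : ℕ} (rs : Fin n → Γ(X, U))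
    (hk : Koszul19.KR (List.ofFn rs)) (hI : Ideal.span (Set.range rs) = RingHom.ker (i.app U).hom) :
    Nonempty (Module.Basis (Fin n) Γ(Y, i ⁻¹ᵁ U) Γ(Omega.conormal i, i ⁻¹ᵁ U)) := by
  let I := RingHom.ker (i.app U).hom
  let f : Fin n → I := fun k => ⟨rs k, (hI ▸ Ideal.subset_span ⟨k, rfl⟩ : rs k ∈ RingHom.ker (i.app U).hom)⟩
  obtain ⟨b, hb⟩ := Koszul19.exists_basis f hk hI
  choose t ht using fun k => exists_sect_of_app_eq_zero i (W := U) (rs k) (f k).2
  let c : Fin n → Γ(Omega.conormal i, i ⁻¹ᵁ U) := fun k => OmegaSh.conormalSect i U (t k)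
  have hcomb : ∀ a : Fin n → Γ(X, U), ∑ k, i.app U (a k) • c k = OmegaSh.conormalSect i U (∑ k, a k • t k) := by
    intro a
    rw [map_sum]
    exact Finset.sum_congr rfl fun k _ => (conormalSect_smul i U _ _).symm
  have hsect : ∀ a : Fin n → Γ(X, U), OmegaSh.idealSect i.ker U (∑ k, a k • t k) = ∑ k, a k * rs k := fun a => by
    rw [map_sum]
    exact Finset.sum_congr rfl fun k _ => by rw [Omega57.idealSect_smul, ht]
  refine ⟨Module.Basis.mk (v := c) ?_ ?_⟩
  · rw [Fintype.linearIndependent_iff]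
    intro r hr k
    choose a ha using fun k => hsurj (r k)
    have h0 := hcomb a
    simp only [ha] at h0
    rw [hr] at h0
    have h1 := (conormalSect_eq_zero_iff i hU hP hsurj _).1 h0.symm
    rw [hsect] at h1
    have h2 : ∑ k, Ideal.Quotient.mk I (a k) • b k = 0 := by
      simp only [hb]
      have : I.toCotangent (∑ k, a k • f k) = 0 := (Ideal.toCotangent_eq_zero I _).2 (by simpa [f] using h1)
      rw [map_sum] at this
      rw [← this]
      refine Finset.sum_congr rfl fun k _ => ?_
      rw [map_smul, ← Ideal.Quotient.algebraMap_eq, algebraMap_smul]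
    have h3 := Fintype.linearIndependent_iff.1 b.linearIndependent _ h2 k
    rw [← ha k]
    exact Ideal.Quotient.eq_zero_iff_mem.1 h3
  · intro y _
    obtain ⟨s, rfl⟩ := conormalSect_surjective i hU hP hsurj y
    have hs : OmegaSh.idealSect i.ker U s ∈ Ideal.span (Set.range rs) := by
      rw [hI]; exact FlatMor67.app_idealSect i U s
    obtain ⟨a, ha⟩ := Ideal.mem_span_range_iff_exists_fun.1 hs
    rw [show s = ∑ k, a k • t k from Omega57.idealSect_injective _ _ (ha.symm.trans (hsect a).symm), ← hcomb a]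
    exact Submodule.sum_mem _ fun k _ => Submodule.smul_mem _ _ (Submodule.subset_span ⟨k, rfl⟩)

theorem exists_basis_basicOpen {Z : Scheme.{u}} (M : Z.Modules) [M.IsQuasicoherent] {P : Z.Opens}
    (hP : IsAffineOpen P) {n : ℕ} (b : Module.Basis (Fin n) Γ(Z, P) Γ(M, P)) (f : Γ(Z, P)) {P' : Z.Opens}
    (hP' : P' = Z.basicOpen f) :
    Nonempty (Module.Basis (Fin n) Γ(Z, P') Γ(M, P')) := by
  subst hP'
  open Props58.LocFree in
  letI := resAlg (Z.basicOpen_le f)
  letI := Props58.LocFree.resModule M (Z.basicOpen_le f)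
  haveI := Props58.LocFree.isScalarTower_res M (Z.basicOpen_le f)
  haveI : IsLocalization (Submonoid.powers f) Γ(Z, Z.basicOpen f) := Props58.LocFree.isLocalization_resAlg hP f
  haveI := Props58.LocFree.isLocalizedModule_resLin M (isLocAt_of_isQuasicoherent M hP) f
  exact ⟨b.ofIsLocalizedModule Γ(Z, Z.basicOpen f) (Submonoid.powers f)
    (Props58.LocFree.resLin M (Z.basicOpen_le f))⟩

theorem span_image_of_isAffineOpen {X₁ : Scheme.{u}} (j : X₁ ⟶ X) [IsClosedImmersion j] {U : X.Opens}
    (hU : IsAffineOpen U) {n : ℕ} (rs : Fin n → Γ(X, U))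
    (hI : Ideal.span (Set.range rs) = RingHom.ker (j.app U).hom) {V : X.Opens} (hV : IsAffineOpen V) (hVU : V ≤ U) :
    Ideal.span (Set.range fun k => QC70.resO X hVU (rs k)) = RingHom.ker (j.app V).hom := by
  rw [← Scheme.Hom.ker_apply j ⟨V, hV⟩, ← Scheme.IdealSheafData.map_ideal (U := ⟨V, hV⟩) (V := ⟨U, hU⟩) j.ker hVU,
    Scheme.Hom.ker_apply j ⟨U, hU⟩, ← hI, Ideal.map_span, ← Set.range_comp]
  rfl

/-- A chart at a point: bases and generators. -/
theorem isIso_sum {r : ℕ} {Xs : Fin r → Scheme.{u}} (j : ∀ l, Xs l ⟶ X) [∀ l, IsClosedImmersion (j l)]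
    (d : Fin r → ℕ) (hj : ∀ l, RegImm.IsRegularImmersionOfCodim RegImm.Kind.koszul (d l) (j l))
    [IsClosedImmersion i] (hY : ∀ U : X.affineOpens, i.ker.ideal U = ⨆ l, (j l).ker.ideal U)
    (g : ∀ l, Y ⟶ Xs l) (hi : RegImm.IsRegularImmersionOfCodim RegImm.Kind.koszul (∑ l, d l) i)
    (ψ : ∀ l, (Scheme.Modules.pullback (g l)).obj (Omega.conormal (j l)) ⟶ Omega.conormal i)
    (hψ : ∀ l, OmegaSh.IsConormalMap i (j l) (𝟙 X) (g l) (ψ l))
    [HasBiproduct fun l => (Scheme.Modules.pullback (g l)).obj (Omega.conormal (j l))]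
    (hq : (⨁ fun l => (Scheme.Modules.pullback (g l)).obj (Omega.conormal (j l))).IsQuasicoherent) :
    IsIso (biproduct.desc ψ) := by
  let M := fun l => (Scheme.Modules.pullback (g l)).obj (Omega.conormal (j l))
  haveI := hq
  haveI : (ClSub.idealMod i.ker).IsQuasicoherent := Omega57.isQuasicoherent_idealMod _
  haveI : (Omega.conormal i).IsQuasicoherent := QCPull72.isQuasicoherent_pullback _ _
  haveI : ∀ l, (Omega.conormal (j l)).IsQuasicoherent := fun l =>
    haveI : (ClSub.idealMod (j l).ker).IsQuasicoherent := Omega57.isQuasicoherent_idealMod _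
    QCPull72.isQuasicoherent_pullback _ _
  have hex : ∀ y : Y, ∃ U' : X.Opens, IsAffineOpen U' ∧ i y ∈ U' ∧
      Nonempty (Module.Basis (Fin (∑ l, d l)) Γ(Y, i ⁻¹ᵁ U') Γ(Omega.conormal i, i ⁻¹ᵁ U')) ∧
      ∀ l, ∃ rs : Fin (d l) → Γ(X, U'), Ideal.span (Set.range rs) = RingHom.ker ((j l).app U').hom := by
    intro y
    obtain ⟨U, hyU, -, rs, hlen, hkr, hker⟩ := hi.2 y
    choose Ul hyl hcl rl hlenl hkrl hkerl using fun l => (hj l).2 (g l y)
    have hyl' : ∀ l, i y ∈ (Ul l).1 := fun l => by
      have := hyl l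
      rwa [← Scheme.Hom.comp_apply, (hψ l).1, Category.comp_id] at this
    let O : X.Opens := ⟨⋂ l, ((Ul l).1 : Set X), isOpen_iInter_of_finite fun l => (Ul l).1.2⟩
    obtain ⟨f, hf, hyf⟩ := U.2.exists_basicOpen_le (V := O) ⟨i y, Set.mem_iInter.2 hyl'⟩ hyU
    refine ⟨X.basicOpen f, U.2.basicOpen f, hyf, ?_, fun l => ?_⟩
    · obtain ⟨b⟩ := exists_basis_conormal i U.2 (U.2.preimage i) (i.app_surjective U.1 U.2)
        (fun k => rs[(Fin.cast hlen.symm k : Fin rs.length).1])
        (by
          rw [show List.ofFn (fun k => rs[(Fin.cast hlen.symm k : Fin rs.length).1]) = rs from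
            List.ext_getElem (by simp [hlen]) (fun m h₁ h₂ => by simp)]
          exact (Koszul19.kR_iff rs).2 hkr)
        (by
          rw [hker, ← Koszul19.ofList_ofFn]
          exact congrArg _ (List.ext_getElem (by simp [hlen]) (fun m h₁ h₂ => by simp)))
      exact exists_basis_basicOpen _ (U.2.preimage i) b (i.app U.1 f) (Scheme.preimage_basicOpen i f)
    · have hle : X.basicOpen f ≤ (Ul l).1 := fun a ha => Set.mem_iInter.1 (hf ha) l
      refine ⟨fun k => QC70.resO X hle ((rl l)[(Fin.cast (hlenl l).symm k : Fin (rl l).length).1]), ?_⟩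
      refine span_image_of_isAffineOpen (j l) (Ul l).2
        (fun k => (rl l)[(Fin.cast (hlenl l).symm k : Fin (rl l).length).1]) ?_ (U.2.basicOpen f) hle
      rw [hkerl l, ← Koszul19.ofList_ofFn]
      exact congrArg _ (List.ext_getElem (by simp [hlenl l]) (fun m h₁ h₂ => by simp))
  choose U hU hyU hb rsl hrsl using hex
  refine EGA73.isIso_of_bijective_cover (biproduct.desc ψ) (fun y => i ⁻¹ᵁ U y)
    (fun y => (hU y).preimage i) (fun y => ⟨y, hyU y⟩) fun y => ?_
  let W := U y
  let P := i ⁻¹ᵁ W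
  have hW : IsAffineOpen W := hU y
  have hPl : ∀ l, P ≤ g l ⁻¹ᵁ (j l ⁻¹ᵁ W) := fun l a ha => by
    show j l (g l a) ∈ W
    rwa [← Scheme.Hom.comp_apply, (hψ l).1, Category.comp_id]
  choose t ht using fun (l : Fin r) (k : Fin (d l)) => exists_sect_of_app_eq_zero (j l) (W := W) (rsl y l k)
    ((hrsl y l).le (Ideal.subset_span ⟨k, rfl⟩))
  let gen : (l : Fin r) × Fin (d l) → Γ(⨁ M, P) := fun a =>
    (biproduct.ι M a.1).app P (res (M a.1) (hPl a.1)
      (OmegaSh.pullSect (g a.1) (Omega.conormal (j a.1)) (j a.1 ⁻¹ᵁ W)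
        (OmegaSh.conormalSect (j a.1) W (t a.1 a.2))))
  have hspan : Submodule.span Γ(Y, P) (Set.range gen) = ⊤ := by
    refine Submodule.eq_top_iff'.2 fun x => ?_
    have hx : x = ∑ l, (biproduct.ι M l).app P ((biproduct.π M l).app P x) := by
      let ev : (⨁ M ⟶ ⨁ M) →+ Γ(⨁ M, P) :=
        AddMonoidHom.mk' (fun q => q.app P x) fun a b => by rw [Scheme.Modules.Hom.add_app]; rfl
      exact (congrArg ev (biproduct.total (f := M))).symm.trans (map_sum ev _ _)
    rw [hx]
    refine Submodule.sum_mem _ fun l _ => ?_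
    generalize (biproduct.π M l).app P x = z
    have hz : z ∈ Submodule.span Γ(Y, P) (Set.range fun m =>
        res (M l) (hPl l) (OmegaSh.pullSect (g l) (Omega.conormal (j l)) (j l ⁻¹ᵁ W) m)) :=
      (SchBasics.span_pullSect (g l) (Omega.conormal (j l)) ((hU y).preimage i) (hW.preimage (j l)) (hPl l)).ge trivial
    induction hz using Submodule.span_induction with
    | zero => rw [map_zero]; exact zero_mem _
    | add a b _ _ ha hb => rw [map_add]; exact add_mem ha hb
    | smul a b _ hb => rw [Scheme.Modules.Hom.app_smul]; exact Submodule.smul_mem _ _ hb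
    | mem m hm =>
      obtain ⟨c, rfl⟩ := hm
      obtain ⟨s, rfl⟩ := conormalSect_surjective (j l) hW (hW.preimage (j l)) ((j l).app_surjective W hW) c
      obtain ⟨a, ha⟩ := Ideal.mem_span_range_iff_exists_fun.1
        ((hrsl y l).ge (FlatMor67.app_idealSect (j l) W s))
      rw [show s = ∑ k, a k • t l k from Omega57.idealSect_injective _ _ (by
        rw [← ha, map_sum]
        exact Finset.sum_congr rfl fun k _ => by rw [Omega57.idealSect_smul, ht])]
      simp only [map_sum]
      refine Submodule.sum_mem _ fun k _ => ?_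
      rw [conormalSect_smul, OmegaSh.pullSect_smul]
      refine (congrArg (· ∈ Submodule.span Γ(Y, P) (Set.range gen))
        ((congrArg ((biproduct.ι M l).app P) (res_smul (M := M l) (hPl l) _ _)).trans
          (Scheme.Modules.Hom.app_smul _ _ _))).mpr ?_
      exact Submodule.smul_mem _ _ (Submodule.subset_span ⟨⟨l, k⟩, rfl⟩)
  let φ : Γ(⨁ M, P) →ₗ[Γ(Y, P)] Γ(Omega.conormal i, P) :=
    { toFun := (biproduct.desc ψ).app P
      map_add' := map_add _
      map_smul' := fun a b => Scheme.Modules.Hom.app_smul _ a b }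
  have hgen : ∀ (l : Fin r) (k : Fin (d l)) (s : Γ(ClSub.idealMod i.ker, W)),
      OmegaSh.idealSect i.ker W s = rsl y l k → φ (gen ⟨l, k⟩) = OmegaSh.conormalSect i W s := by
    intro l k s hs
    refine (congr($(congrArg (fun t => Scheme.Modules.Hom.app t P) (biproduct.ι_desc ψ l)) _)).trans ?_
    refine (conormalMap_val (hψ l) (U := W) le_rfl (hPl l) le_rfl (t l k) s ?_).trans
      (res_self (M := Omega.conormal i) _)
    rw [hs, ht]
    simp [Scheme.Hom.appLE]
    exact (congr($(X.presheaf.map_id (op W)) (rsl y l k))).symm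
  have hsur : Function.Surjective φ := by
    rw [← LinearMap.range_eq_top]
    refine Submodule.eq_top_iff'.2 fun c => ?_
    obtain ⟨s, rfl⟩ := conormalSect_surjective i hW (hW.preimage i) (i.app_surjective W hW) c
    have hs : OmegaSh.idealSect i.ker W s ∈ ⨆ l, RingHom.ker ((j l).app W).hom := by
      have h := hY ⟨W, hW⟩
      simp only [Scheme.Hom.ker_apply] at h
      exact h.le (FlatMor67.app_idealSect i W s)
    let T := (fun z => OmegaSh.conormalSect i W z) ⁻¹' (LinearMap.range φ : Set _)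
    suffices H : ∀ v ∈ ⨆ l, RingHom.ker ((j l).app W).hom, ∃ z : Γ(ClSub.idealMod i.ker, W),
        OmegaSh.idealSect i.ker W z = v ∧ OmegaSh.conormalSect i W z ∈ LinearMap.range φ by
      obtain ⟨z, hz, hzr⟩ := H _ hs
      rwa [← Omega57.idealSect_injective _ _ hz]
    intro v hv
    induction hv using Submodule.iSup_induction' with
    | zero => exact ⟨0, map_zero _, by rw [map_zero]; exact zero_mem _⟩
    | add a b _ _ ha hb =>
      obtain ⟨z, hz, hz'⟩ := ha
      obtain ⟨w, hw, hw'⟩ := hb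
      exact ⟨z + w, by rw [map_add, hz, hw], by rw [map_add]; exact add_mem hz' hw'⟩
    | mem l v hv =>
      rw [← hrsl y l] at hv
      obtain ⟨a, rfl⟩ := Ideal.mem_span_range_iff_exists_fun.1 hv
      choose z hz using fun k => exists_sect_of_app_eq_zero i (W := W) (rsl y l k) (by
        have h := hY ⟨W, hW⟩
        simp only [Scheme.Hom.ker_apply] at h
        exact h.ge (Submodule.mem_iSup_of_mem l ((hrsl y l).le (Ideal.subset_span ⟨k, rfl⟩))))
      refine ⟨∑ k, a k • z k, ?_, ?_⟩
      · rw [map_sum]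
        exact Finset.sum_congr rfl fun k _ => by rw [Omega57.idealSect_smul, hz]
      · rw [map_sum]
        refine Submodule.sum_mem _ fun k _ => ?_
        rw [conormalSect_smul]
        exact Submodule.smul_mem _ _ ⟨gen ⟨l, k⟩, hgen l k _ (hz k)⟩
  obtain ⟨b⟩ := hb y
  let e : Fin (∑ l, d l) ≃ (l : Fin r) × Fin (d l) := finSigmaFinEquiv.symm
  exact bijective_of_span_of_basis (gen ∘ e) (by rw [e.surjective.range_comp]; exact hspan) b φ hsur

theorem conormal_intersection {r : ℕ} {Xs : Fin r → Scheme.{u}} (j : ∀ l, Xs l ⟶ X) [∀ l, IsClosedImmersion (j l)]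
    (d : Fin r → ℕ) (hj : ∀ l, RegImm.IsRegularImmersionOfCodim RegImm.Kind.koszul (d l) (j l))
    [IsClosedImmersion i] (hY : ∀ U : X.affineOpens, i.ker.ideal U = ⨆ l, (j l).ker.ideal U)
    (g : ∀ l, Y ⟶ Xs l) (hg : ∀ l, g l ≫ j l = i)
    (hi : RegImm.IsRegularImmersionOfCodim RegImm.Kind.koszul (∑ l, d l) i) :
    Nonempty (Omega.conormal i ≅ ∐ fun l => (Scheme.Modules.pullback (g l)).obj (Omega.conormal (j l))) := by
  haveI : HasFiniteBiproducts Y.Modules := Abelian.hasFiniteBiproducts
  choose ψ hψ using fun l => (existsUnique_conormalMap (show g l ≫ j l = i ≫ 𝟙 X by rw [hg, Category.comp_id])).exists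
  let M := fun l => (Scheme.Modules.pullback (g l)).obj (Omega.conormal (j l))
  haveI : ∀ l, (M l).IsQuasicoherent := fun l =>
    haveI : (ClSub.idealMod (j l).ker).IsQuasicoherent := Omega57.isQuasicoherent_idealMod _
    haveI : (Omega.conormal (j l)).IsQuasicoherent := QCPull72.isQuasicoherent_pullback _ _
    QCPull72.isQuasicoherent_pullback _ _
  haveI := isQuasicoherent_coproduct (fun a : ULift.{u} (Fin r) => M a.down) fun a => inferInstance
  have hq : (⨁ M).IsQuasicoherent := isQuasicoherent_of_iso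
    ((Sigma.whiskerEquiv (f := fun a : ULift.{u} (Fin r) => M a.down) (g := M) Equiv.ulift fun _ => Iso.refl _) ≪≫
      (biproduct.isoCoproduct M).symm) inferInstance
  haveI := isIso_sum i j d hj hY g hi ψ hψ hq
  exact ⟨(asIso (biproduct.desc ψ)).symm ≪≫ biproduct.isoCoproduct M⟩

end Groth.Agent.Om3
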