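import Groth.Agent.Om3.ExtPowPull
import Groth.Agent.Mum71.TensorSec
import Groth.Agent.EGA73.GammaStarIso
import Groth.Agent.QC70.Closure
import Groth.Agent.Props58.LocFree.Affine
import Mathlib.LinearAlgebra.ExteriorPower.Basis
import Mathlib.LinearAlgebra.Determinant

/-! The determinant of a short exact sequence of locally free modules. -/

set_option autoImplicit false
set_option backward.isDefEq.respectTransparency.types false

universe u

open CategoryTheory CategoryTheory.Limits AlgebraicGeometry TopologicalSpace Opposite TensorProduct exteriorPower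

noncomputable section

namespace Groth.Agent.Om3.DetSeq

open Groth.Agent

section ring

variable {R : Type u} [CommRing R] {C E Q : Type u} [AddCommGroup C] [Module R C] [AddCommGroup E] [Module R E]
  [AddCommGroup Q] [Module R Q]

/-- The top power of a module with basis is free on the wedge of the basis. -/
theorem bijective_smul_top {N : ℕ} (b : Module.Basis (Fin N) R E) :
    Function.Bijective fun a : R => a • ιMulti R N b := by
  constructor
  · intro x y hxy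
    have h := congrArg (alternatingMapLinearEquiv b.det) hxy
    rw [map_smul, map_smul, alternatingMapLinearEquiv_apply_ιMulti, Module.Basis.det_self, smul_eq_mul, smul_eq_mul,
      mul_one, mul_one] at h
    exact h
  · intro z
    have hz : z ∈ Submodule.span R {ιMulti R N b} := by
      have h0 : z ∈ Submodule.span R (ιMulti R N (M := E) '' {a | Set.range a ⊆ Set.range b}) :=
        (ιMulti_span_of_span R N E b.span_eq).ge trivial
      refine Submodule.span_le.2 ?_ h0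
      rintro _ ⟨a, ha, rfl⟩
      choose p hp using fun i => ha (Set.mem_range_self i)
      rw [show a = b ∘ p from funext fun i => (hp i).symm]
      by_cases hinj : Function.Injective p
      · refine (congrArg (· ∈ _) (AlternatingMap.map_perm (ιMulti R N) (⇑b)
          (Equiv.ofBijective p (Finite.injective_iff_bijective.1 hinj)))).mpr ?_
        exact zsmul_mem (Submodule.subset_span (Set.mem_singleton _)) _
      · obtain ⟨i, j, hij, hne⟩ := Function.not_injective_iff.1 hinj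
        rw [AlternatingMap.map_eq_zero_of_eq _ (b ∘ p) (congrArg b hij) hne]
        exact zero_mem _
    rw [Submodule.mem_span_singleton] at hz
    exact hz

variable {m r : ℕ} (bC : Module.Basis (Fin r) R C) (f : C →ₗ[R] E)

include bC in
theorem ι_mul_list_mul (c : Fin r → C) (x : C) :
    ∀ l : List E, ExteriorAlgebra.ι R (f x) * ((l.map (ExteriorAlgebra.ι R)).prod *
      ExteriorAlgebra.ιMulti R r (f ∘ c)) = 0
  | [] => by
    haveI : IsEmpty (Set.powersetCard (Fin r) (r + 1)) := ⟨fun s => by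
      have := s.1.card_le_univ
      rw [s.2, Fintype.card_fin] at this
      omega⟩
    haveI : Subsingleton ↥(⋀[R]^(r + 1) C) := (bC.exteriorPower (r + 1)).repr.toEquiv.subsingleton
    have h0 : exteriorPower.map (r + 1) f (ιMulti R (r + 1) (Fin.cons x c)) = 0 := by
      rw [Subsingleton.elim (ιMulti R (r + 1) (Fin.cons x c)) 0, map_zero]
    rw [map_apply_ιMulti] at h0
    rw [List.map_nil, List.prod_nil, one_mul]
    have h1 := congrArg Subtype.val h0
    rw [ιMulti_apply_coe, ExteriorAlgebra.ιMulti_succ_apply] at h1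
    simpa [Function.comp_def, Matrix.vecTail] using h1
  | y :: l => by
    rw [List.map_cons, List.prod_cons, mul_assoc, ← mul_assoc,
      eq_neg_of_add_eq_zero_left (ExteriorAlgebra.ι_add_mul_swap (f x) y), neg_mul, mul_assoc,
      ι_mul_list_mul c x l, mul_zero, neg_zero]

include bC in
theorem prod_congr_mul (c : Fin r → C) :
    ∀ {k : ℕ} (s t : Fin k → E), (∀ i, ∃ x, f x = s i - t i) →
      ExteriorAlgebra.ιMulti R k s * ExteriorAlgebra.ιMulti R r (f ∘ c) =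
        ExteriorAlgebra.ιMulti R k t * ExteriorAlgebra.ιMulti R r (f ∘ c)
  | 0, s, t, _ => by rw [Subsingleton.elim s t]
  | k + 1, s, t, h => by
    obtain ⟨x, hx⟩ := h 0
    rw [ExteriorAlgebra.ιMulti_succ_apply, ExteriorAlgebra.ιMulti_succ_apply, mul_assoc, mul_assoc,
      prod_congr_mul c (Matrix.vecTail s) (Matrix.vecTail t) fun i => h i.succ, ← sub_eq_zero, ← sub_mul, ← map_sub,
      ← hx, ExteriorAlgebra.ιMulti_apply (v := Matrix.vecTail t)]
    simpa [List.map_ofFn, Function.comp_def] using ι_mul_list_mul bC f c x (List.ofFn (Matrix.vecTail t))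

theorem val_ιMulti_append (s : Fin m → E) (u : Fin r → E) :
    ((ιMulti R (m + r) (Fin.append s u)) : ExteriorAlgebra R E) =
      ExteriorAlgebra.ιMulti R m s * ExteriorAlgebra.ιMulti R r u := by
  rw [ιMulti_apply_coe, ExteriorAlgebra.ιMulti_apply, ExteriorAlgebra.ιMulti_apply, ExteriorAlgebra.ιMulti_apply,
    ← List.prod_append, ← List.ofFn_fin_append]
  exact congrArg List.prod (congrArg List.ofFn (funext fun i => by
    refine Fin.addCases (fun j => ?_) (fun j => ?_) i <;> simp))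

variable (g : E →ₗ[R] Q) (bQ : Module.Basis (Fin m) R Q)

include bC bQ in
/-- The comparison of top exterior powers in a short exact sequence of free modules. -/
theorem exists_theta (hf : Function.Injective f) (hg : Function.Surjective g)
    (hfg : ∀ x, g x = 0 ↔ ∃ y, f y = x) :
    ∃ Θ : ↥(⋀[R]^m Q) ⊗[R] ↥(⋀[R]^r C) →ₗ[R] ↥(⋀[R]^(m + r) E), Function.Bijective Θ ∧
      ∀ (s : Fin m → E) (c : Fin r → C),
        Θ (ιMulti R m (g ∘ s) ⊗ₜ ιMulti R r c) = ιMulti R (m + r) (Fin.append s (f ∘ c)) := by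
  choose t ht using fun k => hg (bQ k)
  let σ : Q →ₗ[R] E := bQ.constr R t
  have hσ : ∀ y, g (σ y) = y := fun y =>
    LinearMap.congr_fun (bQ.ext (fun k => show (g ∘ₗ σ) (bQ k) = LinearMap.id (bQ k) by simp [σ, ht])) y
  let P := LinearMap.mk₂ R (fun (a : ↥(⋀[R]^m Q)) (b : ↥(⋀[R]^r C)) =>
      ((exteriorPower.map m σ a : ↥(⋀[R]^m E)) : ExteriorAlgebra R E) * (exteriorPower.map r f b : ↥(⋀[R]^r E)))
    (fun a a' b => by simp [add_mul]) (fun k a b => by simp) (fun a b b' => by simp [mul_add]) (fun k a b => by simp)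
  have hP : ∀ a b, P a b ∈ ⋀[R]^(m + r) E := fun a b => by
    show ((exteriorPower.map m σ a : ↥(⋀[R]^m E)) : ExteriorAlgebra R E) * (exteriorPower.map r f b : ↥(⋀[R]^r E)) ∈ _
    show _ ∈ LinearMap.range (ExteriorAlgebra.ι R (M := E)) ^ (m + r)
    rw [pow_add]
    exact Submodule.mul_mem_mul (exteriorPower.map m σ a).2 (exteriorPower.map r f b).2
  let Θ := (TensorProduct.lift P).codRestrict (⋀[R]^(m + r) E) fun z => by
    induction z with
    | zero => rw [map_zero]; exact zero_mem _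
    | tmul a b => exact hP a b
    | add x y hx hy => rw [map_add]; exact add_mem hx hy
  have hΘ : ∀ (s : Fin m → E) (c : Fin r → C),
      Θ (ιMulti R m (g ∘ s) ⊗ₜ ιMulti R r c) = ιMulti R (m + r) (Fin.append s (f ∘ c)) := fun s c => by
    refine Subtype.ext ?_
    rw [val_ιMulti_append]
    show TensorProduct.lift P _ = _
    rw [TensorProduct.lift.tmul]
    show ((exteriorPower.map m σ _ : ↥(⋀[R]^m E)) : ExteriorAlgebra R E) * _ = _
    rw [map_apply_ιMulti, map_apply_ιMulti, ιMulti_apply_coe, ιMulti_apply_coe]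
    refine prod_congr_mul bC f c _ _ fun i => (hfg _).1 ?_
    show g (σ (g (s i)) - s i) = 0
    rw [map_sub, hσ, sub_self]
  refine ⟨Θ, ?_, hΘ⟩
  have he : Function.Bijective (σ.coprod f) := by
    refine ⟨(injective_iff_map_eq_zero _).2 fun z hz => ?_, fun x => ?_⟩
    · have hfz : g (f z.2) = 0 := (hfg _).2 ⟨_, rfl⟩
      have h1 : z.1 = 0 := by
        have := congrArg g hz
        simpa [hσ, hfz] using this
      exact Prod.ext h1 (hf (by simpa [h1] using hz))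
    · obtain ⟨y, hy⟩ := (hfg (x - σ (g x))).1 (by rw [map_sub, hσ, sub_self])
      exact ⟨(g x, y), by simp [hy]⟩
  let bE := ((bQ.prod bC).reindex finSumFinEquiv).map (LinearEquiv.ofBijective _ he)
  have hbE : (bE : Fin (m + r) → E) = Fin.append t (f ∘ bC) := funext fun i => by
    refine Fin.addCases (fun j => ?_) (fun j => ?_) i <;> simp [bE, σ]
  have hmul : Function.Bijective fun z : ↥(⋀[R]^m Q) ⊗[R] ↥(⋀[R]^r C) => z := Function.bijective_id
  let eQ := LinearEquiv.ofBijective (LinearMap.toSpanSingleton R _ (ιMulti R m bQ)) (bijective_smul_top bQ)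
  let eC := LinearEquiv.ofBijective (LinearMap.toSpanSingleton R _ (ιMulti R r bC)) (bijective_smul_top bC)
  let eQC := (TensorProduct.lid R R).symm ≪≫ₗ TensorProduct.congr eQ eC
  have h2 : Function.Bijective (Θ ∘ eQC) := by
    refine (congrArg Function.Bijective (funext fun a => ?_)).mp (bijective_smul_top bE)
    show _ = Θ (eQC a)
    rw [← mul_one a, ← smul_eq_mul, map_smul, map_smul, smul_eq_mul, mul_one]
    refine congrArg (a • ·) ?_
    rw [hbE, ← hΘ, show g ∘ t = bQ from funext ht]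
    simp [eQC, eQ, eC]
  exact (Function.Bijective.of_comp_iff _ eQC.bijective).1 h2

end ring

section sheaf

open QC70 Props58.LocFree

variable {X : Scheme.{u}} {C E Q LC LE LQ : X.Modules} {m r : ℕ} (f : C ⟶ E) (g : E ⟶ Q)

theorem exists_basis {M : X.Modules} {k : ℕ} (h : FlatMod.IsFinLocFreeOfRank k M) (x : X) :
    ∃ U : X.Opens, x ∈ U ∧ ∀ W : X.Opens, W ≤ U → Nonempty (Module.Basis (Fin k) Γ(X, W) Γ(M, W)) := by
  obtain ⟨U, hx, ⟨i⟩⟩ := h x
  obtain ⟨s, hs⟩ := exists_stalkBasis_of_iso i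
  refine ⟨U, hx, fun W hW => ⟨Module.Basis.ofEquivFun (LinearEquiv.ofBijective
    (Fintype.linearCombination Γ(X, W) fun j => res M hW (s j)) ?_).symm⟩⟩
  refine (congrArg Function.Bijective (funext fun a => ?_)).mp (hs.bijective hW)
  simp [Fintype.linearCombination_apply]

theorem exists_basis_res {M : X.Modules} [M.IsQuasicoherent] {W : X.affineOpens} {k : ℕ}
    (b : Module.Basis (Fin k) Γ(X, W.1) Γ(M, W.1)) {V : X.Opens} (h : V ≤ W.1) :
    ∃ b' : Module.Basis (Fin k) Γ(X, V) Γ(M, V), ∀ j, b' j = res M h (b j) := by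
  refine ⟨Module.Basis.ofEquivFun (LinearEquiv.ofBijective (Fintype.linearCombination Γ(X, V) fun j => res M h (b j)) ?_).symm,
    fun j => ?_⟩
  · refine (congrArg Function.Bijective (funext fun a => ?_)).mp ((stalkBasis_of_basis W.2 b).bijective h)
    simp [Fintype.linearCombination_apply]
  · classical
    rw [Module.Basis.coe_ofEquivFun, LinearEquiv.symm_symm]
    show Fintype.linearCombination Γ(X, V) (fun j => res M h (b j)) (Pi.single j 1) = _
    rw [Fintype.linearCombination_apply_single, one_smul]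

set_option maxHeartbeats 400000 in
/-- The comparison over an affine chart. -/
theorem exists_chartMap [C.IsQuasicoherent] [LC.IsQuasicoherent] [LQ.IsQuasicoherent]
    (w : f ≫ g = 0) (hS : (ShortComplex.mk f g w).ShortExact) {W : X.affineOpens}
    (φC : ↥(⋀[Γ(X, W.1)]^r Γ(C, W.1)) ≃ₗ[Γ(X, W.1)] Γ(LC, W.1))
    (φE : ↥(⋀[Γ(X, W.1)]^(m + r) Γ(E, W.1)) ≃ₗ[Γ(X, W.1)] Γ(LE, W.1))
    (φQ : ↥(⋀[Γ(X, W.1)]^m Γ(Q, W.1)) ≃ₗ[Γ(X, W.1)] Γ(LQ, W.1))
    (bC : Module.Basis (Fin r) Γ(X, W.1) Γ(C, W.1)) (bQ : Module.Basis (Fin m) Γ(X, W.1) Γ(Q, W.1)) :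
    ∃ Φ : Γ(CohB1.tensorMod LQ LC, W.1) →ₗ[Γ(X, W.1)] Γ(LE, W.1),
      Function.Bijective Φ ∧ ∀ (s : Fin m → Γ(E, W.1)) (c : Fin r → Γ(C, W.1)),
        Φ (SecTwist.tmul LQ LC W.1 (φQ (ιMulti Γ(X, W.1) m fun i => g.app W.1 (s i)))
            (φC (ιMulti Γ(X, W.1) r c))) =
          φE (ιMulti Γ(X, W.1) (m + r) (Fin.append s fun j => f.app W.1 (c j))) := by
  have : Mono f := hS.mono_f
  obtain ⟨Θ, hb, hΘ⟩ := exists_theta bC (appLinear f W.1) (appLinear g W.1) bQ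
    (QC70.app_injective_of_mono f W.1) (QC70.app_surjective_of_isAffineOpen (ShortComplex.mk f g w) hS W.2)
    fun x => ⟨fun hx => exists_app_eq_of_exact (ShortComplex.mk f g w) hS.exact W.1 x hx, fun ⟨y, hy⟩ => by
      rw [← hy]
      exact congr($(congrArg (fun φ : C ⟶ Q => φ.app W.1) w) y)⟩
  obtain ⟨eT, heT⟩ := Mum71.exists_tensor_equiv LQ LC W.2
  let e2 : Γ(CohB1.tensorMod LQ LC, W.1) ≃ₗ[Γ(X, W.1)]
      ↥(⋀[Γ(X, W.1)]^m Γ(Q, W.1)) ⊗[Γ(X, W.1)] ↥(⋀[Γ(X, W.1)]^r Γ(C, W.1)) :=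
    eT.symm.trans (TensorProduct.congr φQ.symm φC.symm)
  have he2 : ∀ a b, e2 (SecTwist.tmul LQ LC W.1 (φQ a) (φC b)) = a ⊗ₜ b := fun a b => by
    rw [← heT]
    simp [e2]
  refine ⟨φE.toLinearMap.comp (Θ.comp e2.toLinearMap), φE.bijective.comp (hb.comp e2.bijective), fun s c => ?_⟩
  refine congrArg φE ?_
  show Θ (e2 _) = _
  rw [he2]
  exact hΘ s c

set_option maxHeartbeats 800000 in
/-- The comparisons over nested affine charts agree. -/
theorem ofLinear_app_eq [C.IsQuasicoherent] [Q.IsQuasicoherent] [LC.IsQuasicoherent] [LQ.IsQuasicoherent]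
    [(CohB1.tensorMod LQ LC).IsQuasicoherent]
    (w : f ≫ g = 0) (hS : (ShortComplex.mk f g w).ShortExact) {W V : X.affineOpens} (h : V.1 ≤ W.1)
    (bC : Module.Basis (Fin r) Γ(X, W.1) Γ(C, W.1)) (bQ : Module.Basis (Fin m) Γ(X, W.1) Γ(Q, W.1))
    {φC : ↥(⋀[Γ(X, W.1)]^r Γ(C, W.1)) ≃ₗ[Γ(X, W.1)] Γ(LC, W.1)}
    {φC' : ↥(⋀[Γ(X, V.1)]^r Γ(C, V.1)) ≃ₗ[Γ(X, V.1)] Γ(LC, V.1)}
    (hC : ∀ x, res LC h (φC x) = φC' (resExt C r h x))
    {φE : ↥(⋀[Γ(X, W.1)]^(m + r) Γ(E, W.1)) ≃ₗ[Γ(X, W.1)] Γ(LE, W.1)}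
    {φE' : ↥(⋀[Γ(X, V.1)]^(m + r) Γ(E, V.1)) ≃ₗ[Γ(X, V.1)] Γ(LE, V.1)}
    (hE : ∀ x, res LE h (φE x) = φE' (resExt E (m + r) h x))
    {φQ : ↥(⋀[Γ(X, W.1)]^m Γ(Q, W.1)) ≃ₗ[Γ(X, W.1)] Γ(LQ, W.1)}
    {φQ' : ↥(⋀[Γ(X, V.1)]^m Γ(Q, V.1)) ≃ₗ[Γ(X, V.1)] Γ(LQ, V.1)}
    (hQ : ∀ x, res LQ h (φQ x) = φQ' (resExt Q m h x))
    (Φ : Γ(CohB1.tensorMod LQ LC, W.1) →ₗ[Γ(X, W.1)] Γ(LE, W.1))
    (hΦ : ∀ (s : Fin m → Γ(E, W.1)) (c : Fin r → Γ(C, W.1)),
      Φ (SecTwist.tmul LQ LC W.1 (φQ (ιMulti Γ(X, W.1) m fun i => g.app W.1 (s i)))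
          (φC (ιMulti Γ(X, W.1) r c))) = φE (ιMulti Γ(X, W.1) (m + r) (Fin.append s fun j => f.app W.1 (c j))))
    (Φ' : Γ(CohB1.tensorMod LQ LC, V.1) →ₗ[Γ(X, V.1)] Γ(LE, V.1))
    (hΦ' : ∀ (s : Fin m → Γ(E, V.1)) (c : Fin r → Γ(C, V.1)),
      Φ' (SecTwist.tmul LQ LC V.1 (φQ' (ιMulti Γ(X, V.1) m fun i => g.app V.1 (s i)))
          (φC' (ιMulti Γ(X, V.1) r c))) = φE' (ιMulti Γ(X, V.1) (m + r) (Fin.append s fun j => f.app V.1 (c j))))
    (z : Γ(CohB1.tensorMod LQ LC, V.1)) : (HomOn.ofLinear W.2 Φ).app V.1 h z = Φ' z := by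
  choose s hs using fun k => QC70.app_surjective_of_isAffineOpen (ShortComplex.mk f g w) hS W.2 (bQ k)
  let L := (HomOn.ofLinear W.2 Φ).app V.1 h
  obtain ⟨bQ', hbQ'⟩ := exists_basis_res bQ h
  obtain ⟨bC', hbC'⟩ := exists_basis_res bC h
  have h1 : (fun i => g.app V.1 (res E h (s i))) = ⇑bQ' := funext fun i => by
    rw [QC70.app_res, hbQ', ← hs]
  have hz₀ : res (CohB1.tensorMod LQ LC) h (SecTwist.tmul LQ LC W.1
      (φQ (ιMulti _ m fun i => g.app W.1 (s i))) (φC (ιMulti _ r bC))) =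
      SecTwist.tmul LQ LC V.1 (φQ' (ιMulti Γ(X, V.1) m bQ')) (φC' (ιMulti Γ(X, V.1) r bC')) := by
    refine (SecTwist.map_tmul LQ LC (homOfLE h) _ _).trans ?_
    show SecTwist.tmul LQ LC V.1 (res LQ h _) (res LC h _) = _
    rw [hQ, hC, resExt_ιMulti, resExt_ιMulti, ← h1, show (fun i => res C h (bC i)) = ⇑bC' from
      funext fun j => (hbC' j).symm]
    simp only [QC70.app_res]
  have hkey : L (SecTwist.tmul LQ LC V.1 (φQ' (ιMulti Γ(X, V.1) m bQ')) (φC' (ιMulti Γ(X, V.1) r bC'))) =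
      Φ' (SecTwist.tmul LQ LC V.1 (φQ' (ιMulti Γ(X, V.1) m bQ')) (φC' (ιMulti Γ(X, V.1) r bC'))) := by
    conv_lhs => rw [← hz₀]
    show (HomOn.ofLinear W.2 Φ).app V.1 h (res _ h _) = _
    rw [(HomOn.ofLinear W.2 Φ).app_res le_rfl h, HomOn.ofLinear_app_self, hΦ, hE, resExt_ιMulti, ← h1, hΦ']
    refine congrArg φE' (congrArg _ (funext fun i => ?_))
    refine Fin.addCases (fun j => ?_) (fun j => ?_) i <;> simp [hbC', QC70.app_res]
  obtain ⟨eT, heT⟩ := Mum71.exists_tensor_equiv LQ LC V.2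
  obtain ⟨t, rfl⟩ := (eT.surjective.comp (TensorProduct.congr φQ' φC').surjective) z
  refine LinearMap.congr_fun (show L.comp (eT.toLinearMap.comp (TensorProduct.congr φQ' φC').toLinearMap) =
    Φ'.comp (eT.toLinearMap.comp (TensorProduct.congr φQ' φC').toLinearMap) from ?_) t
  refine TensorProduct.ext' fun x y => ?_
  obtain ⟨a, rfl⟩ := (bijective_smul_top bQ').2 x
  obtain ⟨b, rfl⟩ := (bijective_smul_top bC').2 y
  simp only [LinearMap.comp_apply, LinearEquiv.coe_coe, TensorProduct.congr_tmul, map_smul,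
    ← TensorProduct.smul_tmul', TensorProduct.tmul_smul, heT]
  exact congrArg (fun v => b • a • v) hkey

set_option maxHeartbeats 400000 in
/-- The determinant of the middle term of a short exact sequence. -/
theorem nonempty_det_iso [C.IsQuasicoherent] [E.IsQuasicoherent] [Q.IsQuasicoherent]
    (w : f ≫ g = 0) (hS : (ShortComplex.mk f g w).ShortExact)
    (hC : FlatMod.IsFinLocFreeOfRank r C) (hQ : FlatMod.IsFinLocFreeOfRank m Q)
    (hLC : ExtPow.IsExtPow r C LC) (hLE : ExtPow.IsExtPow (m + r) E LE) (hLQ : ExtPow.IsExtPow m Q LQ) :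
    Nonempty (LE ≅ CohB1.tensorMod LQ LC) := by
  classical
  haveI := isQuasicoherent_of_isExtPow hLC
  haveI := isQuasicoherent_of_isExtPow hLE
  haveI := isQuasicoherent_of_isExtPow hLQ
  haveI := QCTens72.isQuasicoherent_tensorMod LQ LC
  obtain ⟨ψC, hψC⟩ := exists_psi hLC
  obtain ⟨ψE, hψE⟩ := exists_psi hLE
  obtain ⟨ψQ, hψQ⟩ := exists_psi hLQ
  let ι := {W : X.affineOpens // Nonempty (Module.Basis (Fin r) Γ(X, W.1) Γ(C, W.1)) ∧
    Nonempty (Module.Basis (Fin m) Γ(X, W.1) Γ(Q, W.1))}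
  have : Mono f := hS.mono_f
  have key : ∀ W : ι, ∃ Φ : Γ(CohB1.tensorMod LQ LC, W.1.1) →ₗ[Γ(X, W.1.1)] Γ(LE, W.1.1),
      Function.Bijective Φ ∧ ∀ (s : Fin m → Γ(E, W.1.1)) (c : Fin r → Γ(C, W.1.1)),
        Φ (SecTwist.tmul LQ LC W.1.1 (ψQ W.1 (ιMulti Γ(X, W.1.1) m fun i => g.app W.1.1 (s i)))
            (ψC W.1 (ιMulti Γ(X, W.1.1) r c))) =
          ψE W.1 (ιMulti Γ(X, W.1.1) (m + r) (Fin.append s fun j => f.app W.1.1 (c j))) := fun W =>
    exists_chartMap f g w hS (ψC W.1) (ψE W.1) (ψQ W.1) W.2.1.some W.2.2.some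
  choose Φ hΦb hΦ using key
  let φ : ∀ W : ι, HomOn (CohB1.tensorMod LQ LC) LE W.1.1 := fun W => HomOn.ofLinear W.1.2 (Φ W)
  have hsub : ∀ (W V : ι) (h : V.1.1 ≤ W.1.1) (z : Γ(CohB1.tensorMod LQ LC, V.1.1)),
      (φ W).app V.1.1 h z = Φ V z := fun W V h =>
    ofLinear_app_eq f g w hS h W.2.1.some W.2.2.some (hψC W.1 V.1 h) (hψE W.1 V.1 h) (hψQ W.1 V.1 h) (Φ W)
      (hΦ W) (Φ V) (hΦ V)
  have hcov : ∀ x : X, ∃ W : ι, x ∈ W.1.1 := fun x => by
    obtain ⟨U, hU, hU'⟩ := exists_basis hC x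
    obtain ⟨U₂, hU₂, hU₂'⟩ := exists_basis hQ x
    obtain ⟨W, hW, hxW, hle⟩ := exists_isAffineOpen_mem_and_subset (show x ∈ U ⊓ U₂ from ⟨hU, hU₂⟩)
    exact ⟨⟨⟨W, hW⟩, hU' W fun y hy => (hle hy).1, hU₂' W fun y hy => (hle hy).2⟩, hxW⟩
  have hcomp : HomOn.Compatible φ := by
    intro i j V hi hj z
    refine section_ext LE _ _ fun p hp => ?_
    obtain ⟨U, hU, hU'⟩ := exists_basis hC p
    obtain ⟨U₂, hU₂, hU₂'⟩ := exists_basis hQ p
    obtain ⟨W, hW, hpW, hle⟩ := exists_isAffineOpen_mem_and_subset (show p ∈ V ⊓ U ⊓ U₂ from ⟨⟨hp, hU⟩, hU₂⟩)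
    have hWV : W ≤ V := fun y hy => (hle hy).1.1
    refine ⟨W, hWV, hpW, ?_⟩
    rw [← (φ i).app_res hi hWV, ← (φ j).app_res hj hWV]
    let W' : ι := ⟨⟨W, hW⟩, hU' W fun y hy => (hle hy).1.2, hU₂' W fun y hy => (hle hy).2⟩
    exact (hsub i W' (hWV.trans hi) _).trans (hsub j W' (hWV.trans hj) _).symm
  have hU : (⊤ : X.Opens) ≤ ⨆ W : ι, W.1.1 := fun p _ => Opens.mem_iSup.2 (hcov p)
  let Ψ := (HomOn.glue hcomp hU).toHom
  have hΨ : ∀ W : ι, Function.Bijective (Ψ.app W.1.1) := fun W => by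
    refine (congrArg Function.Bijective (funext fun z => ?_)).mp (hΦb W)
    refine Eq.trans ?_ (HomOn.glue_app hcomp hU le_top W le_rfl z).symm
    rw [HomOn.ofLinear_app_self]
  haveI : IsIso Ψ := EGA73.isIso_of_bijective_cover Ψ (fun W : ι => W.1.1) (fun W => W.1.2) hcov hΨ
  exact ⟨(asIso Ψ).symm⟩

end sheaf

end Groth.Agent.Om3.DetSeq
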