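import Groth.Agent.Om3.SmoothPair
import Groth.Agent.Om3.DetSeq
import Groth.Agent.Om3.Compat
import Groth.Agent.Var76.OmegaSmooth
import Groth.Agent.Var76.OmegaUniv
import Groth.Agent.FlatMor68.LocFree
import Groth.Agent.Rib52.ExtClass
import Groth.Agent.S5020
import Groth.Agent.S5976

/-! Top forms of a closed subscheme, smooth over the base, of a smooth scheme. -/

set_option autoImplicit false
set_option backward.isDefEq.respectTransparency false

universe u

open CategoryTheory CategoryTheory.Limits AlgebraicGeometry TopologicalSpace Opposite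

noncomputable section

namespace Groth.Agent.Om3.TopForms

open Groth.Agent

theorem isFinLocFreeOfRank_omega {X S : Scheme.{u}} (f : X ⟶ S) [QuasiSeparated f] (n : ℕ)
    [hs : SmoothOfRelativeDimension n f] : FlatMod.IsFinLocFreeOfRank n (Omega.sheaf f) := by
  intro x
  obtain ⟨V, hV, W, hW, hxW, e, hstd⟩ := hs.exists_isStandardSmoothOfRelativeDimension x
  letI := (f.appLE V W e).hom.toAlgebra
  have : Algebra.IsStandardSmoothOfRelativeDimension n Γ(S, V) Γ(X, W) :=
    (RingHom.isStandardSmoothOfRelativeDimension_algebraMap n).1 hstd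
  have := this.isStandardSmooth
  have : Nonempty W := ⟨⟨x, hxW⟩⟩
  have : Module.Finite Γ(X, W) Ω[Γ(X, W)⁄Γ(S, V)] := inferInstance
  have hr : Module.finrank Γ(X, W) Ω[Γ(X, W)⁄Γ(S, V)] = n :=
    Module.finrank_eq_of_rank_eq (Algebra.IsStandardSmoothOfRelativeDimension.rank_kaehlerDifferential n)
  obtain ⟨j⟩ := Var76.OmegaSmooth.exists_equiv f hW hV e
  have : (Omega.sheaf f).IsQuasicoherent := Omega57.isQuasicoherent_omega f
  exact ⟨W, hxW, FlatMor68.LocFree.restrict_iso_free (Omega.sheaf f) hW n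
    (j.symm ≪≫ₗ (Module.finBasisOfFinrankEq _ _ hr).equivFun)⟩

theorem result {S X Y : Scheme.{u}} (f : X ⟶ S) (g : Y ⟶ S) (n m : ℕ) (hmn : m ≤ n)
    [SmoothOfRelativeDimension n f] [SmoothOfRelativeDimension m g] [QuasiSeparated f] [QuasiSeparated g]
    (i : Y ⟶ X) [IsClosedImmersion i] (hi : i ≫ f = g)
    (ωX : X.Modules) (hωX : ExtPow.IsExtPow n (Omega.sheaf f) ωX)
    (ωY : Y.Modules) (hωY : ExtPow.IsExtPow m (Omega.sheaf g) ωY)
    (L : Y.Modules) (hL : ExtPow.IsExtPow (n - m) (Omega.conormal i) L) :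
    RegImm.IsRegularImmersionOfCodim RegImm.Kind.regular (n - m) i ∧
      Nonempty ((Scheme.Modules.pullback i).obj ωX ≅ CohB1.tensorMod ωY L) := by
  have hch := SmoothPair.exists_chart f g n m i hi
  refine ⟨⟨inferInstance, fun z => ?_⟩, ?_⟩
  · obtain ⟨U, hU, hz, rs, hreg, hI, -⟩ := hch z
    exact ⟨⟨U, hU⟩, hz, inferInstance, List.ofFn rs, by simp, hreg, by rw [Koszul19.ofList_ofFn, hI]⟩
  haveI : (ClSub.idealMod i.ker).IsQuasicoherent := Omega57.isQuasicoherent_idealMod i.ker
  haveI : (Omega.conormal i).IsQuasicoherent := QCPull72.isQuasicoherent_pullback _ _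
  haveI : (Omega.sheaf f).IsQuasicoherent := Omega57.isQuasicoherent_omega f
  haveI := QCPull72.isQuasicoherent_pullback i (Omega.sheaf f)
  haveI : (Omega.sheaf g).IsQuasicoherent := Omega57.isQuasicoherent_omega g
  haveI := SmoothOfRelativeDimension.smooth m g
  have hC : FlatMod.IsFinLocFreeOfRank (n - m) (Omega.conormal i) := fun y => by
    obtain ⟨U, hU, hy, rs, -, -, ⟨b⟩⟩ := hch y
    exact ⟨i ⁻¹ᵁ U, hy, FlatMor68.LocFree.restrict_iso_free (Omega.conormal i) (hU.preimage i) _ b.equivFun⟩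
  subst hi
  obtain ⟨c, hc, -⟩ := existsUnique_diffCompat i (show (i ≫ f) ≫ 𝟙 S = i ≫ f from Category.comp_id _)
    (Var76.OmegaUniv.isUniversal f) (OmegaSh.dOmega (i ≫ f))
  obtain ⟨φ, hφ⟩ := Rib52.exists_conormalDiff i (OmegaSh.dOmega f)
  obtain ⟨hce, him⟩ := S5976.result f i (Omega.sheaf f) (OmegaSh.dOmega f) (Var76.OmegaUniv.isUniversal f)
    (Omega.sheaf (i ≫ f)) (OmegaSh.dOmega (i ≫ f)) (Var76.OmegaUniv.isUniversal (i ≫ f)) φ hφ c hc
  haveI := hce
  haveI : Mono φ := S5020.result i f ((S1488.result (i ≫ f)).1 inferInstance).2 (Omega.sheaf f) (OmegaSh.dOmega f)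
    (Var76.OmegaUniv.isUniversal f) φ hφ
  have w : φ ≫ c = 0 := by
    rw [← imageSubobject_arrow_comp φ, Category.assoc]
    have h0 : (imageSubobject φ).arrow ≫ c = 0 := by
      rw [← Subobject.ofLE_arrow him.le, Category.assoc, kernelSubobject_arrow_comp, comp_zero]
    rw [h0, comp_zero]
  have hS : (ShortComplex.mk φ c w).ShortExact :=
    { exact := (ShortComplex.exact_iff_image_eq_kernel _).2 him }
  have hn : m + (n - m) = n := by omega
  exact DetSeq.nonempty_det_iso φ c w hS hC (isFinLocFreeOfRank_omega (i ≫ f) m) hL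
    (hn.symm ▸ isExtPow_pullback i hωX) hωY

end Groth.Agent.Om3.TopForms
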