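import Groth.Agent.Om3.Conormal

/-! The map of conormal sheaves in a cartesian square. -/

set_option autoImplicit false
set_option backward.isDefEq.respectTransparency false

universe u

open CategoryTheory CategoryTheory.Limits AlgebraicGeometry TopologicalSpace Opposite TensorProduct

noncomputable section

namespace Groth.Agent.Om3

open Groth.Agent QC70 Omega57

theorem exists_pullback_preimage {R' R B' B : CommRingCat.{u}} {ρ : R' ⟶ R} {σ : R' ⟶ B'} {ia : R ⟶ B}
    {ib : B' ⟶ B} (h : IsPushout ρ σ ia ib) (hσ : Function.Surjective σ) (a : R) (ha : ia a = 0) :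
    a ∈ (RingHom.ker σ.hom).map ρ.hom := by
  let J := (RingHom.ker σ.hom).map ρ.hom
  let q : R ⟶ CommRingCat.of (R ⧸ J) := CommRingCat.ofHom (Ideal.Quotient.mk J)
  have hk : RingHom.ker σ.hom ≤ RingHom.ker (q.hom.comp ρ.hom) := fun x hx =>
    Ideal.Quotient.eq_zero_iff_mem.2 (Ideal.mem_map_of_mem _ hx)
  let l : B' ⟶ CommRingCat.of (R ⧸ J) := CommRingCat.ofHom (RingHom.liftOfSurjective σ.hom hσ ⟨_, hk⟩)
  have hw : ρ ≫ q = σ ≫ l := CommRingCat.hom_ext
    (RingHom.liftOfRightInverse_comp (f := σ.hom) _ _ ⟨q.hom.comp ρ.hom, hk⟩).symm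
  have h1 : h.desc q l hw (ia a) = q a := congr($(h.inl_desc q l hw) a)
  rw [ha, map_zero] at h1
  exact Ideal.Quotient.eq_zero_iff_mem.1 h1.symm

variable {Z X Z' X' : Scheme.{u}} {i : Z ⟶ X} {i' : Z' ⟶ X'} [IsImmersion i] [IsImmersion i']
  [QuasiCompact i] [QuasiCompact i'] {g : X ⟶ X'} {gZ : Z ⟶ Z'}
  (hsq : IsPullback i gZ g i')
  {φ : (Scheme.Modules.pullback gZ).obj (Omega.conormal i') ⟶ Omega.conormal i}
  (hφ : OmegaSh.IsConormalMap i i' g gZ φ)

include hsq hφ

/-- On a cartesian chart the map is surjective, and bijective in the flat case. -/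
theorem chart {W' : X'.Opens} (hW' : IsAffineOpen W') (hW'p : IsAffineOpen (i' ⁻¹ᵁ W'))
    (hsurj : Function.Surjective (i'.app W')) {W : X.Opens} (hW : IsAffineOpen W) (hle : W ≤ g ⁻¹ᵁ W') :
    IsAffineOpen (i ⁻¹ᵁ W) ∧ Function.Surjective (φ.app (i ⁻¹ᵁ W)) ∧
      ((g.appLE W' W hle).hom.Flat → Function.Bijective (φ.app (i ⁻¹ᵁ W))) := by
  let M := ClSub.idealMod i.ker
  let M' := ClSub.idealMod i'.ker
  haveI : M.IsQuasicoherent := isQuasicoherent_idealMod _
  haveI : M'.IsQuasicoherent := isQuasicoherent_idealMod _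
  haveI hCq : (Omega.conormal i').IsQuasicoherent := QCPull72.isQuasicoherent_pullback i' M'
  let P : Z.Opens := i ⁻¹ᵁ W
  have ePZ : P ≤ gZ ⁻¹ᵁ (i' ⁻¹ᵁ W') := fun z hz => by
    show i' (gZ z) ∈ W'
    rw [← Scheme.Hom.comp_apply, ← hsq.w, Scheme.Hom.comp_apply]
    exact hle hz
  have hPeq : P = i ⁻¹ᵁ W ⊓ gZ ⁻¹ᵁ (i' ⁻¹ᵁ W') := le_antisymm (le_inf le_rfl ePZ) inf_le_left
  haveI : IsAffine (W : Scheme.{u}) := hW
  haveI : IsAffine (W' : Scheme.{u}) := hW'
  haveI : IsAffine ((i' ⁻¹ᵁ W') : Scheme.{u}) := hW'p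
  have hP : IsAffineOpen P :=
    .of_isIso (Scheme.Hom.isPullback_resLE hsq (le_refl (i' ⁻¹ᵁ W')) hle hPeq).isoPullback.hom
  have hpush := (isIso_pushoutSection_iff hsq (le_refl (i' ⁻¹ᵁ W')) hle hPeq).mp
    (isIso_pushoutSection_of_isAffineOpen hsq (le_refl (i' ⁻¹ᵁ W')) hle hPeq hW' hW'p hW)
  have hi' : i'.appLE W' (i' ⁻¹ᵁ W') le_rfl = i'.app W' := (Scheme.Hom.app_eq_appLE _).symm
  have hi : i.appLE W P le_rfl = i.app W := (Scheme.Hom.app_eq_appLE _).symm
  rw [hi', hi] at hpush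
  have hker : ∀ a : Γ(X, W), i.app W a = 0 → a ∈ (RingHom.ker (i'.app W').hom).map (g.appLE W' W hle).hom :=
    fun a ha => exists_pullback_preimage hpush hsurj a ha
  let G := (Scheme.Modules.pullback gZ).obj (Omega.conormal i')
  let d : Γ(M', W') → Γ(G, P) := fun m => res G ePZ
    (OmegaSh.pullSect gZ (Omega.conormal i') (i' ⁻¹ᵁ W') (OmegaSh.conormalSect i' W' m))
  have hd : ∀ (m : Γ(M', W')) (s : Γ(M, W)),
      OmegaSh.idealSect i.ker W s = g.appLE W' W hle (OmegaSh.idealSect i'.ker W' m) →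
        φ.app P (d m) = OmegaSh.conormalSect i W s := fun m s hs =>
    (conormalMap_val hφ hle ePZ le_rfl m s hs).trans (res_self (M := Omega.conormal i) _)
  have hlift : ∀ m : Γ(M', W'), ∃ s : Γ(M, W),
      OmegaSh.idealSect i.ker W s = g.appLE W' W hle (OmegaSh.idealSect i'.ker W' m) := fun m =>
    ⟨res M hle (sectOf i i' g gZ hφ.1 W' m), by rw [idealSect_res, sectOf_spec]; rfl⟩
  let φL : Γ(G, P) →ₗ[Γ(Z, P)] Γ(Omega.conormal i, P) :=
    { toFun := fun s => φ.app P s, map_add' := fun a b => map_add _ a b,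
      map_smul' := fun r s => Scheme.Modules.Hom.app_smul φ r s }
  -- generators
  have hspan : Submodule.span Γ(Z, P) (Set.range (fun s : Γ(M, W) => OmegaSh.conormalSect i W s)) = ⊤ := by
    rw [← SchBasics.span_pullSect i M hP hW le_rfl]
    congr 2
    funext s
    exact (res_self (M := Omega.conormal i) _).symm
  have hsurjφ : Function.Surjective φL := by
    rw [← LinearMap.range_eq_top, ← top_le_iff, ← hspan, Submodule.span_le]
    rintro _ ⟨s, rfl⟩
    have hs : i.app W (OmegaSh.idealSect i.ker W s) = 0 := FlatMor67.app_idealSect i W s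
    have key : ∀ a ∈ (RingHom.ker (i'.app W').hom).map (g.appLE W' W hle).hom,
        ∃ t : Γ(M, W), OmegaSh.idealSect i.ker W t = a ∧ OmegaSh.conormalSect i W t ∈ LinearMap.range φL := by
      intro a ha
      induction ha using Submodule.span_induction with
      | mem y hy =>
        obtain ⟨x, hx, rfl⟩ := hy
        obtain ⟨m, hm⟩ := exists_idealSect_eq i'.ker W' x (FlatMor67.app_eq_zero_of_app i' hW' x hx)
        obtain ⟨t, ht⟩ := hlift m
        exact ⟨t, by rw [ht, hm], ⟨d m, hd m t ht⟩⟩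
      | zero => exact ⟨0, map_zero _, by rw [map_zero]; exact zero_mem _⟩
      | add y z _ _ hy hz =>
        obtain ⟨t, ht, ht'⟩ := hy
        obtain ⟨t', h', h''⟩ := hz
        exact ⟨t + t', by rw [map_add, ht, h'], by rw [map_add]; exact add_mem ht' h''⟩
      | smul r y _ hy =>
        obtain ⟨t, ht, ht'⟩ := hy
        refine ⟨r • t, by rw [idealSect_smul, ht]; rfl, ?_⟩
        have : OmegaSh.conormalSect i W (r • t) = i.app W r • OmegaSh.conormalSect i W t :=
          OmegaSh.pullSect_smul i M W r t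
        rw [this]
        exact Submodule.smul_mem _ _ ht'
    obtain ⟨t, ht, ht'⟩ := key _ (hker _ hs)
    rwa [idealSect_injective _ _ ht] at ht'
  refine ⟨hP, hsurjφ, fun hflat => ⟨?_, hsurjφ⟩⟩
  -- the flat case
  letI : Algebra Γ(X', W') Γ(X, W) := (g.appLE W' W hle).hom.toAlgebra
  haveI : Module.Flat Γ(X', W') Γ(X, W) := hflat
  let ι' : Γ(M', W') →ₗ[Γ(X', W')] Γ(X', W') :=
    { toFun := fun m => OmegaSh.idealSect i'.ker W' m, map_add' := fun a b => map_add _ a b,
      map_smul' := fun r m => idealSect_smul _ _ r m }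
  let μ : Γ(X, W) ⊗[Γ(X', W')] Γ(M', W') →ₗ[Γ(X, W)] Γ(X, W) :=
    ((Algebra.linearMap Γ(X', W') Γ(X, W)).comp ι').liftBaseChange Γ(X, W)
  have hμ : Function.Injective μ := by
    have h1 := Module.Flat.lTensor_preserves_injective_linearMap (M := Γ(X, W)) ι'
      (idealSect_injective i'.ker W')
    have h2 : ∀ x, μ x = TensorProduct.rid Γ(X', W') Γ(X, W) (ι'.lTensor Γ(X, W) x) := by
      intro x
      induction x with
      | zero => simp only [map_zero]
      | add y z hy hz => simp only [map_add, hy, hz]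
      | tmul a m =>
        rw [LinearMap.liftBaseChange_tmul, LinearMap.lTensor_tmul, TensorProduct.rid_tmul,
          Algebra.smul_def (ι' m) a, smul_eq_mul, mul_comm]
        rfl
    intro x y hxy
    rw [h2, h2] at hxy
    exact h1 ((TensorProduct.rid Γ(X', W') Γ(X, W)).injective hxy)
  letI modG : Module Γ(X, W) Γ(G, P) := Module.compHom _ (i.app W).hom
  letI modG' : Module Γ(X', W') Γ(G, P) := Module.compHom _ ((i.app W).hom.comp (g.appLE W' W hle).hom)
  haveI : IsScalarTower Γ(X', W') Γ(X, W) Γ(G, P) := IsScalarTower.of_algebraMap_smul fun _ _ => rfl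
  have hmor : ∀ r, i.app W (g.appLE W' W hle r) = Z.presheaf.map (homOfLE ePZ).op (gZ.app _ (i'.app W' r)) := by
    intro r
    refine (congr($(hpush.w) r)).trans ?_
    rfl
  let dL : Γ(M', W') →ₗ[Γ(X', W')] Γ(G, P) :=
    { toFun := d
      map_add' := fun a b => by
        show res G ePZ _ = _
        rw [map_add, map_add, res_add]
      map_smul' := fun r m => by
        show res G ePZ _ = i.app W (g.appLE W' W hle r) • d m
        refine Eq.trans (congrArg (fun t => res G ePZ (OmegaSh.pullSect gZ (Omega.conormal i') (i' ⁻¹ᵁ W') t))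
          (OmegaSh.pullSect_smul i' M' W' r m)) ?_
        refine Eq.trans (congrArg (res G ePZ)
          (OmegaSh.pullSect_smul gZ (Omega.conormal i') (i' ⁻¹ᵁ W') (i'.app W' r) _)) ?_
        rw [hmor]
        exact res_smul (M := G) _ _ _ }
  let ν : Γ(X, W) ⊗[Γ(X', W')] Γ(M', W') →ₗ[Γ(X, W)] Γ(G, P) := dL.liftBaseChange Γ(X, W)
  have hex : ∀ s : Γ(M, W), ∃ x, μ x = OmegaSh.idealSect i.ker W s := by
    intro s
    have hs := hker _ (FlatMor67.app_idealSect i W s)
    generalize OmegaSh.idealSect i.ker W s = a at hs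
    induction hs using Submodule.span_induction with
    | mem y hy =>
      obtain ⟨x, hx, rfl⟩ := hy
      obtain ⟨m, hm⟩ := exists_idealSect_eq i'.ker W' x (FlatMor67.app_eq_zero_of_app i' hW' x hx)
      refine ⟨1 ⊗ₜ m, ?_⟩
      rw [LinearMap.liftBaseChange_tmul, one_smul]
      show g.appLE W' W hle (OmegaSh.idealSect i'.ker W' m) = _
      rw [hm]
    | zero => exact ⟨0, map_zero _⟩
    | add y z _ _ hy hz =>
      obtain ⟨a, rfl⟩ := hy; obtain ⟨b, rfl⟩ := hz
      exact ⟨a + b, map_add _ _ _⟩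
    | smul r y _ hy =>
      obtain ⟨a, rfl⟩ := hy
      exact ⟨r • a, map_smul _ _ _⟩
  choose inv hinv using hex
  let gM : Γ(M, W) →+ Γ(G, P) := AddMonoidHom.mk' (fun s => ν (inv s)) fun a b => by
    rw [← map_add]
    exact congrArg ν (hμ (by rw [hinv, map_add, map_add, hinv, hinv]))
  obtain ⟨ℓ, hℓ⟩ := SchBasics.exists_linear_pullSect i M G hP hW le_rfl gM fun r m => by
    show ν (inv (r • m)) = i.appLE W P le_rfl r • ν (inv m)
    rw [hi]
    refine Eq.trans ?_ (ν.map_smul r (inv m))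
    exact congrArg ν (hμ (by rw [map_smul μ, hinv, hinv, idealSect_smul, smul_eq_mul]))
  have hℓd : ∀ m, ℓ (φL (d m)) = d m := by
    intro m
    obtain ⟨s, hs⟩ := hlift m
    show ℓ (φ.app P (d m)) = _
    rw [hd m s hs]
    refine (congrArg ℓ (res_self (M := Omega.conormal i) _).symm).trans ((hℓ s).trans ?_)
    show ν (inv s) = d m
    rw [show inv s = 1 ⊗ₜ m from hμ (by
      rw [hinv, hs, LinearMap.liftBaseChange_tmul, one_smul]; rfl), LinearMap.liftBaseChange_tmul, one_smul]
    rfl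
  refine Function.LeftInverse.injective (g := ℓ) fun x => ?_
  have hx : x ∈ Submodule.span Γ(Z, P) (Set.range fun y => res G ePZ
      (OmegaSh.pullSect gZ (Omega.conormal i') (i' ⁻¹ᵁ W') y)) := by
    rw [SchBasics.span_pullSect gZ (Omega.conormal i') hP hW'p ePZ]; trivial
  show ℓ (φL x) = x
  induction hx using Submodule.span_induction with
  | zero => rw [map_zero, map_zero]
  | add y z _ _ hy hz => rw [map_add, map_add, hy, hz]
  | smul r y _ hy => rw [map_smul, map_smul, hy]
  | mem y hy =>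
    obtain ⟨c, rfl⟩ := hy
    have hc : c ∈ Submodule.span Γ(Z', i' ⁻¹ᵁ W') (Set.range fun m : Γ(M', W') =>
        OmegaSh.conormalSect i' W' m) := by
      have := SchBasics.span_pullSect i' M' hW'p hW' le_rfl
      have h2 : (Set.range fun m : Γ(M', W') => OmegaSh.conormalSect i' W' m) = Set.range fun m : Γ(M', W') =>
          res (Omega.conormal i') le_rfl (OmegaSh.conormalSect i' W' m) :=
        congrArg Set.range (funext fun m => (res_self (M := Omega.conormal i') _).symm)
      rw [h2]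
      exact this.ge trivial
    induction hc using Submodule.span_induction with
    | mem y hy => obtain ⟨m, rfl⟩ := hy; exact hℓd m
    | zero =>
      show ℓ (φL (res G ePZ _)) = res G ePZ _
      rw [map_zero, QC70.res_zero, map_zero, map_zero]
    | add y z _ _ hy hz =>
      show ℓ (φL (res G ePZ _)) = res G ePZ _
      rw [map_add, res_add, map_add, map_add]
      exact congrArg₂ (· + ·) hy hz
    | smul r y _ hy =>
      show ℓ (φL (res G ePZ _)) = res G ePZ _
      rw [OmegaSh.pullSect_smul, res_smul, map_smul, map_smul]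
      exact congrArg _ hy

theorem epi_and_isIso : Epi φ ∧ (Flat g → IsIso φ) := by
  have hex : ∀ z : Z, ∃ (W' : X'.Opens) (W : X.Opens), IsAffineOpen W' ∧ IsAffineOpen (i' ⁻¹ᵁ W') ∧
      Function.Surjective (i'.app W') ∧ IsAffineOpen W ∧ W ≤ g ⁻¹ᵁ W' ∧ z ∈ i ⁻¹ᵁ W := by
    intro z
    obtain ⟨W', hW', hW'p, hz', -, hs⟩ := FlatMor67.exists_closed_chart i' (⊤ : Z'.Opens) (z := gZ z) trivial
    have hz : i z ∈ g ⁻¹ᵁ W' := by
      show g (i z) ∈ W'
      rw [← Scheme.Hom.comp_apply, hsq.w, Scheme.Hom.comp_apply]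
      exact hz'
    obtain ⟨_, ⟨W, hW, rfl⟩, hzW, hle⟩ := X.isBasis_affineOpens.exists_subset_of_mem_open hz (g ⁻¹ᵁ W').isOpen
    exact ⟨W', W, hW', hW'p, hs, hW, hle, hzW⟩
  choose W' W hW' hW'p hs hW hle hz using hex
  haveI : (Omega.conormal i).IsQuasicoherent :=
    haveI : (ClSub.idealMod i.ker).IsQuasicoherent := isQuasicoherent_idealMod _
    QCPull72.isQuasicoherent_pullback i _
  haveI : (Omega.conormal i').IsQuasicoherent :=
    haveI : (ClSub.idealMod i'.ker).IsQuasicoherent := isQuasicoherent_idealMod _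
    QCPull72.isQuasicoherent_pullback i' _
  refine ⟨Preadditive.epi_of_cancel_zero _ fun {K} β hβ => ?_, fun hg => ?_⟩
  · refine Scheme.Modules.hom_ext _ _ fun U => ?_
    ext s
    refine section_ext K _ _ fun p hp => ?_
    refine ⟨U ⊓ i ⁻¹ᵁ W p, inf_le_left, ⟨hp, hz p⟩, ?_⟩
    rw [← app_res, ← app_res]
    refine hom_ext_le (chart hsq hφ (hW' p) (hW'p p) (hs p) (hW p) (hle p)).1 β 0 (fun t => ?_) inf_le_right _
    obtain ⟨x, rfl⟩ := (chart hsq hφ (hW' p) (hW'p p) (hs p) (hW p) (hle p)).2.1 t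
    exact congr(($hβ).app (i ⁻¹ᵁ W p) x)
  · haveI := hg
    haveI : ((Scheme.Modules.pullback gZ).obj (Omega.conormal i')).IsQuasicoherent :=
      QCPull72.isQuasicoherent_pullback gZ _
    exact EGA73.isIso_of_bijective_cover φ (fun z => i ⁻¹ᵁ W z)
      (fun z => (chart hsq hφ (hW' z) (hW'p z) (hs z) (hW z) (hle z)).1) (fun z => ⟨z, hz z⟩)
      fun z => (chart hsq hφ (hW' z) (hW'p z) (hs z) (hW z) (hle z)).2.2 (g.flat_appLE (hW' z) (hW z) (hle z))

end Groth.Agent.Om3
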