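import Groth.Agent.Om3.UnivExists

/-! Universal first order thickenings in a tower, and their affine charts. -/

set_option autoImplicit false
set_option backward.isDefEq.respectTransparency false

universe u

open CategoryTheory CategoryTheory.Limits AlgebraicGeometry TopologicalSpace MoreMor

namespace Groth.Agent.Om3

open Groth.Agent

theorem RingUniv.ext {A B B' C D : Type u} [CommRing A] [CommRing B] [CommRing B'] [CommRing C] [CommRing D]
    {α : A →+* B} {α' : A →+* B'} {π : B' →+* B} (h : RingUniv α α' π) (q : C →+* D)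
    (hq : Function.Surjective q) (hq2 : RingHom.ker q ^ 2 = ⊥) (β : B →+* D) {F G : B' →+* C}
    (hF : q.comp F = β.comp π) (hG : q.comp G = β.comp π) (hA : F.comp α' = G.comp α') : F = G := by
  have hβ : β.comp α = q.comp (F.comp α') := by
    rw [← RingHom.comp_assoc, hF, RingHom.comp_assoc, h.comp]
  exact (h.lift C D q hq hq2 (F.comp α') β hβ).unique ⟨hF, rfl⟩ ⟨hG, hA.symm⟩

section Tower

variable {A B C B' C' C'' : Type u} [CommRing A] [CommRing B] [CommRing C] [CommRing B'] [CommRing C']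
  [CommRing C''] {α : A →+* B} {γ : B →+* C} {δ : A →+* C} {α' : A →+* B'} {πB : B' →+* B}
  {δ' : A →+* C'} {πC : C' →+* C} {e : B →+* C''} {πC' : C'' →+* C}
  (hB : RingUniv α α' πB) (hC : RingUniv δ δ' πC) (hC' : RingUniv γ e πC') (hδ : γ.comp α = δ)
  (m : B' →+* C') (hm : πC.comp m = γ.comp πB) (hmA : m.comp α' = δ')
  (n : C' →+* C'') (hn : πC'.comp n = πC) (hnA : n.comp δ' = e.comp α)

include hB hC' hm hmA hn hnA in
theorem tower_comp : n.comp m = e.comp πB := by
  refine hB.ext πC' hC'.surj hC'.sq γ ?_ ?_ ?_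
  · rw [← RingHom.comp_assoc, hn, hm]
  · rw [← RingHom.comp_assoc, hC'.comp]
  · rw [RingHom.comp_assoc, hmA, hnA, RingHom.comp_assoc, hB.comp]

include hB hC hC' hδ hm hmA hn hnA in
theorem tower_exact : Function.Surjective n ∧ RingHom.ker n = (RingHom.ker πB).map m := by
  have hnm := tower_comp hB hC' m hm hmA n hn hnA
  set J := (RingHom.ker πB).map m with hJdef
  have hJn : J ≤ RingHom.ker n := by
    rw [hJdef, Ideal.map_le_iff_le_comap]
    intro x hx
    show n (m x) = 0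
    rw [← RingHom.comp_apply, hnm, RingHom.comp_apply, RingHom.mem_ker.1 hx, map_zero]
  have hJπ : J ≤ RingHom.ker πC := fun x hx => by
    rw [RingHom.mem_ker, ← hn, RingHom.comp_apply, RingHom.mem_ker.1 (hJn hx), map_zero]
  refine ⟨fun y => ?_, le_antisymm ?_ hJn⟩
  · let D := n.range
    let q : D →+* C := πC'.comp D.subtype
    have hq : Function.Surjective q := fun c => by
      obtain ⟨c', rfl⟩ := hC.surj c
      exact ⟨⟨n c', c', rfl⟩, RingHom.congr_fun hn c'⟩
    have hq2 : RingHom.ker q ^ 2 = ⊥ := by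
      rw [pow_two, eq_bot_iff, Ideal.mul_le]
      intro a ha b hb
      refine Ideal.mem_bot.2 (Subtype.ext ?_)
      have : (a : C'') * (b : C'') ∈ RingHom.ker πC' ^ 2 := by
        rw [pow_two]; exact Ideal.mul_mem_mul ha hb
      rwa [hC'.sq, Ideal.mem_bot] at this
    have he : ∀ x : B, e x ∈ D := fun x => by
      obtain ⟨x, rfl⟩ := hB.surj x
      exact ⟨m x, RingHom.congr_fun hnm x⟩
    obtain ⟨G, ⟨hG1, hG2⟩, -⟩ := hC'.lift D C q hq hq2 (e.codRestrict D he) (RingHom.id C)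
      (by rw [RingHom.id_comp]; exact RingHom.ext fun x => (RingHom.congr_fun hC'.comp x).symm)
    have : D.subtype.comp G = RingHom.id C'' := hC'.ext πC' hC'.surj hC'.sq (RingHom.id C)
      (by rw [← RingHom.comp_assoc, hG1]) (by rw [RingHom.id_comp, RingHom.comp_id])
      (by rw [RingHom.comp_assoc, hG2]; rfl)
    obtain ⟨c, hc⟩ := (G y).2
    exact ⟨c, hc.trans (RingHom.congr_fun this y)⟩
  · let Q := C' ⧸ J
    let q : Q →+* C := Ideal.Quotient.lift J πC hJπ
    have hq : Function.Surjective q := fun c => by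
      obtain ⟨c', rfl⟩ := hC.surj c
      exact ⟨Ideal.Quotient.mk J c', rfl⟩
    have hqq : q.comp (Ideal.Quotient.mk J) = πC := Ideal.Quotient.lift_comp_mk _ _ _
    have hq2 : RingHom.ker q ^ 2 = ⊥ := by
      have hle : RingHom.ker q ≤ (RingHom.ker πC).map (Ideal.Quotient.mk J) := fun x hx => by
        obtain ⟨x, rfl⟩ := Ideal.Quotient.mk_surjective x
        exact Ideal.mem_map_of_mem _ hx
      refine le_bot_iff.1 ((Ideal.pow_right_mono hle 2).trans ?_)
      rw [← Ideal.map_pow, hC.sq, Ideal.map_bot]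
    have hkill : RingHom.ker πB ≤ RingHom.ker ((Ideal.Quotient.mk J).comp m) := fun x hx =>
      Ideal.Quotient.eq_zero_iff_mem.2 (Ideal.mem_map_of_mem m hx)
    let b : B →+* Q := RingHom.liftOfSurjective πB hB.surj ⟨(Ideal.Quotient.mk J).comp m, hkill⟩
    have hb : b.comp πB = (Ideal.Quotient.mk J).comp m :=
      RingHom.liftOfRightInverse_comp (f := πB) _ _ ⟨(Ideal.Quotient.mk J).comp m, hkill⟩
    obtain ⟨F, ⟨hF1, hF2⟩, -⟩ := hC'.lift Q C q hq hq2 b (RingHom.id C) (RingHom.ext fun x => by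
      obtain ⟨x, rfl⟩ := hB.surj x
      show γ (πB x) = q (b (πB x))
      rw [← RingHom.comp_apply b, hb]
      exact (RingHom.congr_fun hm x).symm)
    have hFn : F.comp n = Ideal.Quotient.mk J := hC.ext q hq hq2 (RingHom.id C)
      (by rw [← RingHom.comp_assoc, hF1, RingHom.id_comp, RingHom.id_comp, hn])
      (by rw [hqq, RingHom.id_comp]) (by
        rw [RingHom.comp_assoc, hnA, ← RingHom.comp_assoc, hF2, ← hmA, ← RingHom.comp_assoc, ← hb,
          RingHom.comp_assoc, hB.comp])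
    intro x hx
    have : Ideal.Quotient.mk J x = 0 := by
      rw [← hFn, RingHom.comp_apply, RingHom.mem_ker.1 hx, map_zero]
    exact Ideal.Quotient.eq_zero_iff_mem.1 this

end Tower

theorem RingUniv.congr3 {A B B' A₁ B₁ B₁' : Type u} [CommRing A] [CommRing B] [CommRing B']
    [CommRing A₁] [CommRing B₁] [CommRing B₁'] {α : A →+* B} {α' : A →+* B'} {π : B' →+* B}
    (h : RingUniv α α' π) (ea : A ≃+* A₁) (eb : B ≃+* B₁) (eb' : B' ≃+* B₁') {α₁ : A₁ →+* B₁}
    {α₁' : A₁ →+* B₁'} {π₁ : B₁' →+* B₁} (h1 : ∀ x, α₁ (ea x) = eb (α x)) (h2 : ∀ x, α₁' (ea x) = eb' (α' x))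
    (h3 : ∀ x, π₁ (eb' x) = eb (π x)) : RingUniv α₁ α₁' π₁ where
  comp := RingHom.ext fun y => by
    obtain ⟨x, rfl⟩ := ea.surjective y
    show π₁ (α₁' (ea x)) = α₁ (ea x)
    rw [h2, h3, h1, ← RingHom.comp_apply π, h.comp]
  surj := fun y => by
    obtain ⟨x, hx⟩ := h.surj (eb.symm y)
    exact ⟨eb' x, by rw [h3, hx, eb.apply_symm_apply]⟩
  sq := by
    have hle : RingHom.ker π₁ ≤ (RingHom.ker π).map eb'.toRingHom := fun x hx => by
      obtain ⟨x, rfl⟩ := eb'.surjective x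
      refine Ideal.mem_map_of_mem eb'.toRingHom (eb.injective ?_)
      rw [← h3, RingHom.mem_ker.1 hx, map_zero]
    refine le_bot_iff.1 ((Ideal.pow_right_mono hle 2).trans ?_)
    rw [← Ideal.map_pow, h.sq, Ideal.map_bot]
  lift C D _ _ q hq hq2 γ β hβ := by
    obtain ⟨F, ⟨hF1, hF2⟩, hFu⟩ := h.lift C D q hq hq2 (γ.comp ea.toRingHom) (β.comp eb.toRingHom)
      (RingHom.ext fun x => by
        show β (eb (α x)) = q (γ (ea x))
        rw [← h1]; exact RingHom.congr_fun hβ _)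
    refine ⟨F.comp eb'.symm.toRingHom, ⟨RingHom.ext fun y => ?_, RingHom.ext fun y => ?_⟩, fun G hG => ?_⟩
    · obtain ⟨x, rfl⟩ := eb'.surjective y
      show q (F (eb'.symm (eb' x))) = β (π₁ (eb' x))
      rw [eb'.symm_apply_apply, h3]
      exact RingHom.congr_fun hF1 x
    · obtain ⟨x, rfl⟩ := ea.surjective y
      show F (eb'.symm (α₁' (ea x))) = γ (ea x)
      rw [h2, eb'.symm_apply_apply]
      exact RingHom.congr_fun hF2 x
    · have hG' : G.comp eb'.toRingHom = F := hFu _ ⟨RingHom.ext fun x => by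
        show q (G (eb' x)) = β (eb (π x))
        rw [← h3]; exact RingHom.congr_fun hG.1 _, RingHom.ext fun x => by
        show G (eb' (α' x)) = γ (ea x)
        rw [← h2]; exact RingHom.congr_fun hG.2 _⟩
      refine RingHom.ext fun y => ?_
      rw [← hG']
      exact congrArg G (eb'.apply_symm_apply y).symm

variable {Z Z' X : Scheme.{u}}

theorem le_preimage_of_thickening {Y : Scheme.{u}} {i : Z ⟶ Z'} (hi : IsFirstOrderThickening i) {f : Z' ⟶ Y}
    {U : Y.Opens} {W' : Z'.Opens} (h : i ⁻¹ᵁ W' ≤ (i ≫ f) ⁻¹ᵁ U) : W' ≤ f ⁻¹ᵁ U := fun x hx => by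
  obtain ⟨z, rfl⟩ := hi.1.2.surj x
  exact h hx

theorem exists_thickening_opens {i : Z ⟶ Z'} (hi : IsFirstOrderThickening i) {V : Z.Opens} (hV : IsAffineOpen V) :
    ∃ V' : Z'.Opens, i ⁻¹ᵁ V' = V ∧ IsAffineOpen V' ∧ Function.Surjective (i.app V') ∧
      RingHom.ker (i.app V').hom ^ 2 = ⊥ := by
  haveI := hi.1.1
  haveI := hi.1.2
  obtain ⟨V', rfl⟩ := VarGal.exists_opens i V
  have ht := fot_of_isPullback (isPullback_morphismRestrict i V') hi
  haveI := ht.1.1
  haveI := ht.1.2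
  haveI : IsAffine ((i ⁻¹ᵁ V') : Scheme.{u}) := hV
  have hV' : IsAffineOpen V' := VarGal.isAffine_of_thickening (i ∣_ V')
  refine ⟨V', rfl, hV', i.app_surjective V' hV', ?_⟩
  have := congr($(hi.2).ideal ⟨V', hV'⟩)
  simp only [Scheme.IdealSheafData.ideal_mul, Pi.mul_apply, Scheme.Hom.ker_apply,
    Scheme.IdealSheafData.ideal_bot, Pi.bot_apply] at this
  rw [pow_two]
  exact this

theorem ringUniv_chart {h : Z ⟶ X} {i : Z ⟶ Z'} {h' : Z' ⟶ X} (hu : OmegaSh.IsUnivThickening h i h')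
    {U : X.Opens} (hU : IsAffineOpen U) {V : Z.Opens} (hV : IsAffineOpen V) (hVU : V ≤ h ⁻¹ᵁ U)
    {V' : Z'.Opens} (hV' : IsAffineOpen V') (hpre : i ⁻¹ᵁ V' = V) (hV'U : V' ≤ h' ⁻¹ᵁ U) :
    RingUniv (h.appLE U V hVU).hom (h'.appLE U V' hV'U).hom (i.appLE V' V hpre.ge).hom := by
  haveI : IsAffine (U : Scheme.{u}) := hU
  haveI : IsAffine (V : Scheme.{u}) := hV
  haveI : IsAffine (V' : Scheme.{u}) := hV'
  have key : ∀ {P Q : Scheme.{u}} (f : P ⟶ Q) (A : Q.Opens) (B : P.Opens) (e : B ≤ f ⁻¹ᵁ A) (x : Γ(A, ⊤)),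
      f.appLE A B e (A.topIso.hom x) = B.topIso.hom ((f.resLE A B e).appTop x) := fun f A B e x =>
    congr($((arrowResLEAppIso f A B e).hom.w) x)
  exact (ringUniv_of_univ (univ_restrict h i h' hu V U hVU V' hpre hV'U)).congr3
    U.topIso.commRingCatIsoToRingEquiv V.topIso.commRingCatIsoToRingEquiv V'.topIso.commRingCatIsoToRingEquiv
    (fun x => key h U V hVU x) (fun x => key h' U V' hV'U x) (fun x => key i V' V hpre.ge x)

end Groth.Agent.Om3
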