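import Groth.Agent.LCI19.Local
import Groth.Agent.Om3.RingTrans
import Mathlib.RingTheory.Flat.Stability
import Mathlib.RingTheory.Polynomial.Basic

/-! Lifting relations along a Koszul regular sequence, and left exactness for tower of thickenings. -/

set_option autoImplicit false

universe u

open TensorProduct

namespace Groth.Agent.Om3

open Groth.Agent Koszul19

/-- A linear combination of lifts of a Koszul regular sequence which dies downstairs has coefficients
that may be taken to die downstairs. -/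
theorem ofList_inf_ker_le {A B : Type u} [CommRing A] [CommRing B] [Algebra A B]
    (hs : Function.Surjective (algebraMap A B)) (l : List A) (hl : KR (l.map (algebraMap A B))) :
    Ideal.ofList l ⊓ RingHom.ker (algebraMap A B) ≤ Ideal.ofList l * RingHom.ker (algebraMap A B) := by
  intro y hy
  let N := RingHom.ker (algebraMap A B)
  obtain ⟨z, hz⟩ := (range_eps_d l).ge hy.1
  have hex := ((bcKoszul (B := B) l).exact_iff (-2) (-1) 0 (by norm_num) (by norm_num)).1 (hl (-1) (by norm_num))
  have h0 : (1 : B) ⊗ₜ[A] dd (Koszul.koszul A l) (-1) 0 z = 0 := by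
    apply (TensorProduct.congr (LinearEquiv.refl A B) (eps l)).injective
    rw [map_zero, TensorProduct.congr_tmul]
    apply (TensorProduct.rid A B).injective
    rw [map_zero, TensorProduct.rid_tmul, Algebra.smul_def, LinearEquiv.refl_apply, mul_one]
    have : eps l (dd (Koszul.koszul A l) (-1) 0 z) = y := hz
    rw [this]
    exact hy.2
  obtain ⟨t, ht⟩ := (hex ((1 : B) ⊗ₜ[A] z)).1 (by rw [LinearMap.lTensor_tmul, h0])
  obtain ⟨w, rfl⟩ := one_tmul_surjective hs t
  rw [LinearMap.lTensor_tmul] at ht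
  have hk : z - dd (Koszul.koszul A l) (-2) (-1) w ∈ N • (⊤ : Submodule A _) := by
    have h1 : (1 : B) ⊗ₜ[A] (z - dd (Koszul.koszul A l) (-2) (-1) w) = 0 := by
      rw [TensorProduct.tmul_sub, ht, sub_self]
    let e : (A ⧸ N) ≃ₐ[A] B := Ideal.quotientKerAlgEquivOfSurjective (f := Algebra.ofId A B) hs
    have h2 : (1 : A ⧸ N) ⊗ₜ[A] (z - dd (Koszul.koszul A l) (-2) (-1) w) = 0 := by
      apply (TensorProduct.congr e.toLinearEquiv (LinearEquiv.refl A _)).injective
      rw [map_zero, TensorProduct.congr_tmul]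
      simpa using h1
    rw [← (TensorProduct.quotTensorEquivQuotSMul _ N).map_eq_zero_iff, ← map_one (Ideal.Quotient.mk N),
      TensorProduct.quotTensorEquivQuotSMul_mk_tmul, one_smul, Submodule.Quotient.mk_eq_zero] at h2
    exact h2
  let T := (eps l).toLinearMap.comp (dd (Koszul.koszul A l) (-1) 0)
  have hy' : y = T (z - dd (Koszul.koszul A l) (-2) (-1) w) := by
    rw [map_sub, show T z = y from hz, show T (dd (Koszul.koszul A l) (-2) (-1) w) = 0 from by
      show eps l (dd _ _ _ (dd _ _ _ w)) = 0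
      rw [dd_dd, map_zero], sub_zero]
  have h3 : T (z - dd (Koszul.koszul A l) (-2) (-1) w) ∈ (N • (⊤ : Submodule A _)).map T := Submodule.mem_map_of_mem hk
  rw [Submodule.map_smul'', Submodule.map_top, show LinearMap.range T = Ideal.ofList l from range_eps_d l, smul_eq_mul,
    mul_comm, ← hy'] at h3
  exact h3

/-- For a surjection onto a ring with a Koszul regular ideal, the square of the preimage meets the
kernel only in the product. -/
theorem sq_inf_ker_le {R' R : Type u} [CommRing R'] [CommRing R] (r : R' →+* R) (hr : Function.Surjective r)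
    {J : Ideal R} (hJ : LCI.IsKoszulRegularIdeal J) :
    J.comap r ^ 2 ⊓ RingHom.ker r ≤ J.comap r * RingHom.ker r := by
  intro x hx
  let J' := J.comap r
  let N := RingHom.ker r
  have hNJ : N ≤ J' := fun a ha => by
    show r a ∈ J
    rw [RingHom.mem_ker.1 ha]; exact J.zero_mem
  let col : Ideal R' := (J' * N).colon {x}
  by_contra hne
  have hcol : col ≠ ⊤ := fun h => hne (by
    have h1 : (1 : R') ∈ col := h ▸ trivial
    simpa [col, Submodule.mem_colon_singleton] using h1)
  obtain ⟨p, hp, hle⟩ := Ideal.exists_le_maximal _ hcol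
  haveI := hp.isPrime
  by_cases hJp : J' ≤ p
  swap
  · obtain ⟨a, ha, hap⟩ := SetLike.not_le_iff_exists.1 hJp
    exact hap (hle (Submodule.mem_colon_singleton.2 (Ideal.mul_mem_mul ha hx.2)))
  have hNp : N ≤ p := hNJ.trans hJp
  have hprime : (p.map r).IsPrime := Ideal.map_isPrime_of_surjective hr hNp
  have hcomap : (p.map r).comap r = p := by
    rw [Ideal.comap_map_of_surjective r hr]
    exact sup_eq_left.2 hNp
  obtain ⟨g, hg, l, hlJ, hkr, hgen⟩ := (LCI19.isKoszulRegularIdeal_iff J).1 hJ ⟨p.map r, hprime⟩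
    (by rw [← Ideal.map_comap_of_surjective r hr J]; exact Ideal.map_mono hJp)
  obtain ⟨g', rfl⟩ := hr g
  have hg' : g' ∉ p := fun h => hg (Ideal.mem_map_of_mem r h)
  let Q' := Localization.Away g'
  let Q := Localization.Away (r g')
  letI : Algebra Q' Q := (IsLocalization.Away.map Q' Q r g').toAlgebra
  have hpow : Submonoid.powers g' ≤ (Submonoid.powers (r g')).comap r := by
    rintro _ ⟨k, rfl⟩; exact ⟨k, (map_pow r g' k).symm⟩
  have hmapr : ∀ a, algebraMap Q' Q (algebraMap R' Q' a) = algebraMap R Q (r a) := fun a =>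
    IsLocalization.map_eq (S := Q') (Q := Q) hpow a
  have hmk : ∀ (a : R') (k : ℕ), algebraMap Q' Q (IsLocalization.mk' Q' a (⟨g' ^ k, k, rfl⟩ : Submonoid.powers g')) =
      IsLocalization.mk' Q (r a) (⟨r g' ^ k, k, rfl⟩ : Submonoid.powers (r g')) := fun a k => by
    refine (IsLocalization.map_mk' (S := Q') (Q := Q) hpow a (⟨g' ^ k, k, rfl⟩ : Submonoid.powers g')).trans ?_
    congr 1
    exact Subtype.ext (map_pow r g' k)
  have hs : Function.Surjective (algebraMap Q' Q) := fun q => by
    obtain ⟨b, ⟨_, k, rfl⟩, rfl⟩ := IsLocalization.exists_mk'_eq (Submonoid.powers (r g')) q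
    obtain ⟨a, rfl⟩ := hr b
    exact ⟨_, hmk a k⟩
  have hker : RingHom.ker (algebraMap Q' Q) ≤ N.map (algebraMap R' Q') := fun q hq => by
    obtain ⟨a, ⟨_, k, rfl⟩, rfl⟩ := IsLocalization.exists_mk'_eq (Submonoid.powers g') q
    rw [RingHom.mem_ker, hmk, IsLocalization.mk'_eq_zero_iff] at hq
    obtain ⟨⟨_, j, rfl⟩, hj⟩ := hq
    have hmem : g' ^ j * a ∈ N := by
      rw [RingHom.mem_ker, map_mul, map_pow]; exact hj
    rw [IsLocalization.mk'_mem_map_algebraMap_iff (Submonoid.powers g')]
    exact ⟨g' ^ j, ⟨j, rfl⟩, hmem⟩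
  have hker' : N.map (algebraMap R' Q') ≤ RingHom.ker (algebraMap Q' Q) := Ideal.map_le_iff_le_comap.2 fun a ha => by
    show algebraMap Q' Q (algebraMap R' Q' a) = 0
    rw [hmapr, RingHom.mem_ker.1 ha, map_zero]
  choose lift hlift using hr
  let l' : List Q' := l.map fun a => algebraMap R' Q' (lift a)
  have hl' : l'.map (algebraMap Q' Q) = l.map (algebraMap R Q) := by
    simp only [l', List.map_map]
    exact List.map_congr_left fun a _ => (hmapr _).trans (congrArg _ (hlift a))
  have hkr' : KR (l'.map (algebraMap Q' Q)) := hl' ▸ hkr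
  have hl'J : Ideal.ofList l' ≤ J'.map (algebraMap R' Q') := Ideal.span_le.2 fun q hq => by
    obtain ⟨a, ha, rfl⟩ := List.mem_map.1 (show q ∈ l' from hq)
    exact Ideal.mem_map_of_mem _ (show r (lift a) ∈ J by rw [hlift]; exact hlJ a ha)
  have hJQ : J'.map (algebraMap R' Q') ≤ Ideal.ofList l' ⊔ N.map (algebraMap R' Q') := by
    refine le_trans ?_ (sup_le_sup le_rfl hker)
    have h1 : (Ideal.ofList l').map (algebraMap Q' Q) = J.map (algebraMap R Q) := by
      rw [hgen, ← hl']
      show (Ideal.span _).map _ = Ideal.span _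
      rw [Ideal.map_span]
      congr 1
      ext q
      simp only [Set.mem_image, Set.mem_setOf_eq, List.mem_map]
      rfl
    rw [RingHom.ker_eq_comap_bot, ← Ideal.comap_map_of_surjective _ hs, h1, Ideal.map_le_iff_le_comap]
    intro a ha
    show algebraMap Q' Q (algebraMap R' Q' a) ∈ J.map (algebraMap R Q)
    rw [hmapr]
    exact Ideal.mem_map_of_mem _ ha
  have hxQ : algebraMap R' Q' x ∈ (J' * N).map (algebraMap R' Q') := by
    let JQ := J'.map (algebraMap R' Q')
    let NQ := N.map (algebraMap R' Q')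
    have hx2 : algebraMap R' Q' x ∈ JQ ^ 2 := by
      rw [← Ideal.map_pow]; exact Ideal.mem_map_of_mem _ hx.1
    have hxN : algebraMap R' Q' x ∈ NQ := Ideal.mem_map_of_mem _ hx.2
    have hsq : JQ ^ 2 ≤ Ideal.ofList l' ⊔ JQ * NQ := by
      rw [pow_two]
      refine (Ideal.mul_mono le_rfl hJQ).trans ?_
      rw [Ideal.mul_sup]
      exact sup_le_sup Ideal.mul_le_right le_rfl
    obtain ⟨y, hy, n, hn, hyn⟩ := Submodule.mem_sup.1 (hsq hx2)
    rw [Ideal.map_mul, ← hyn]
    refine add_mem ?_ hn
    have hyN : y ∈ RingHom.ker (algebraMap Q' Q) := hker' (by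
      rw [eq_sub_of_add_eq hyn]
      exact sub_mem hxN (Ideal.mul_le_right hn))
    exact Ideal.mul_mono hl'J hker (ofList_inf_ker_le hs l' hkr' ⟨hy, hyN⟩)
  rw [IsLocalization.algebraMap_mem_map_algebraMap_iff (Submonoid.powers g')] at hxQ
  obtain ⟨_, ⟨k, rfl⟩, hk⟩ := hxQ
  exact hg' (hp.isPrime.mem_of_pow_mem k (hle (Submodule.mem_colon_singleton.2 hk)))

/-- Left exactness of the sequence of kernels in a tower of universal thickenings, the upper step being lci. -/
theorem tower_injective {A B C B' C' : Type u} [CommRing A] [CommRing B] [CommRing C] [CommRing B'] [CommRing C']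
    {α : A →+* B} {γ : B →+* C} {δ : A →+* C} {α' : A →+* B'} {πB : B' →+* B} {δ' : A →+* C'} {πC : C' →+* C}
    (hB : RingUniv α α' πB) (hC : RingUniv δ δ' πC) (hδ : γ.comp α = δ)
    (m : B' →+* C') (hm : πC.comp m = γ.comp πB) (hmA : m.comp α' = δ')
    (hlci : letI := γ.toAlgebra; LCI.IsLCI B C)
    {ι : Type u} (s : Finset ι) (c : ι → C') (k : ι → RingHom.ker πB) (h0 : ∑ i ∈ s, c i * m (k i) = 0)
    {M : Type u} [AddCommGroup M] [Module C M] (ℓ : RingHom.ker πB →+ M)
    (hℓ : ∀ (b : B') (x : RingHom.ker πB), ℓ (b • x) = γ (πB b) • ℓ x) :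
    ∑ i ∈ s, πC (c i) • ℓ (k i) = 0 := by
  classical
  letI := γ.toAlgebra
  obtain ⟨-, n, φ, hφ, hJ⟩ := hlci
  let K := RingHom.ker πB
  let P := MvPolynomial (Fin n) B
  let P' := MvPolynomial (Fin n) B'
  let r : P' →+* P := MvPolynomial.map πB
  have hr : Function.Surjective r := MvPolynomial.map_surjective _ hB.surj
  let θ : P' →+* C := φ.toRingHom.comp r
  have hθ : Function.Surjective θ := hφ.comp hr
  have hθC : ∀ b, θ (MvPolynomial.C b) = γ (πB b) := fun b => by
    show φ (r (MvPolynomial.C b)) = _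
    rw [MvPolynomial.map_C]
    exact φ.commutes _
  let J' := RingHom.ker θ
  have hJ' : J' = (RingHom.ker φ.toRingHom).comap r := rfl
  let q : P' ⧸ J' ^ 2 →+* C := Ideal.Quotient.lift _ θ fun a ha => Ideal.pow_le_self two_ne_zero ha
  have hq : Function.Surjective q := fun x => (hθ x).elim fun a ha => ⟨Ideal.Quotient.mk _ a, ha⟩
  have hq2 : RingHom.ker q ^ 2 = ⊥ := by
    have hle : RingHom.ker q ≤ J'.map (Ideal.Quotient.mk (J' ^ 2)) := fun x hx => by
      obtain ⟨x, rfl⟩ := Ideal.Quotient.mk_surjective x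
      exact Ideal.mem_map_of_mem _ hx
    refine le_bot_iff.1 ((Ideal.pow_right_mono hle 2).trans ?_)
    rw [← Ideal.map_pow, Ideal.map_quotient_self]
  obtain ⟨G, ⟨hG1, hG2⟩, -⟩ := hC.lift _ C q hq hq2
    ((Ideal.Quotient.mk (J' ^ 2)).comp ((MvPolynomial.C : B' →+* P').comp α')) (RingHom.id C)
    (RingHom.ext fun a => by
      show δ a = θ (MvPolynomial.C (α' a))
      rw [hθC, ← RingHom.comp_apply πB, hB.comp, ← hδ]
      rfl)
  have hGm : G.comp m = (Ideal.Quotient.mk (J' ^ 2)).comp (MvPolynomial.C : B' →+* P') := by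
    refine hB.ext q hq hq2 γ ?_ ?_ ?_
    · rw [← RingHom.comp_assoc, hG1, RingHom.id_comp, hm]
    · exact RingHom.ext hθC
    · rw [RingHom.comp_assoc, hmA, hG2, RingHom.comp_assoc]
  choose ct hct using fun i => Ideal.Quotient.mk_surjective (G (c i))
  have hθct : ∀ i, θ (ct i) = πC (c i) := fun i => by
    show q (Ideal.Quotient.mk _ (ct i)) = _
    rw [hct]
    exact RingHom.congr_fun hG1 (c i)
  let x : P' := ∑ i ∈ s, ct i * MvPolynomial.C (k i : B')
  have hN : RingHom.ker r = K.map (MvPolynomial.C : B' →+* P') := MvPolynomial.ker_map πB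
  have hxN : x ∈ RingHom.ker r := sum_mem fun i _ => Ideal.mul_mem_left _ _ (by
    rw [hN]; exact Ideal.mem_map_of_mem _ (k i).2)
  have hx2 : x ∈ J' ^ 2 := by
    rw [← Ideal.Quotient.eq_zero_iff_mem, map_sum, ← map_zero G, ← h0, map_sum]
    refine Finset.sum_congr rfl fun i _ => ?_
    rw [map_mul, map_mul, hct, show G (m (k i)) = _ from RingHom.congr_fun hGm (k i : B')]
    rfl
  have hxJ : x ∈ J' * RingHom.ker r := sq_inf_ker_le r hr hJ ⟨hx2, hxN⟩
  -- the kernel upstairs is a tensor product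
  let μ : P' ⊗[B'] K →ₗ[P'] P' := ((Algebra.linearMap B' P').comp (Submodule.subtype K)).liftBaseChange P'
  have hμ : Function.Injective μ := by
    have h1 := Module.Flat.lTensor_preserves_injective_linearMap (M := P') (Submodule.subtype K) Subtype.val_injective
    have h2 : ∀ t, μ t = TensorProduct.rid B' P' ((Submodule.subtype K).lTensor P' t) := fun t => by
      induction t with
      | zero => simp
      | add a b ha hb => simp only [map_add, ha, hb]
      | tmul p y => simp [μ, Algebra.smul_def, mul_comm]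
    intro a b hab
    rw [h2, h2] at hab
    exact h1 ((TensorProduct.rid B' P').injective hab)
  have hrange : RingHom.ker r ≤ LinearMap.range μ := by
    rw [hN, Ideal.map, Ideal.span_le]
    rintro _ ⟨y, hy, rfl⟩
    exact ⟨1 ⊗ₜ ⟨y, hy⟩, by simp [μ, P', MvPolynomial.algebraMap_eq]⟩
  obtain ⟨t, htJ, htx⟩ : ∃ t ∈ J' • (⊤ : Submodule P' (P' ⊗[B'] K)), μ t = x := by
    have h1 : J' * RingHom.ker r ≤ (J' • (⊤ : Submodule P' (P' ⊗[B'] K))).map μ := by
      rw [Submodule.map_smul'', Submodule.map_top, ← smul_eq_mul]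
      exact Submodule.smul_mono le_rfl hrange
    exact h1 hxJ
  letI : Module P' M := Module.compHom M θ
  letI : Module B' M := Module.compHom M (γ.comp πB)
  haveI : IsScalarTower B' P' M := IsScalarTower.of_algebraMap_smul fun b y => by
    show θ (MvPolynomial.C b) • y = γ (πB b) • y
    rw [hθC]
  let ℓL : K →ₗ[B'] M := { toFun := ℓ, map_add' := ℓ.map_add, map_smul' := hℓ }
  let Θ : P' ⊗[B'] K →ₗ[P'] M := ℓL.liftBaseChange P'
  have hΘ : Θ t = 0 := by
    clear htx
    induction htJ using Submodule.smul_induction_on' with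
    | smul a ha y _ =>
      rw [map_smul]
      show θ a • Θ y = 0
      rw [RingHom.mem_ker.1 ha, zero_smul]
    | add a _ b _ ha hb => rw [map_add, ha, hb, add_zero]
  have ht : t = ∑ i ∈ s, ct i ⊗ₜ k i := hμ (by
    rw [htx, map_sum]
    exact Finset.sum_congr rfl fun i _ => by simp [μ, P', MvPolynomial.algebraMap_eq])
  rw [ht, map_sum] at hΘ
  rw [← hΘ]
  refine Finset.sum_congr rfl fun i _ => ?_
  rw [LinearMap.liftBaseChange_tmul, ← hθct]
  rfl

end Groth.Agent.Om3
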