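import Groth.Agent.FlatMor67.GenericFibre
import Groth.Agent.Sep12.Basic
import Mathlib.AlgebraicGeometry.Geometrically.Reduced
import Mathlib.AlgebraicGeometry.FunctionField
import Mathlib.AlgebraicGeometry.Morphisms.Smooth

/-! A geometrically reduced fibre gives a separable extension of residue fields. -/

set_option linter.style.haveILetI false
set_option backward.isDefEq.respectTransparency.types false

universe u

open AlgebraicGeometry CategoryTheory Limits TensorProduct

namespace Groth.Agent.Om3.GenDiff

open Groth.Agent FlatMor67

theorem formallySmooth_residueFieldMap {X Y : Scheme.{u}} [IsIntegral X] (f : X ⟶ Y) [LocallyOfFiniteType f]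
    (hsep : GeometricallyReduced (f.fiberToSpecResidueField (f (genericPoint X)))) :
    (f.residueFieldMap (genericPoint X)).hom.FormallySmooth := by
  set x := genericPoint X
  set y := f x
  letI : Field (X.presheaf.stalk x) := inferInstanceAs (Field X.functionField)
  haveI : IsIso (X.residue x) := by
    refine (ConcreteCategory.isIso_iff_bijective _).mpr ⟨?_, Ideal.Quotient.mk_surjective⟩
    show Function.Injective (IsLocalRing.residue (X.presheaf.stalk x))
    exact RingHom.injective _
  let ψ : Y.residueField y ⟶ X.presheaf.stalk x := f.residueFieldMap x ≫ inv (X.residue x)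
  have hfac : X.fromSpecStalk x ≫ f = Spec.map ψ ≫ Y.fromSpecResidueField y := by
    show _ = Spec.map (f.residueFieldMap x ≫ inv (X.residue x)) ≫ _
    rw [Spec.map_comp, Category.assoc, Scheme.Hom.SpecMap_residueFieldMap_fromSpecResidueField]
    show _ = Spec.map (inv (X.residue x)) ≫ (Spec.map (X.residue x) ≫ X.fromSpecStalk x) ≫ f
    rw [Category.assoc, ← Spec.map_comp_assoc, IsIso.hom_inv_id, Spec.map_id, Category.id_comp]
  let j : Spec (X.presheaf.stalk x) ⟶ f.fiber y :=
    pullback.lift (X.fromSpecStalk x) (Spec.map ψ) hfac
  have hj : j ≫ f.fiberToSpecResidueField y = Spec.map ψ := pullback.lift_snd _ _ _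
  have hjι : j ≫ f.fiberι y = X.fromSpecStalk x := pullback.lift_fst _ _ _
  have hsq : IsPullback j (𝟙 _) (f.fiberι y) (X.fromSpecStalk x) :=
    IsPullback.of_isLimit' ⟨by simp [hjι]⟩ (PullbackCone.IsLimit.mk _ (fun s => s.snd)
      (fun s => by rw [← cancel_mono (f.fiberι y), Category.assoc, hjι, s.condition])
      (fun s => Category.comp_id _) (fun s m _ hm => (Category.comp_id m).symm.trans hm))
  haveI : Flat j := MorphismProperty.of_isPullback hsq.flip (flat_fromSpecStalk x)
  haveI : IsPreimmersion (j ≫ f.fiberι y) := hjι ▸ inferInstance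
  haveI : IsPreimmersion j := IsPreimmersion.of_comp j (f.fiberι y)
  letI : Algebra (Y.residueField y) (X.presheaf.stalk x) := ψ.hom.toAlgebra
  have hred : Algebra.IsGeometricallyReduced (Y.residueField y) (X.presheaf.stalk x) := by
    rw [Algebra.isGeometricallyReduced_field_iff]
    let L := AlgebraicClosure (Y.residueField y)
    let h : Spec (CommRingCat.of L) ⟶ Spec (Y.residueField y) :=
      Spec.map (CommRingCat.ofHom (algebraMap (Y.residueField y) L))
    let g := f.fiberToSpecResidueField y
    haveI : IsReduced (pullback g h) :=
      hsep.geometrically_isReduced _ _ _ (IsPullback.of_hasPullback g h)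
    haveI : IsReduced (pullback j (pullback.fst g h)) :=
      isReduced_of_flat_isPreimmersion (pullback.snd j (pullback.fst g h))
    haveI : IsReduced (pullback (j ≫ g) h) :=
      isReduced_of_isOpenImmersion (pullbackRightPullbackFstIso g h j).inv
    have hP : IsReduced (pullback h (Spec.map (CommRingCat.ofHom
        (algebraMap (Y.residueField y) (X.presheaf.stalk x))))) :=
      isReduced_of_isOpenImmersion ((pullbackSymmetry _ _) ≪≫
        pullback.congrHom (show Spec.map (CommRingCat.ofHom (algebraMap (Y.residueField y)
          (X.presheaf.stalk x))) = j ≫ g from hj.symm) (rfl : h = h)).hom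
    haveI : IsReduced (Spec (CommRingCat.of (L ⊗[Y.residueField y] X.presheaf.stalk x))) :=
      @isReduced_of_isOpenImmersion _ _ (pullbackSpecIso (Y.residueField y) L (X.presheaf.stalk x)).inv
        inferInstance hP
    exact affine_isReduced_iff _ |>.mp ‹_›
  have hfs : Algebra.FormallySmooth (Y.residueField y) (X.presheaf.stalk x) :=
    Sep12.formallySmooth_iff_isGeometricallyReduced.mpr hred
  have hrfm : f.residueFieldMap x = ψ ≫ X.residue x := by simp [ψ]
  rw [hrfm, CommRingCat.hom_comp, RingHom.FormallySmooth.respectsIso.cancel_right_isIso]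
  exact hfs

end Groth.Agent.Om3.GenDiff
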