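import Groth.Agent.Om3.GenDiffAlg
import Groth.Agent.Om3.GenSmooth
import Groth.Agent.Om3.Chart
import Groth.Agent.SchBasics.OmegaChart
import Groth.Agent.SchBasics.PullSpan
import Groth.Agent.Var76.OmegaUniv
import Groth.Agent.WC97.Dim
import Mathlib.AlgebraicGeometry.Morphisms.Smooth
import Mathlib.RingTheory.Etale.Kaehler
import Mathlib.RingTheory.Smooth.Kaehler

/-! Pulled back differentials at the generic point. -/

set_option autoImplicit false
set_option backward.isDefEq.respectTransparency false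

universe u

open CategoryTheory CategoryTheory.Limits AlgebraicGeometry TopologicalSpace Opposite TensorProduct

noncomputable section

namespace Groth.Agent.Om3.GenDiff

open Groth.Agent QC70 Var76.OmegaUniv

/-- The residue field at the generic point is the fraction field of any affine chart. -/
theorem isLocalization_residueField {Y : Scheme.{u}} [AlgebraicGeometry.IsIntegral Y] {V : Y.Opens} (hV : IsAffineOpen V)
    (y : Y) (hy : y = genericPoint Y) (hyV : y ∈ V) :
    letI := (Y.evaluation V y hyV).hom.toAlgebra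
    IsLocalization (nonZeroDivisors Γ(Y, V)) (Y.residueField y) := by
  subst hy
  have : Nonempty V := ⟨⟨_, hyV⟩⟩
  letI := (Y.evaluation V (genericPoint Y) hyV).hom.toAlgebra
  have hfr : IsFractionRing Γ(Y, V) Y.functionField := functionField_isFractionRing_of_isAffineOpen Y V hV
  have hbij : Function.Bijective (Y.residue (genericPoint Y)).hom :=
    ⟨RingHom.injective (Y.residue (genericPoint Y)).hom, IsLocalRing.residue_surjective⟩
  exact IsLocalization.isLocalization_of_algEquiv (S := Y.functionField) _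
    (AlgEquiv.ofRingEquiv (f := RingEquiv.ofBijective (Y.residue (genericPoint Y)).hom hbij) fun b => rfl)


variable (k : Type u) [Field k]

/-- Global sections of the base. -/
abbrev R0 := Γ(Spec (CommRingCat.of k), (⊤ : (Spec (CommRingCat.of k)).Opens))

theorem isField_R0 : IsField (R0 k) :=
  MulEquiv.isField (Field.toIsField k)
    (Scheme.ΓSpecIso (CommRingCat.of k)).commRingCatIsoToRingEquiv.toMulEquiv

instance : Field (R0 k) := (isField_R0 k).toField

variable {k} {X Z : Scheme.{u}} {pX : X ⟶ Spec (CommRingCat.of k)} {pZ : Z ⟶ Spec (CommRingCat.of k)}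

/-- The map from the base ring to a residue field. -/
def toRes (pX : X ⟶ Spec (CommRingCat.of k)) {A : X.Opens} (x : X) (hx : x ∈ A) :
    R0 k →+* X.residueField x :=
  (X.evaluation A x hx).hom.comp (pX.appLE ⊤ A le_top).hom

theorem exists_theta {ΩX : X.Modules} {dX : OmegaSh.Der pX ΩX} (hX : OmegaSh.IsUniversal dX)
    {A : X.Opens} (hA : IsAffineOpen A) (x : X) (hx : x ∈ A) :
    letI := (toRes pX x hx).toAlgebra
    ∃ θ : Γ(ΩX, A) →+ Ω[X.residueField x⁄R0 k],
      (∀ a m, θ (a • m) = X.evaluation A x hx a • θ m) ∧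
      ∀ a, θ (dX.app A a) = KaehlerDifferential.D (R0 k) (X.residueField x) (X.evaluation A x hx a) := by
  letI := (toRes pX x hx).toAlgebra
  letI : Algebra (R0 k) Γ(X, A) := (pX.appLE ⊤ A le_top).hom.toAlgebra
  letI : Algebra Γ(X, A) (X.residueField x) := (X.evaluation A x hx).hom.toAlgebra
  haveI : IsScalarTower (R0 k) Γ(X, A) (X.residueField x) := IsScalarTower.of_algebraMap_eq fun _ => rfl
  obtain ⟨e, he⟩ := SchBasics.exists_chartEquiv hX hA (isAffineOpen_top _) (le_top : A ≤ pX ⁻¹ᵁ ⊤)
  let l : Γ(ΩX, A) →ₗ[Γ(X, A)] Ω[X.residueField x⁄R0 k] :=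
    (KaehlerDifferential.map (R0 k) (R0 k) Γ(X, A) (X.residueField x)).comp e.symm.toLinearMap
  refine ⟨l.toAddMonoidHom, fun a m => ?_, fun a => ?_⟩
  · refine (l.map_smul a m).trans ?_
    exact (algebraMap_smul (X.residueField x) a _).symm
  · show KaehlerDifferential.map _ _ _ _ (e.symm (dX.app A a)) = _
    rw [show e.symm (dX.app A a) = _ from e.symm_apply_eq.2 (he a).symm]
    exact KaehlerDifferential.map_D _ _ _ _ a

theorem residueFieldMap_evaluation (f : X ⟶ Z) {A : X.Opens} {V : Z.Opens} (e : A ≤ f ⁻¹ᵁ V) (x : X)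
    (hx : x ∈ A) (b : Γ(Z, V)) :
    (f.residueFieldMap x).hom (Z.evaluation V (f x) (e hx) b) = X.evaluation A x hx (f.appLE V A e b) := by
  refine (Scheme.evaluation_naturality_apply f x (e hx) b).trans ?_
  show X.residue x (X.presheaf.germ _ x (e hx) (f.app V b)) = X.residue x (X.presheaf.germ A x hx (f.appLE V A e b))
  rw [Scheme.Hom.appLE, CategoryTheory.comp_apply, X.presheaf.germ_res_apply]

theorem appLE_base (f : X ⟶ Z) (w : f ≫ pZ = pX) {A : X.Opens} {V : Z.Opens} (e : A ≤ f ⁻¹ᵁ V) (r : R0 k) :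
    f.appLE V A e (pZ.appLE ⊤ V le_top r) = pX.appLE ⊤ A le_top r := by
  subst w
  rw [← CategoryTheory.comp_apply, Scheme.Hom.appLE_comp_appLE]

theorem evaluation_injective [IsIntegral X] {A : X.Opens} (hx : genericPoint X ∈ A) :
    Function.Injective (X.evaluation A (genericPoint X) hx) := by
  haveI : Nonempty A := ⟨⟨_, hx⟩⟩
  letI : Field (X.presheaf.stalk (genericPoint X)) := inferInstanceAs (Field X.functionField)
  exact (show Function.Injective (IsLocalRing.residue (X.presheaf.stalk (genericPoint X))) from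
    RingHom.injective _).comp (germ_injective_of_isIntegral X (genericPoint X) hx)

/-- The image of a point generic in the source. -/
theorem eq_of_closure_eq [IsIntegral X] (f : X ⟶ Z) {η : Z}
    (hη : closure {η} = closure (Set.range f)) : f (genericPoint X) = η := by
  have h1 : IsGenericPoint (f (genericPoint X)) (closure (Set.range f)) := by
    have h := (genericPoint_spec X).image f.continuous
    rwa [Set.image_univ] at h
  exact h1.eq hη

theorem mono_of_generic [IsIntegral X] [IsIntegral Z] [Smooth pZ] (f : X ⟶ Z) (w : f ≫ pZ = pX)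
    [LocallyOfFiniteType f]
    (hη : f (genericPoint X) = genericPoint Z)
    (hsep : GeometricallyReduced (f.fiberToSpecResidueField (f (genericPoint X))))
    {ΩZ : Z.Modules} {dZ : OmegaSh.Der pZ ΩZ} (hZ : OmegaSh.IsUniversal dZ)
    {ΩX : X.Modules} {dX : OmegaSh.Der pX ΩX} (hX : OmegaSh.IsUniversal dX)
    {c : (Scheme.Modules.pullback f).obj ΩZ ⟶ ΩX} (hc : OmegaSh.IsDiffCompat f dZ dX c) : Mono c := by
  haveI := SchBasics.isQuasicoherent_of_isUniversal hZ
  let M := (Scheme.Modules.pullback f).obj ΩZ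
  refine QC70.mono_of_app_injective c fun W₀ => (injective_iff_map_eq_zero (c.app W₀).hom).2 fun z hz =>
    section_ext M _ _ fun p hp => ?_
  obtain ⟨V, hV, hpV, -⟩ := exists_isAffineOpen_mem_and_subset (x := f p) (U := ⊤) trivial
  obtain ⟨A, hA, hpA, hAle⟩ := exists_isAffineOpen_mem_and_subset (x := p) (U := W₀ ⊓ f ⁻¹ᵁ V) ⟨hp, hpV⟩
  have hAW : A ≤ W₀ := fun a ha => (hAle ha).1
  have e : A ≤ f ⁻¹ᵁ V := fun a ha => (hAle ha).2
  refine ⟨A, hAW, hpA, ?_⟩
  let x := genericPoint X
  have hx : x ∈ A := (genericPoint_specializes p).mem_open A.isOpen hpA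
  obtain ⟨θ, hθ, hθd⟩ := exists_theta hX hA x hx
  letI : Algebra (R0 k) (X.residueField x) := (toRes pX x hx).toAlgebra
  letI : Algebra (R0 k) Γ(Z, V) := (pZ.appLE ⊤ V le_top).hom.toAlgebra
  letI : Algebra Γ(Z, V) Γ(X, A) := (f.appLE V A e).hom.toAlgebra
  letI : Algebra Γ(X, A) (X.residueField x) := (X.evaluation A x hx).hom.toAlgebra
  letI : Algebra Γ(Z, V) (Z.residueField (f x)) := (Z.evaluation V (f x) (e hx)).hom.toAlgebra
  letI : Algebra (Z.residueField (f x)) (X.residueField x) := (f.residueFieldMap x).hom.toAlgebra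
  letI : Algebra Γ(Z, V) (X.residueField x) := ((X.evaluation A x hx).hom.comp (f.appLE V A e).hom).toAlgebra
  haveI : IsScalarTower Γ(Z, V) Γ(X, A) (X.residueField x) := IsScalarTower.of_algebraMap_eq fun _ => rfl
  haveI : IsScalarTower Γ(Z, V) (Z.residueField (f x)) (X.residueField x) :=
    IsScalarTower.of_algebraMap_eq fun b => (residueFieldMap_evaluation f e x hx b).symm
  haveI : IsScalarTower (R0 k) Γ(Z, V) (X.residueField x) :=
    IsScalarTower.of_algebraMap_eq fun r => congrArg (X.evaluation A x hx) (appLE_base f w e r).symm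
  haveI : Algebra.Smooth (R0 k) Γ(Z, V) := pZ.smooth_appLE (isAffineOpen_top _) hV le_top
  haveI : Algebra.FormallySmooth (Z.residueField (f x)) (X.residueField x) :=
    formallySmooth_residueFieldMap f hsep
  haveI : Nonempty V := ⟨⟨_, hpV⟩⟩
  haveI : IsLocalization (nonZeroDivisors Γ(Z, V)) (Z.residueField (f x)) :=
    isLocalization_residueField hV (f x) hη (e hx)
  haveI : Algebra.FormallyEtale Γ(Z, V) (Z.residueField (f x)) :=
    Algebra.FormallyEtale.of_isLocalization (nonZeroDivisors Γ(Z, V))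
  haveI : Algebra.FormallySmooth Γ(Z, V) (X.residueField x) :=
    Algebra.FormallySmooth.comp _ (Z.residueField (f x)) _
  haveI : Module.Flat Γ(Z, V) Ω[Γ(Z, V)⁄R0 k] := inferInstance
  obtain ⟨eZ, heZ⟩ := SchBasics.exists_chartEquiv hZ hV (isAffineOpen_top _) (le_top : V ≤ pZ ⁻¹ᵁ ⊤)
  letI : Module Γ(Z, V) Γ(M, A) := Module.compHom _ (f.appLE V A e).hom
  haveI : IsScalarTower Γ(Z, V) Γ(X, A) Γ(M, A) := IsScalarTower.of_algebraMap_smul fun _ _ => rfl
  let pzL : Ω[Γ(Z, V)⁄R0 k] →ₗ[Γ(Z, V)] Γ(M, A) :=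
    { toFun := fun m => res M e (OmegaSh.pullSect f ΩZ V (eZ m))
      map_add' := fun a b => by rw [map_add, map_add, res_add]
      map_smul' := fun r a => by
        rw [map_smul, OmegaSh.pullSect_smul, res_smul]
        rfl }
  have hsurj : Function.Surjective (pzL.liftBaseChange Γ(X, A)) := by
    rw [← LinearMap.range_eq_top, eq_top_iff, ← SchBasics.span_pullSect f ΩZ hA hV e, Submodule.span_le]
    rintro _ ⟨m, rfl⟩
    obtain ⟨w, rfl⟩ := eZ.surjective m
    exact ⟨(1 : Γ(X, A)) ⊗ₜ w, by rw [LinearMap.liftBaseChange_tmul, one_smul]; rfl⟩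
  obtain ⟨t, ht⟩ := hsurj (res M hAW z)
  let φ : Γ(X, A) →ₗ[Γ(Z, V)] X.residueField x := (IsScalarTower.toAlgHom Γ(Z, V) Γ(X, A) (X.residueField x)).toLinearMap
  have hpz : ∀ m, θ (c.app A (pzL m)) = KaehlerDifferential.map (R0 k) (R0 k) Γ(Z, V) (X.residueField x) m := by
    intro m
    have hm : m ∈ Submodule.span Γ(Z, V) (Set.range (KaehlerDifferential.D (R0 k) Γ(Z, V))) := by
      rw [KaehlerDifferential.span_range_derivation]; trivial
    induction hm using Submodule.span_induction with
    | mem y hy =>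
      obtain ⟨b, rfl⟩ := hy
      rw [KaehlerDifferential.map_D]
      show θ (c.app A (res M e (OmegaSh.pullSect f ΩZ V (eZ _)))) = _
      rw [heZ, QC70.app_res, hc, ← Der.res]
      exact hθd _
    | zero =>
      rw [map_zero pzL, map_zero (KaehlerDifferential.map _ _ _ _)]
      exact (congrArg θ (map_zero (c.app A).hom)).trans (map_zero θ)
    | add a b _ _ ha hb =>
      rw [map_add pzL, map_add (KaehlerDifferential.map _ _ _ _), ← ha, ← hb]
      exact (congrArg θ (map_add (c.app A).hom _ _)).trans (map_add θ _ _)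
    | smul r a _ ha =>
      rw [map_smul pzL, map_smul (KaehlerDifferential.map _ _ _ _), ← ha, ← algebraMap_smul Γ(X, A) r (pzL a),
        ← algebraMap_smul (X.residueField x) r (θ _)]
      refine (congrArg θ (Scheme.Modules.Hom.app_smul c _ _)).trans ?_
      exact hθ _ _
  have key : ∀ t, θ (c.app A (pzL.liftBaseChange Γ(X, A) t)) =
      KaehlerDifferential.mapBaseChange (R0 k) Γ(Z, V) (X.residueField x) (φ.rTensor _ t) := by
    intro t
    induction t with
    | zero => simp only [map_zero]
    | add a b ha hb => simp only [map_add, ha, hb]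
    | tmul a m =>
      rw [LinearMap.rTensor_tmul, KaehlerDifferential.mapBaseChange_tmul, LinearMap.liftBaseChange_tmul, ← hpz m]
      exact (congrArg θ (Scheme.Modules.Hom.app_smul c _ _)).trans (hθ _ _)
  have h0 : φ.rTensor _ t = 0 := by
    refine mapBaseChange_injective (R0 k) Γ(Z, V) (X.residueField x) ?_
    rw [← key, ht, map_zero, QC70.app_res, hz, QC70.res_zero, map_zero]
  have ht0 : t = 0 := baseChange_injective φ (evaluation_injective hx) (h0.trans (map_zero _).symm)
  rw [QC70.res_zero, ← ht, ht0, map_zero]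

end Groth.Agent.Om3.GenDiff

namespace Groth.Agent.Om3.GenDiff

open Groth.Agent QC70

theorem mono_restrict_of_surjective {k : Type u} [Field k] {X Z : Scheme.{u}} {pX : X ⟶ Spec (CommRingCat.of k)}
    {pZ : Z ⟶ Spec (CommRingCat.of k)} [IsProper pX] [IsIntegral X] [IsIntegral Z] [Smooth pZ]
    (f : X ⟶ Z) [Surjective f] (w : f ≫ pZ = pX)
    (hsep : GeometricallyReduced (pullback.snd f (Z.fromSpecResidueField (genericPoint ↥Z))))
    {ΩZ : Z.Modules} {dZ : OmegaSh.Der pZ ΩZ} (hZ : OmegaSh.IsUniversal dZ)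
    {ΩX : X.Modules} {dX : OmegaSh.Der pX ΩX} (hX : OmegaSh.IsUniversal dX)
    {c : (Scheme.Modules.pullback f).obj ΩZ ⟶ ΩX} (hc : OmegaSh.IsDiffCompat f dZ dX c) (U : X.Opens) :
    Mono ((Scheme.Modules.restrictFunctor U.ι).map c) := by
  haveI : LocallyOfFiniteType (f ≫ pZ) := by rw [w]; infer_instance
  haveI : LocallyOfFiniteType f := locallyOfFiniteType_of_comp f pZ
  have hη : f (genericPoint X) = genericPoint Z := by
    refine eq_of_closure_eq f ?_
    rw [Set.range_eq_univ.2 f.surjective, closure_univ]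
    exact genericPoint_spec Z
  haveI : Mono c := mono_of_generic f w hη (by rw [hη]; exact hsep) hZ hX hc
  exact QC70.mono_of_app_injective _ fun W => QC70.app_injective_of_mono c (U.ι ''ᵁ W)

end Groth.Agent.Om3.GenDiff
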