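import Mathlib.LinearAlgebra.ExteriorAlgebra.Grading
import Mathlib.LinearAlgebra.ExteriorPower.Basic
import Mathlib.RingTheory.TensorProduct.Maps
import Mathlib.RingTheory.IsTensorProduct
import Mathlib.RingTheory.Localization.BaseChange

/-! Exterior powers commute with change of ring. -/

set_option autoImplicit false

universe u

open TensorProduct exteriorPower

noncomputable section

namespace Groth.Agent.Om3.ExtPowAlg

variable {R S M N : Type u} [CommRing R] [CommRing S] [Algebra R S] [AddCommGroup M] [Module R M]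
  [AddCommGroup N] [Module R N] [Module S N] [IsScalarTower R S N]

/-- Restriction of scalars of an alternating map. -/
def altRestrict {ι : Type*} {P Q : Type u} [AddCommGroup P] [Module R P] [Module S P] [IsScalarTower R S P]
    [AddCommGroup Q] [Module R Q] [Module S Q] [IsScalarTower R S Q] (f : P [⋀^ι]→ₗ[S] Q) :
    P [⋀^ι]→ₗ[R] Q :=
  { f.toMultilinearMap.restrictScalars R with
    map_eq_zero_of_eq' := f.map_eq_zero_of_eq' }

/-- The map on exterior powers over a change of ring. -/
def extMap (l : M →ₗ[R] N) (p : ℕ) : ↥(⋀[R]^p M) →ₗ[R] ↥(⋀[S]^p N) :=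
  alternatingMapLinearEquiv ((altRestrict (R := R) (ιMulti S p (M := N))).compLinearMap l)

theorem extMap_ιMulti (l : M →ₗ[R] N) (p : ℕ) (v : Fin p → M) :
    extMap (S := S) l p (ιMulti R p v) = ιMulti S p (fun i => l (v i)) :=
  alternatingMapLinearEquiv_apply_ιMulti _ _

theorem span_ιMulti_comp (l : M →ₗ[R] N) (h : Submodule.span S (Set.range l) = ⊤) (p : ℕ) :
    Submodule.span S (Set.range fun v : Fin p → M => ιMulti S p (fun i => l (v i))) = ⊤ := by
  rw [eq_top_iff, ← exteriorPower.ιMulti_span_of_span S p N h]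
  refine Submodule.span_mono ?_
  rintro _ ⟨w, hw, rfl⟩
  choose v hv using fun i => hw (Set.mem_range_self i)
  exact ⟨v, congrArg _ (funext hv)⟩

theorem linearMap_ext_comp (l : M →ₗ[R] N) (h : Submodule.span S (Set.range l) = ⊤) (p : ℕ)
    {Q : Type u} [AddCommGroup Q] [Module S Q] (f g : ↥(⋀[S]^p N) →ₗ[S] Q)
    (e : ∀ v : Fin p → M, f (ιMulti S p fun i => l (v i)) = g (ιMulti S p fun i => l (v i))) : f = g :=
  LinearMap.ext_on (span_ιMulti_comp l h p) (by rintro _ ⟨v, rfl⟩; exact e v)

section deg

variable {l : M →ₗ[R] N} (h : IsBaseChange S l)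

/-- Degree one part of the comparison. -/
def degOne : N →ₗ[S] S ⊗[R] ExteriorAlgebra R M :=
  ((ExteriorAlgebra.ι R).baseChange S).comp h.equiv.symm.toLinearMap

theorem degOne_mul_add (x y : N) : degOne h x * degOne h y + degOne h y * degOne h x = 0 := by
  obtain ⟨x, rfl⟩ := h.equiv.surjective x
  obtain ⟨y, rfl⟩ := h.equiv.surjective y
  simp only [degOne, LinearMap.comp_apply, LinearEquiv.coe_coe, LinearEquiv.symm_apply_apply]
  induction x with
  | zero => simp
  | add x x' hx hx' =>
    rw [map_add, add_mul, mul_add, add_add_add_comm, hx, hx', add_zero]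
  | tmul c m =>
    induction y with
    | zero => simp
    | add y y' hy hy' =>
      rw [map_add, add_mul, mul_add, add_add_add_comm, hy, hy', add_zero]
    | tmul e n =>
      rw [LinearMap.baseChange_tmul, LinearMap.baseChange_tmul, Algebra.TensorProduct.tmul_mul_tmul,
        Algebra.TensorProduct.tmul_mul_tmul, mul_comm e c, ← TensorProduct.tmul_add,
        ExteriorAlgebra.ι_add_mul_swap, TensorProduct.tmul_zero]

theorem degOne_sq (x : N) : degOne h x * degOne h x = 0 := by
  obtain ⟨x, rfl⟩ := h.equiv.surjective x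
  induction x with
  | zero => simp
  | add x y hx hy =>
    rw [map_add, map_add, add_mul, mul_add, mul_add, hx, hy, zero_add, add_zero]
    exact degOne_mul_add h _ _
  | tmul c m =>
    simp only [degOne, LinearMap.comp_apply, LinearEquiv.coe_coe, LinearEquiv.symm_apply_apply,
      LinearMap.baseChange_tmul, Algebra.TensorProduct.tmul_mul_tmul, ExteriorAlgebra.ι_sq_zero,
      TensorProduct.tmul_zero]

/-- Projection of the exterior algebra onto a graded piece. -/
def projPiece (p : ℕ) : ExteriorAlgebra R M →ₗ[R] ↥(⋀[R]^p M) :=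
  (DirectSum.component R ℕ (fun i => ↥(⋀[R]^i M)) p).comp
    (DirectSum.decomposeLinearEquiv (fun i : ℕ => ⋀[R]^i M)).toLinearMap

theorem projPiece_coe (p : ℕ) (x : ↥(⋀[R]^p M)) : projPiece p (x : ExteriorAlgebra R M) = x := by
  show (DirectSum.decompose (fun i : ℕ => ⋀[R]^i M) (x : ExteriorAlgebra R M)) p = x
  rw [DirectSum.decompose_coe]
  exact DirectSum.of_eq_same (β := fun i : ℕ => ↥(⋀[R]^i M)) p x

include h in
theorem exists_extend (p : ℕ) {Q : Type u} [AddCommGroup Q] [Module R Q] [Module S Q] [IsScalarTower R S Q]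
    (g : ↥(⋀[R]^p M) →ₗ[R] Q) :
    ∃ G : ↥(⋀[S]^p N) →ₗ[S] Q, ∀ v : Fin p → M, G (ιMulti S p fun i => l (v i)) = g (ιMulti R p v) := by
  refine ⟨(g.liftBaseChange S).comp (((projPiece (R := R) (M := M) p).baseChange S).comp
    ((ExteriorAlgebra.lift S ⟨degOne h, degOne_sq h⟩).toLinearMap.comp (⋀[S]^p N).subtype)), fun v => ?_⟩
  let inc : ExteriorAlgebra R M →ₐ[R] S ⊗[R] ExteriorAlgebra R M := Algebra.TensorProduct.includeRight
  have h1 : ∀ m, degOne h (l m) = (1 : S) ⊗ₜ ExteriorAlgebra.ι R m := fun m => by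
    simp only [degOne, LinearMap.comp_apply, LinearEquiv.coe_coe, IsBaseChange.equiv_symm_apply,
      LinearMap.baseChange_tmul]
  have hev : (ExteriorAlgebra.lift S ⟨degOne h, degOne_sq h⟩)
      (ExteriorAlgebra.ιMulti S p (fun i => l (v i))) =
      (1 : S) ⊗ₜ ExteriorAlgebra.ιMulti R p v := by
    show _ = inc _
    rw [ExteriorAlgebra.ιMulti_apply, ExteriorAlgebra.ιMulti_apply, map_list_prod, map_list_prod,
      List.map_ofFn, List.map_ofFn]
    congr 2
    funext i
    simp [inc, h1]
  rw [LinearMap.comp_apply, LinearMap.comp_apply, LinearMap.comp_apply, Submodule.subtype_apply,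
    ιMulti_apply_coe]
  erw [hev]
  rw [LinearMap.baseChange_tmul, ← ιMulti_apply_coe, projPiece_coe, LinearMap.liftBaseChange_tmul,
    one_smul]

theorem span_range_of_isBaseChange (h : IsBaseChange S l) : Submodule.span S (Set.range l) = ⊤ :=
  Submodule.eq_top_iff'.2 fun x => by
    induction x using h.inductionOn with
    | zero => exact zero_mem _
    | tmul m => exact Submodule.subset_span ⟨m, rfl⟩
    | smul s x hx => exact Submodule.smul_mem _ _ hx
    | add x y hx hy => exact add_mem hx hy

include h in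
theorem isBaseChange_extMap (p : ℕ) : IsBaseChange S (extMap (S := S) l p) := by
  obtain ⟨G, hG⟩ := exists_extend h p (TensorProduct.mk R S ↥(⋀[R]^p M) 1)
  let F := (extMap (S := S) l p).liftBaseChange S
  have hFG : F.comp G = LinearMap.id := linearMap_ext_comp l (span_range_of_isBaseChange h) p _ _ fun v => by
    rw [LinearMap.comp_apply, hG, TensorProduct.mk_apply, LinearMap.liftBaseChange_tmul, one_smul,
      extMap_ιMulti, LinearMap.id_apply]
  have hGF' : ((G.comp F).restrictScalars R).comp (TensorProduct.mk R S ↥(⋀[R]^p M) 1) =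
      TensorProduct.mk R S ↥(⋀[R]^p M) 1 := linearMap_ext (AlternatingMap.ext fun v => by
    show G (F ((1 : S) ⊗ₜ ιMulti R p v)) = (1 : S) ⊗ₜ ιMulti R p v
    rw [LinearMap.liftBaseChange_tmul, one_smul, extMap_ιMulti]
    exact hG v)
  have hGF : G.comp F = LinearMap.id := by
    apply TensorProduct.AlgebraTensorModule.ext
    intro s x
    rw [show s ⊗ₜ[R] x = s • ((1 : S) ⊗ₜ[R] x) by rw [TensorProduct.smul_tmul', smul_eq_mul, mul_one],
      map_smul, map_smul, LinearMap.id_apply]
    exact congrArg (s • ·) (congr($hGF' x))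
  exact IsBaseChange.of_equiv (LinearEquiv.ofLinearMap F G hFG hGF) fun x => by
    show F ((1 : S) ⊗ₜ x) = _
    rw [LinearMap.liftBaseChange_tmul, one_smul]

include h in
theorem isLocalizedModule_extMap (T : Submonoid R) [IsLocalization T S] (p : ℕ) :
    IsLocalizedModule T (extMap (S := S) l p) :=
  (isLocalizedModule_iff_isBaseChange T S _).2 (isBaseChange_extMap h p)

end deg

end Groth.Agent.Om3.ExtPowAlg
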