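import Groth.Prelude.Def_ExtPow2
import Groth.Agent.Om3.ExtPowAlg
import Groth.Agent.SchBasics.PullSpan
import Groth.Agent.Props58.LocFree.Sections
import Groth.Agent.QC70.Closure
import Groth.Agent.QC70.Colim

/-! Exterior powers of quasi-coherent modules commute with inverse images. -/

set_option autoImplicit false
set_option backward.isDefEq.respectTransparency false

universe u

open CategoryTheory Limits AlgebraicGeometry TopologicalSpace Opposite exteriorPower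

noncomputable section

namespace Groth.Agent.Om3

open Groth.Agent QC70 Props58.LocFree

variable {X X' : Scheme.{u}} {p : ℕ}

theorem semilinear_ext {R S M N : Type u} [CommRing R] [CommRing S] [AddCommGroup M] [Module R M]
    [AddCommGroup N] [Module S N] (σ : R → S) (f g : M →+ N) (hf : ∀ r m, f (r • m) = σ r • f m)
    (hg : ∀ r m, g (r • m) = σ r • g m) {s : Set M} (hs : Submodule.span R s = ⊤)
    (h : ∀ m ∈ s, f m = g m) : f = g := by
  ext x
  have hx : x ∈ Submodule.span R s := hs ▸ Submodule.mem_top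
  induction hx using Submodule.span_induction with
  | mem m hm => exact h m hm
  | zero => rw [map_zero, map_zero]
  | add a b _ _ ha hb => rw [map_add, map_add, ha, hb]
  | smul r a _ ha => rw [hf, hg, ha]

/-- Restriction on exterior powers of sections. -/
def resExt (E : X.Modules) (p : ℕ) {U V : X.Opens} (h : V ≤ U) :
    ↥(⋀[Γ(X, U)]^p Γ(E, U)) →+ ↥(⋀[Γ(X, V)]^p Γ(E, V)) :=
  letI := resAlg h
  letI := resModule E h
  haveI := isScalarTower_res E h
  (ExtPowAlg.extMap (S := Γ(X, V)) (resLin E h) p).toAddMonoidHom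

theorem resExt_ιMulti (E : X.Modules) {U V : X.Opens} (h : V ≤ U) (v : Fin p → Γ(E, U)) :
    resExt E p h (ιMulti Γ(X, U) p v) = ιMulti Γ(X, V) p (fun i => res E h (v i)) := by
  letI := resAlg h
  letI := resModule E h
  haveI := isScalarTower_res E h
  exact ExtPowAlg.extMap_ιMulti (S := Γ(X, V)) (resLin E h) p v

theorem resExt_smul (E : X.Modules) {U V : X.Opens} (h : V ≤ U) (r : Γ(X, U))
    (x : ↥(⋀[Γ(X, U)]^p Γ(E, U))) : resExt E p h (r • x) = resO X h r • resExt E p h x := by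
  letI := resAlg h
  letI := resModule E h
  haveI := isScalarTower_res E h
  refine ((ExtPowAlg.extMap (S := Γ(X, V)) (resLin E h) p).map_smul r x).trans ?_
  exact (algebraMap_smul Γ(X, V) r _).symm

theorem resExt_resExt (E : X.Modules) {U V W : X.Opens} (h₁ : V ≤ U) (h₂ : W ≤ V)
    (x : ↥(⋀[Γ(X, U)]^p Γ(E, U))) : resExt E p h₂ (resExt E p h₁ x) = resExt E p (h₂.trans h₁) x := by
  refine DFunLike.congr_fun (semilinear_ext (resO X (h₂.trans h₁)) ((resExt E p h₂).comp (resExt E p h₁))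
    (resExt E p (h₂.trans h₁)) (fun r m => ?_) (fun r m => resExt_smul E _ r m)
    (ιMulti_span Γ(X, U) p Γ(E, U)) ?_) x
  · show resExt E p h₂ (resExt E p h₁ (r • m)) = _
    rw [resExt_smul, resExt_smul, resO_resO]; rfl
  · rintro _ ⟨v, rfl⟩
    show resExt E p h₂ (resExt E p h₁ _) = _
    rw [resExt_ιMulti, resExt_ιMulti, resExt_ιMulti]
    simp only [res_res]

section Pair

variable (g : X' ⟶ X) (E : X.Modules)

/-- Pulled back and restricted sections. -/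
def pl {V : X'.Opens} {W : X.Opens} (e : V ≤ g ⁻¹ᵁ W) :
    Γ(E, W) →+ Γ((Scheme.Modules.pullback g).obj E, V) :=
  AddMonoidHom.mk' (fun m => res ((Scheme.Modules.pullback g).obj E) e (OmegaSh.pullSect g E W m))
    fun a b => by rw [map_add, res_add]

theorem pl_smul {V : X'.Opens} {W : X.Opens} (e : V ≤ g ⁻¹ᵁ W) (r : Γ(X, W)) (m : Γ(E, W)) :
    pl g E e (r • m) = g.appLE W V e r • pl g E e m := by
  show res _ e (OmegaSh.pullSect g E W (r • m)) = _
  rw [OmegaSh.pullSect_smul, res_smul]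
  rfl

theorem res_pl {V V' : X'.Opens} {W W' : X.Opens} (e : V ≤ g ⁻¹ᵁ W) (e' : V' ≤ g ⁻¹ᵁ W')
    (hV : V' ≤ V) (hW : W' ≤ W) (m : Γ(E, W)) :
    res ((Scheme.Modules.pullback g).obj E) hV (pl g E e m) = pl g E e' (res E hW m) := by
  show res _ hV (res _ e _) = res _ e' (OmegaSh.pullSect g E W' (res E hW m))
  rw [show OmegaSh.pullSect g E W' (res E hW m) = res _ (g.preimage_mono hW) (OmegaSh.pullSect g E W m)
    from OmegaSh.pullSect_map g E hW m, res_res, res_res]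

theorem span_pl [E.IsQuasicoherent] {V : X'.Opens} (hV : IsAffineOpen V) {W : X.Opens} (hW : IsAffineOpen W)
    (e : V ≤ g ⁻¹ᵁ W) : Submodule.span Γ(X', V) (Set.range (pl g E e)) = ⊤ :=
  SchBasics.span_pullSect g E hV hW e

theorem span_ιMulti_pl [E.IsQuasicoherent] {V : X'.Opens} (hV : IsAffineOpen V) {W : X.Opens}
    (hW : IsAffineOpen W) (e : V ≤ g ⁻¹ᵁ W) :
    Submodule.span Γ(X', V) (Set.range fun v : Fin p → Γ(E, W) =>
      ιMulti Γ(X', V) p fun i => pl g E e (v i)) = ⊤ := by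
  rw [eq_top_iff, ← exteriorPower.ιMulti_span_of_span Γ(X', V) p _ (span_pl g E hV hW e)]
  refine Submodule.span_mono ?_
  rintro _ ⟨w, hw, rfl⟩
  choose v hv using fun i => hw (Set.mem_range_self i)
  exact ⟨v, congrArg _ (funext hv)⟩

variable {E} [E.IsQuasicoherent] {L : X.Modules} [L.IsQuasicoherent]

theorem exists_pair {V : X'.Opens} (hV : IsAffineOpen V) {W : X.Opens} (hW : IsAffineOpen W)
    (e : V ≤ g ⁻¹ᵁ W) (ψ : ↥(⋀[Γ(X, W)]^p Γ(E, W)) ≃ₗ[Γ(X, W)] Γ(L, W)) :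
    ∃ Λ : ↥(⋀[Γ(X', V)]^p Γ((Scheme.Modules.pullback g).obj E, V)) →ₗ[Γ(X', V)]
      Γ((Scheme.Modules.pullback g).obj L, V), Function.Bijective Λ ∧
      ∀ v, Λ (ιMulti Γ(X', V) p fun i => pl g E e (v i)) = pl g L e (ψ (ιMulti Γ(X, W) p v)) := by
  let G := (Scheme.Modules.pullback g).obj E
  let H := (Scheme.Modules.pullback g).obj L
  letI := (g.appLE W V e).hom.toAlgebra
  letI : Module Γ(X, W) Γ(G, V) := Module.compHom _ (g.appLE W V e).hom
  letI : Module Γ(X, W) Γ(H, V) := Module.compHom _ (g.appLE W V e).hom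
  haveI : IsScalarTower Γ(X, W) Γ(X', V) Γ(G, V) := IsScalarTower.of_algebraMap_smul fun _ _ => rfl
  haveI : IsScalarTower Γ(X, W) Γ(X', V) Γ(H, V) := IsScalarTower.of_algebraMap_smul fun _ _ => rfl
  let lE : Γ(E, W) →ₗ[Γ(X, W)] Γ(G, V) :=
    { toFun := pl g E e, map_add' := map_add _, map_smul' := pl_smul g E e }
  let lL : Γ(L, W) →ₗ[Γ(X, W)] Γ(H, V) :=
    { toFun := pl g L e, map_add' := map_add _, map_smul' := pl_smul g L e }
  have hbc : IsBaseChange Γ(X', V) lE := IsBaseChange.of_lift_unique.{u, u, u} _ fun Q _ _ _ _ g₀ => by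
    letI : AddCommGroup Q := Module.addCommMonoidToAddCommGroup Γ(X', V)
    obtain ⟨l, hl⟩ := SchBasics.exists_linear_pullSect_module g E hV hW e Q g₀.toAddMonoidHom fun r m => by
      show g₀ (r • m) = _
      rw [map_smul]
      exact (algebraMap_smul Γ(X', V) r (g₀ m)).symm
    refine ⟨l, LinearMap.ext hl, fun l' hl' => ?_⟩
    refine LinearMap.ext_on (span_pl g E hV hW e) ?_
    rintro _ ⟨m, rfl⟩
    exact (congr($hl' m)).trans (hl m).symm
  obtain ⟨Λ, hΛ⟩ := ExtPowAlg.exists_extend hbc p (lL.comp ψ.toLinearMap)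
  let g₁ : Γ(L, W) →ₗ[Γ(X, W)] ↥(⋀[Γ(X', V)]^p Γ(G, V)) :=
    (ExtPowAlg.extMap (S := Γ(X', V)) lE p).comp ψ.symm.toLinearMap
  obtain ⟨ν, hν⟩ := SchBasics.exists_linear_pullSect_module g L hV hW e ↥(⋀[Γ(X', V)]^p Γ(G, V))
    g₁.toAddMonoidHom fun r m => by
      refine (g₁.map_smul r m).trans ?_
      exact (algebraMap_smul Γ(X', V) r _).symm
  have hΛ' : ∀ z, Λ (ExtPowAlg.extMap (S := Γ(X', V)) lE p z) = lL (ψ z) := fun z =>
    congr($(show ((Λ.restrictScalars Γ(X, W)).comp (ExtPowAlg.extMap (S := Γ(X', V)) lE p)) = lL.comp ψ.toLinearMap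
      from linearMap_ext (AlternatingMap.ext fun v => by
        show Λ (ExtPowAlg.extMap (S := Γ(X', V)) lE p (ιMulti _ p v)) = lL (ψ (ιMulti _ p v))
        rw [ExtPowAlg.extMap_ιMulti]
        exact hΛ v)) z)
  have h1 : ν.comp Λ = LinearMap.id := LinearMap.ext_on (span_ιMulti_pl g E hV hW e) (by
    rintro _ ⟨v, rfl⟩
    refine (congrArg ν (hΛ v)).trans ((hν _).trans ?_)
    show ExtPowAlg.extMap (S := Γ(X', V)) lE p (ψ.symm (ψ _)) = _
    rw [LinearEquiv.symm_apply_apply, ExtPowAlg.extMap_ιMulti]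
    rfl)
  have h2 : Λ.comp ν = LinearMap.id := LinearMap.ext_on (span_pl g L hV hW e) (by
    rintro _ ⟨m, rfl⟩
    refine (congrArg Λ (hν m)).trans ((hΛ' _).trans ?_)
    exact congrArg (pl g L e) (ψ.apply_symm_apply m))
  exact ⟨Λ, Function.bijective_iff_has_inverse.2 ⟨ν, fun x => congr($h1 x), fun x => congr($h2 x)⟩, hΛ⟩

end Pair

/-- The data of an exterior power, as isomorphisms out of exterior powers. -/
theorem exists_psi {E L : X.Modules} (hL : ExtPow.IsExtPow p E L) :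
    ∃ ψ : ∀ W : X.affineOpens, ↥(⋀[Γ(X, W.1)]^p Γ(E, W.1)) ≃ₗ[Γ(X, W.1)] Γ(L, W.1),
      ∀ (U V : X.affineOpens) (h : V.1 ≤ U.1) (x : ↥(⋀[Γ(X, U.1)]^p Γ(E, U.1))),
        res L h (ψ U x) = ψ V (resExt E p h x) := by
  obtain ⟨φ, hφ⟩ := hL
  refine ⟨fun W => (φ W).symm, fun U V h x => ?_⟩
  refine DFunLike.congr_fun (semilinear_ext (resO X h)
    (AddMonoidHom.mk' (fun z => res L h ((φ U).symm z)) fun a b =>
      (congrArg (res L h) (map_add _ a b)).trans (res_add h _ _))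
    (AddMonoidHom.mk' (fun z => (φ V).symm (resExt E p h z)) fun a b =>
      (congrArg (φ V).symm (map_add _ a b)).trans (map_add _ _ _))
    (fun r m => ?_) (fun r m => ?_) (ιMulti_span Γ(X, U.1) p Γ(E, U.1)) ?_) x
  · exact (congrArg (res L h) ((φ U).symm.map_smul r m)).trans (res_smul h r _)
  · exact (congrArg (φ V).symm (resExt_smul E h r m)).trans ((φ V).symm.map_smul _ _)
  · rintro _ ⟨v, rfl⟩
    refine (hφ U V h v).trans ?_
    exact congrArg (φ V).symm (resExt_ιMulti E h v).symm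

theorem isLocalizedModule_resExt (E : X.Modules) [E.IsQuasicoherent] {U : X.Opens} (hU : IsAffineOpen U)
    (f : Γ(X, U)) :
    letI := resAlg (X.basicOpen_le f)
    letI := resModule E (X.basicOpen_le f)
    haveI := isScalarTower_res E (X.basicOpen_le f)
    IsLocalizedModule (Submonoid.powers f)
      (ExtPowAlg.extMap (S := Γ(X, X.basicOpen f)) (resLin E (X.basicOpen_le f)) p) := by
  letI := resAlg (X.basicOpen_le f)
  letI := resModule E (X.basicOpen_le f)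
  haveI := isScalarTower_res E (X.basicOpen_le f)
  haveI : IsLocalization (Submonoid.powers f) Γ(X, X.basicOpen f) := isLocalization_resAlg hU f
  haveI := isLocalizedModule_resLin E (isLocAt_of_isQuasicoherent E hU) f
  exact ExtPowAlg.isLocalizedModule_extMap
    (IsLocalizedModule.isBaseChange (Submonoid.powers f) Γ(X, X.basicOpen f) _) _ p

theorem isQuasicoherent_of_isExtPow {E L : X.Modules} [E.IsQuasicoherent] (hL : ExtPow.IsExtPow p E L) :
    L.IsQuasicoherent := by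
  obtain ⟨ψ, hψ⟩ := exists_psi hL
  refine isQuasicoherent_of_forall_isLocAt _ fun U hU => ⟨fun f s => ?_, fun f t ht => ?_⟩
  · letI := resAlg (X.basicOpen_le f)
    letI := resModule E (X.basicOpen_le f)
    haveI := isScalarTower_res E (X.basicOpen_le f)
    haveI := isLocalizedModule_resExt (p := p) E hU f
    obtain ⟨⟨t, ⟨c, n, rfl⟩⟩, ht⟩ := IsLocalizedModule.surj (Submonoid.powers f)
      (ExtPowAlg.extMap (S := Γ(X, X.basicOpen f)) (resLin E (X.basicOpen_le f)) p)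
      ((ψ ⟨_, hU.basicOpen f⟩).symm s)
    refine ⟨n, ψ ⟨U, hU⟩ t, ?_⟩
    refine (hψ ⟨U, hU⟩ ⟨_, hU.basicOpen f⟩ (X.basicOpen_le f) t).trans ?_
    refine (congrArg (ψ ⟨_, hU.basicOpen f⟩) ht.symm).trans ?_
    rw [show ((⟨(fun x => f ^ x) n, n, rfl⟩ : Submonoid.powers f) • (ψ ⟨_, hU.basicOpen f⟩).symm s) =
      resO X (X.basicOpen_le f) (f ^ n) • (ψ ⟨_, hU.basicOpen f⟩).symm s from
        (algebraMap_smul Γ(X, X.basicOpen f) (f ^ n) _).symm, map_smul, LinearEquiv.apply_symm_apply,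
      resO_pow]
  · letI := resAlg (X.basicOpen_le f)
    letI := resModule E (X.basicOpen_le f)
    haveI := isScalarTower_res E (X.basicOpen_le f)
    haveI := isLocalizedModule_resExt (p := p) E hU f
    obtain ⟨z, rfl⟩ := (ψ ⟨U, hU⟩).surjective t
    have h0 : resExt E p (X.basicOpen_le f) z = 0 :=
      (ψ ⟨_, hU.basicOpen f⟩).injective
        (((hψ ⟨U, hU⟩ ⟨_, hU.basicOpen f⟩ (X.basicOpen_le f) z).symm.trans ht).trans (map_zero _).symm)
    obtain ⟨⟨c, n, rfl⟩, hc⟩ := (IsLocalizedModule.eq_zero_iff (Submonoid.powers f)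
      (ExtPowAlg.extMap (S := Γ(X, X.basicOpen f)) (resLin E (X.basicOpen_le f)) p)).1 h0
    exact ⟨n, ((ψ ⟨U, hU⟩).map_smul (f ^ n) z).symm.trans
      ((congrArg (ψ ⟨U, hU⟩) hc).trans (map_zero _))⟩

section Glue

variable {g : X' ⟶ X} {E L : X.Modules} [E.IsQuasicoherent] [L.IsQuasicoherent]
  {ψ : ∀ W : X.affineOpens, ↥(⋀[Γ(X, W.1)]^p Γ(E, W.1)) ≃ₗ[Γ(X, W.1)] Γ(L, W.1)}

/-- The comparison on a pair of affine opens. -/
def pairMap (g : X' ⟶ X) (ψ : ∀ W : X.affineOpens, ↥(⋀[Γ(X, W.1)]^p Γ(E, W.1)) ≃ₗ[Γ(X, W.1)] Γ(L, W.1))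
    (V : X'.affineOpens) (W : X.affineOpens) (e : V.1 ≤ g ⁻¹ᵁ W.1) :
    ↥(⋀[Γ(X', V.1)]^p Γ((Scheme.Modules.pullback g).obj E, V.1)) →ₗ[Γ(X', V.1)]
      Γ((Scheme.Modules.pullback g).obj L, V.1) :=
  (exists_pair g V.2 W.2 e (ψ W)).choose

theorem pairMap_spec (V : X'.affineOpens) (W : X.affineOpens) (e : V.1 ≤ g ⁻¹ᵁ W.1) :
    Function.Bijective (pairMap g ψ V W e) ∧ ∀ v, pairMap g ψ V W e
      (ιMulti Γ(X', V.1) p fun i => pl g E e (v i)) = pl g L e (ψ W (ιMulti Γ(X, W.1) p v)) :=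
  (exists_pair g V.2 W.2 e (ψ W)).choose_spec

attribute [irreducible] pairMap

variable (hψ : ∀ (U V : X.affineOpens) (h : V.1 ≤ U.1) (x : ↥(⋀[Γ(X, U.1)]^p Γ(E, U.1))),
    res L h (ψ U x) = ψ V (resExt E p h x))
include hψ

theorem pairMap_natural_of_le (V V' : X'.affineOpens) (W W' : X.affineOpens) (e : V.1 ≤ g ⁻¹ᵁ W.1)
    (e' : V'.1 ≤ g ⁻¹ᵁ W'.1) (hV : V'.1 ≤ V.1) (hW : W'.1 ≤ W.1)
    (x : ↥(⋀[Γ(X', V.1)]^p Γ((Scheme.Modules.pullback g).obj E, V.1))) :
    res ((Scheme.Modules.pullback g).obj L) hV (pairMap g ψ V W e x) =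
      pairMap g ψ V' W' e' (resExt _ p hV x) := by
  refine DFunLike.congr_fun (semilinear_ext (resO X' hV)
    (AddMonoidHom.mk' (fun z => res _ hV (pairMap g ψ V W e z)) fun a b => by rw [map_add, res_add])
    ((pairMap g ψ V' W' e').toAddMonoidHom.comp (resExt _ p hV))
    (fun r m => ?_) (fun r m => ?_) (span_ιMulti_pl g E V.2 W.2 e) ?_) x
  · show res _ hV (pairMap g ψ V W e (r • m)) = _
    exact (congrArg (res _ hV) ((pairMap g ψ V W e).map_smul r m)).trans (res_smul hV r _)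
  · show pairMap g ψ V' W' e' (resExt _ p hV (r • m)) = _
    exact (congrArg (pairMap g ψ V' W' e') (resExt_smul _ hV r m)).trans
      ((pairMap g ψ V' W' e').map_smul _ _)
  · rintro _ ⟨v, rfl⟩
    show res _ hV (pairMap g ψ V W e _) = pairMap g ψ V' W' e' (resExt _ p hV _)
    rw [(pairMap_spec V W e).2, resExt_ιMulti, res_pl g L e e' hV hW, hψ W W' hW, resExt_ιMulti,
      show (fun i => res ((Scheme.Modules.pullback g).obj E) hV (pl g E e (v i))) =
        fun i => pl g E e' (res E hW (v i)) from funext fun i => res_pl g E e e' hV hW (v i),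
      (pairMap_spec V' W' e').2]

theorem pairMap_natural (V V' : X'.affineOpens) (W W' : X.affineOpens) (e : V.1 ≤ g ⁻¹ᵁ W.1)
    (e' : V'.1 ≤ g ⁻¹ᵁ W'.1) (hV : V'.1 ≤ V.1)
    (x : ↥(⋀[Γ(X', V.1)]^p Γ((Scheme.Modules.pullback g).obj E, V.1))) :
    res ((Scheme.Modules.pullback g).obj L) hV (pairMap g ψ V W e x) =
      pairMap g ψ V' W' e' (resExt _ p hV x) := by
  refine section_ext _ _ _ fun q hq => ?_
  obtain ⟨W₀, hW₀, hqW, hWle⟩ := exists_isAffineOpen_mem_and_subset (x := g q) (U := W.1 ⊓ W'.1)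
    ⟨e (hV hq), e' hq⟩
  obtain ⟨V₀, hV₀, hqV, hVle⟩ := exists_isAffineOpen_mem_and_subset (x := q) (U := V'.1 ⊓ g ⁻¹ᵁ W₀)
    ⟨hq, hqW⟩
  have hV₀' : V₀ ≤ V'.1 := fun a ha => (hVle ha).1
  have e₀ : V₀ ≤ g ⁻¹ᵁ W₀ := fun a ha => (hVle ha).2
  refine ⟨V₀, hV₀', hqV, ?_⟩
  rw [res_res, pairMap_natural_of_le hψ V ⟨V₀, hV₀⟩ W ⟨W₀, hW₀⟩ e e₀ (hV₀'.trans hV) fun a ha => (hWle ha).1,
    pairMap_natural_of_le hψ V' ⟨V₀, hV₀⟩ W' ⟨W₀, hW₀⟩ e' e₀ hV₀' fun a ha => (hWle ha).2, resExt_resExt]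

set_option maxHeartbeats 1600000 in
theorem exists_mu (U : X'.Opens) :
    ∃ μ : ↥(⋀[Γ(X', U)]^p Γ((Scheme.Modules.pullback g).obj E, U)) →ₗ[Γ(X', U)]
      Γ((Scheme.Modules.pullback g).obj L, U),
      ∀ (V : X'.affineOpens) (W : X.affineOpens) (e : V.1 ≤ g ⁻¹ᵁ W.1) (hV : V.1 ≤ U) x,
        res _ hV (μ x) = pairMap g ψ V W e (resExt _ p hV x) := by
  let G := (Scheme.Modules.pullback g).obj E
  let H := (Scheme.Modules.pullback g).obj L
  let ι := {VW : X'.affineOpens × X.affineOpens // VW.1.1 ≤ g ⁻¹ᵁ VW.2.1 ∧ VW.1.1 ≤ U}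
  have hcov : U ≤ ⨆ i : ι, i.1.1.1 := fun q hq => by
    obtain ⟨W₀, hW₀, hqW, -⟩ := exists_isAffineOpen_mem_and_subset (x := g q) (U := ⊤) trivial
    obtain ⟨V₀, hV₀, hqV, hVle⟩ := exists_isAffineOpen_mem_and_subset (x := q) (U := U ⊓ g ⁻¹ᵁ W₀)
      ⟨hq, hqW⟩
    exact Opens.mem_iSup.2 ⟨⟨(⟨V₀, hV₀⟩, ⟨W₀, hW₀⟩), fun a ha => (hVle ha).2, fun a ha => (hVle ha).1⟩, hqV⟩
  have huniq : ∀ s t : Γ(H, U), (∀ i : ι, res H i.2.2 s = res H i.2.2 t) → s = t := fun s t h =>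
    section_ext' H (fun i : ι => i.1.1.1) (fun i => i.2.2) hcov s t h
  have hex : ∀ x : ↥(⋀[Γ(X', U)]^p Γ(G, U)), ∃ t : Γ(H, U), ∀ i : ι,
      res H i.2.2 t = pairMap g ψ i.1.1 i.1.2 i.2.1 (resExt G p i.2.2 x) := fun x =>
    exists_glue H (fun i : ι => i.1.1.1) (fun i => i.2.2) hcov _ fun i j => by
      refine section_ext _ _ _ fun q hq => ?_
      obtain ⟨V₀, hV₀, hqV, hVle⟩ := exists_isAffineOpen_mem_and_subset (x := q)
        (U := i.1.1.1 ⊓ j.1.1.1) hq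
      have hi : V₀ ≤ i.1.1.1 := fun a ha => (hVle ha).1
      have hj : V₀ ≤ j.1.1.1 := fun a ha => (hVle ha).2
      refine ⟨V₀, le_inf hi hj, hqV, ?_⟩
      rw [res_res, res_res,
        pairMap_natural hψ i.1.1 ⟨V₀, hV₀⟩ i.1.2 i.1.2 i.2.1 (hi.trans i.2.1) hi,
        pairMap_natural hψ j.1.1 ⟨V₀, hV₀⟩ j.1.2 i.1.2 j.2.1 (hi.trans i.2.1) hj,
        resExt_resExt, resExt_resExt]
  choose μ hμ using hex
  refine ⟨{ toFun := μ, map_add' := fun a b => ?_, map_smul' := fun r a => ?_ }, fun V W e hV x => ?_⟩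
  · refine huniq _ _ fun i => ?_
    refine (hμ _ i).trans (Eq.trans ?_ (res_add i.2.2 (μ a) (μ b)).symm)
    refine (congrArg (pairMap g ψ i.1.1 i.1.2 i.2.1) ((resExt G p i.2.2).map_add a b)).trans ?_
    exact ((pairMap g ψ i.1.1 i.1.2 i.2.1).map_add _ _).trans (congrArg₂ (· + ·) (hμ a i).symm (hμ b i).symm)
  · refine huniq _ _ fun i => ?_
    refine (hμ _ i).trans (Eq.trans ?_ (res_smul i.2.2 r (μ a)).symm)
    refine (congrArg (pairMap g ψ i.1.1 i.1.2 i.2.1) (resExt_smul G i.2.2 r a)).trans ?_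
    exact ((pairMap g ψ i.1.1 i.1.2 i.2.1).map_smul _ _).trans (congrArg (_ • ·) (hμ a i).symm)
  · exact hμ x ⟨(V, W), e, hV⟩

theorem bijective_mu {U : X'.Opens} (hU : IsAffineOpen U)
    (μ : ↥(⋀[Γ(X', U)]^p Γ((Scheme.Modules.pullback g).obj E, U)) →ₗ[Γ(X', U)]
      Γ((Scheme.Modules.pullback g).obj L, U))
    (hμ : ∀ (V : X'.affineOpens) (W : X.affineOpens) (e : V.1 ≤ g ⁻¹ᵁ W.1) (hV : V.1 ≤ U) x,
        res _ hV (μ x) = pairMap g ψ V W e (resExt _ p hV x)) :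
    Function.Bijective μ := by
  let G := (Scheme.Modules.pullback g).obj E
  let H := (Scheme.Modules.pullback g).obj L
  haveI : G.IsQuasicoherent := QCPull72.isQuasicoherent_pullback g E
  haveI : H.IsQuasicoherent := QCPull72.isQuasicoherent_pullback g L
  let s : Set Γ(X', U) := {f | ∃ W : X.affineOpens, X'.basicOpen f ≤ g ⁻¹ᵁ W.1}
  have hs : Ideal.span s = ⊤ := by
    rw [← hU.self_le_iSup_basicOpen_iff]
    intro q hq
    obtain ⟨W₀, hW₀, hqW, -⟩ := exists_isAffineOpen_mem_and_subset (x := g q) (U := ⊤) trivial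
    obtain ⟨f, hf, hqf⟩ := hU.exists_basicOpen_le (V := g ⁻¹ᵁ W₀) ⟨q, hqW⟩ hq
    exact Opens.mem_iSup.2 ⟨⟨f, ⟨W₀, hW₀⟩, hf⟩, hqf⟩
  letI A : ∀ f : s, Algebra Γ(X', U) Γ(X', X'.basicOpen f.1) := fun f => resAlg (X'.basicOpen_le f.1)
  letI mG : ∀ f : s, Module Γ(X', U) Γ(G, X'.basicOpen f.1) := fun f => resModule G (X'.basicOpen_le f.1)
  letI mH : ∀ f : s, Module Γ(X', U) Γ(H, X'.basicOpen f.1) := fun f => resModule H (X'.basicOpen_le f.1)
  haveI tG : ∀ f : s, IsScalarTower Γ(X', U) Γ(X', X'.basicOpen f.1) Γ(G, X'.basicOpen f.1) :=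
    fun f => isScalarTower_res G _
  haveI tH : ∀ f : s, IsScalarTower Γ(X', U) Γ(X', X'.basicOpen f.1) Γ(H, X'.basicOpen f.1) :=
    fun f => isScalarTower_res H _
  let ε : ∀ f : s, ↥(⋀[Γ(X', U)]^p Γ(G, U)) →ₗ[Γ(X', U)]
      ↥(⋀[Γ(X', X'.basicOpen f.1)]^p Γ(G, X'.basicOpen f.1)) := fun f =>
    ExtPowAlg.extMap (S := Γ(X', X'.basicOpen f.1)) (resLin G (X'.basicOpen_le f.1)) p
  let ρ : ∀ f : s, Γ(H, U) →ₗ[Γ(X', U)] Γ(H, X'.basicOpen f.1) := fun f => resLin H (X'.basicOpen_le f.1)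
  haveI hε : ∀ f : s, IsLocalizedModule (Submonoid.powers f.1) (ε f) := fun f =>
    isLocalizedModule_resExt G hU f.1
  haveI hρ : ∀ f : s, IsLocalizedModule (Submonoid.powers f.1) (ρ f) := fun f =>
    isLocalizedModule_resLin H (isLocAt_of_isQuasicoherent H hU) f.1
  refine bijective_of_isLocalized_span s hs _ ε _ ρ μ fun f => ?_
  obtain ⟨W, hW⟩ := f.2
  let V : X'.affineOpens := ⟨X'.basicOpen f.1, hU.basicOpen f.1⟩
  have hΛ := pairMap_spec (ψ := ψ) V W hW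
  rw [show IsLocalizedModule.map (Submonoid.powers f.1) (ε f) (ρ f) μ =
      (pairMap g ψ V W hW).restrictScalars Γ(X', U) from
    IsLocalizedModule.linearMap_ext (Submonoid.powers f.1) (ε f) (ρ f) (LinearMap.ext fun x => by
      refine (IsLocalizedModule.map_apply _ (ε f) (ρ f) μ x).trans ?_
      exact hμ V W hW (X'.basicOpen_le f.1) x)]
  exact hΛ.1

end Glue

/-- Exterior powers of quasi-coherent modules pull back. -/
theorem isExtPow_pullback (g : X' ⟶ X) {E L : X.Modules} [E.IsQuasicoherent] (hL : ExtPow.IsExtPow p E L) :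
    ExtPow.IsExtPow p ((Scheme.Modules.pullback g).obj E) ((Scheme.Modules.pullback g).obj L) := by
  haveI := isQuasicoherent_of_isExtPow hL
  obtain ⟨ψ, hψ⟩ := exists_psi hL
  choose μ hμ using fun U : X'.Opens => exists_mu (g := g) hψ U
  refine ⟨fun U => (LinearEquiv.ofBijective (μ U.1) (bijective_mu hψ U.2 _ (hμ U.1))).symm,
    fun U V h v => ?_⟩
  show res _ h (μ U.1 (ιMulti _ p v)) = μ V.1 (ιMulti _ p _)
  refine section_ext _ _ _ fun q hq => ?_
  obtain ⟨W₀, hW₀, hqW, -⟩ := exists_isAffineOpen_mem_and_subset (x := g q) (U := ⊤) trivial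
  obtain ⟨V₀, hV₀, hqV, hVle⟩ := exists_isAffineOpen_mem_and_subset (x := q) (U := V.1 ⊓ g ⁻¹ᵁ W₀)
    ⟨hq, hqW⟩
  have hV₀' : V₀ ≤ V.1 := fun a ha => (hVle ha).1
  have e₀ : V₀ ≤ g ⁻¹ᵁ W₀ := fun a ha => (hVle ha).2
  refine ⟨V₀, hV₀', hqV, ?_⟩
  rw [res_res, hμ U.1 ⟨V₀, hV₀⟩ ⟨W₀, hW₀⟩ e₀, hμ V.1 ⟨V₀, hV₀⟩ ⟨W₀, hW₀⟩ e₀, resExt_ιMulti, resExt_ιMulti]
  simp only [← res_res h hV₀']
  rfl

/-- The notion only depends on the module up to isomorphism. -/
theorem isExtPow_of_iso {E E' L : X.Modules} (α : E ≅ E') (hL : ExtPow.IsExtPow p E L) :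
    ExtPow.IsExtPow p E' L := by
  obtain ⟨φ, hφ⟩ := hL
  let a : ∀ U : X.Opens, Γ(E, U) ≃ₗ[Γ(X, U)] Γ(E', U) := fun U =>
    { toFun := α.hom.app U
      invFun := α.inv.app U
      map_add' := map_add _
      map_smul' := fun r x => Scheme.Modules.Hom.app_smul α.hom r x
      left_inv := fun x => congr($(congrArg (fun t => Scheme.Modules.Hom.app t U) α.hom_inv_id) x)
      right_inv := fun x => congr($(congrArg (fun t => Scheme.Modules.Hom.app t U) α.inv_hom_id) x) }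
  have hinv : ∀ U, (exteriorPower.map p (a U).toLinearMap).comp (exteriorPower.map p (a U).symm.toLinearMap) =
      LinearMap.id := fun U => by
    rw [← exteriorPower.map_comp, show (a U).toLinearMap.comp (a U).symm.toLinearMap = LinearMap.id from
      LinearMap.ext (a U).apply_symm_apply, exteriorPower.map_id]
  have hinv' : ∀ U, (exteriorPower.map p (a U).symm.toLinearMap).comp (exteriorPower.map p (a U).toLinearMap) =
      LinearMap.id := fun U => by
    rw [← exteriorPower.map_comp, show (a U).symm.toLinearMap.comp (a U).toLinearMap = LinearMap.id from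
      LinearMap.ext (a U).symm_apply_apply, exteriorPower.map_id]
  let b : ∀ U : X.Opens, ↥(⋀[Γ(X, U)]^p Γ(E, U)) ≃ₗ[Γ(X, U)] ↥(⋀[Γ(X, U)]^p Γ(E', U)) := fun U =>
    LinearEquiv.ofLinearMap (exteriorPower.map p (a U).toLinearMap) (exteriorPower.map p (a U).symm.toLinearMap)
      (hinv U) (hinv' U)
  refine ⟨fun U => (φ U).trans (b U.1), fun U V h v => ?_⟩
  show res L h ((φ U).symm (exteriorPower.map p (a U.1).symm.toLinearMap (ιMulti _ p v))) =
    (φ V).symm (exteriorPower.map p (a V.1).symm.toLinearMap (ιMulti _ p _))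
  rw [exteriorPower.map_apply_ιMulti, exteriorPower.map_apply_ιMulti]
  refine (hφ U V h _).trans (congrArg (fun w => (φ V).symm (ιMulti _ p w)) (funext fun i => ?_))
  exact app_res α.inv h (v i) |>.symm

end Groth.Agent.Om3
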