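import Groth.Agent.Om3.DetSeq

/-! Exterior powers given by compatible frames, and their uniqueness. -/

set_option autoImplicit false
set_option backward.isDefEq.respectTransparency.types false

universe u

open CategoryTheory CategoryTheory.Limits AlgebraicGeometry TopologicalSpace Opposite exteriorPower

noncomputable section

namespace Groth.Agent.Om3

open Groth.Agent QC70 Props58.LocFree

variable {X : Scheme.{u}} {E L : X.Modules} {p : ℕ}

theorem resExt_self (E : X.Modules) {U : X.Opens} (x : ↥(⋀[Γ(X, U)]^p Γ(E, U))) : resExt E p (le_refl U) x = x := by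
  refine DFunLike.congr_fun (semilinear_ext (resO X (le_refl U)) (resExt E p (le_refl U)) (AddMonoidHom.id _)
    (fun r m => resExt_smul E _ r m) (fun r m => ?_) (ιMulti_span Γ(X, U) p Γ(E, U)) ?_) x
  · show r • m = resO X (le_refl U) r • m
    rw [resO_self]
  · rintro _ ⟨v, rfl⟩
    rw [resExt_ιMulti]
    exact congrArg _ (funext fun i => res_self _)

/-- A frame on a chart gives the comparison on all smaller opens. -/
theorem exists_theta_frame {D : X.Opens} {s : Fin p → Γ(E, D)} (hs : StalkBasis s) {γ : Γ(L, D)}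
    (hγ : Var76.LineBundle.IsFrame L D γ) {V : X.Opens} (h : V ≤ D) :
    ∃ θ : ↥(⋀[Γ(X, V)]^p Γ(E, V)) ≃ₗ[Γ(X, V)] Γ(L, V), θ (ιMulti Γ(X, V) p fun k => res E h (s k)) = res L h γ := by
  classical
  let b : Module.Basis (Fin p) Γ(X, V) Γ(E, V) := Module.Basis.ofEquivFun (LinearEquiv.ofBijective
    (Fintype.linearCombination Γ(X, V) fun j => res E h (s j)) (by
      refine (congrArg Function.Bijective (funext fun a => ?_)).mp (hs.bijective h)
      simp [Fintype.linearCombination_apply])).symm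
  have hb : (⇑b : Fin p → Γ(E, V)) = fun k => res E h (s k) := funext fun j => by
    rw [Module.Basis.coe_ofEquivFun, LinearEquiv.symm_symm]
    show Fintype.linearCombination Γ(X, V) (fun j => res E h (s j)) (Pi.single j 1) = _
    rw [Fintype.linearCombination_apply_single, one_smul]
  let e₁ := LinearEquiv.ofBijective (LinearMap.toSpanSingleton Γ(X, V) _ (ιMulti Γ(X, V) p b))
    (DetSeq.bijective_smul_top b)
  let e₂ := LinearEquiv.ofBijective (LinearMap.toSpanSingleton Γ(X, V) _ (res L h γ)) (hγ V h)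
  refine ⟨e₁.symm.trans e₂, ?_⟩
  rw [← hb]
  show e₂ (e₁.symm _) = _
  rw [show e₁.symm (ιMulti Γ(X, V) p b) = 1 from e₁.symm_apply_eq.2 (one_smul Γ(X, V) (ιMulti Γ(X, V) p b)).symm]
  exact one_smul _ _

set_option maxHeartbeats 800000 in
/-- An invertible module with frames transforming like wedges of local bases is an exterior power. -/
theorem isExtPow_of_frames [E.IsQuasicoherent] [L.IsQuasicoherent] {ι : Type u} (D : ι → X.Opens)
    (hcov : ∀ x : X, ∃ i, x ∈ D i) (s : ∀ i, Fin p → Γ(E, D i)) (hs : ∀ i, StalkBasis (s i))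
    (γ : ∀ i, Γ(L, D i)) (hγ : ∀ i, Var76.LineBundle.IsFrame L (D i) (γ i))
    (hcompat : ∀ i j, ∃ c : Γ(X, D i ⊓ D j),
      ιMulti Γ(X, D i ⊓ D j) p (fun k => res E inf_le_right (s j k)) =
          c • ιMulti Γ(X, D i ⊓ D j) p (fun k => res E inf_le_left (s i k)) ∧
        res L inf_le_right (γ j) = c • res L inf_le_left (γ i)) :
    ExtPow.IsExtPow p E L := by
  choose θ hθ using fun (i : ι) (V : X.Opens) (h : V ≤ D i) => exists_theta_frame (hs i) (hγ i) h
  have hnat : ∀ (i : ι) (V V' : X.Opens) (h : V ≤ D i) (h' : V' ≤ V) x,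
      res L h' (θ i V h x) = θ i V' (h'.trans h) (resExt E p h' x) := by
    intro i V V' h h' x
    obtain ⟨a, rfl⟩ : ∃ a : Γ(X, V), a • ιMulti Γ(X, V) p (fun k => res E h (s i k)) = x := by
      obtain ⟨a, ha⟩ := (θ i V h).symm.surjective.comp (hγ i V h).2 x
      exact ⟨a, (θ i V h).injective (by
        rw [map_smul, hθ]
        exact (((θ i V h).apply_symm_apply _).symm.trans (congrArg (θ i V h) ha)))⟩
    rw [map_smul, hθ, res_smul, resExt_smul, map_smul, resExt_ιMulti]
    simp only [res_res]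
    rw [hθ]
  have hij : ∀ (i j : ι) (V : X.Opens) (hi : V ≤ D i) (hj : V ≤ D j) x, θ i V hi x = θ j V hj x := by
    intro i j V hi hj x
    have hV : V ≤ D i ⊓ D j := le_inf hi hj
    obtain ⟨c, hc₁, hc₂⟩ := hcompat i j
    have h1 : ιMulti Γ(X, V) p (fun k => res E hj (s j k)) =
        resO X hV c • ιMulti Γ(X, V) p (fun k => res E hi (s i k)) := by
      have := congrArg (resExt E p hV) hc₁
      simpa only [resExt_smul, resExt_ιMulti, res_res] using this
    have h2 : res L hj (γ j) = resO X hV c • res L hi (γ i) := by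
      have := congrArg (res L hV) hc₂
      simpa only [res_smul, res_res] using this
    obtain ⟨a, ha⟩ := (θ j V hj).symm.surjective.comp (hγ j V hj).2 x
    have hx : x = a • ιMulti Γ(X, V) p (fun k => res E hj (s j k)) := (θ j V hj).injective (by
      rw [map_smul, hθ]
      exact (congrArg (θ j V hj) ha).symm.trans ((θ j V hj).apply_symm_apply _))
    rw [hx, map_smul, map_smul, hθ, h2]
    refine congrArg (a • ·) ?_
    rw [h1, map_smul, hθ]
  have hex : ∀ (U : X.Opens) (x : ↥(⋀[Γ(X, U)]^p Γ(E, U))), ∃ t : Γ(L, U), ∀ i,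
      res L (inf_le_left : U ⊓ D i ≤ U) t = θ i (U ⊓ D i) inf_le_right (resExt E p inf_le_left x) := fun U x =>
    exists_glue L (fun i => U ⊓ D i) (fun _ => inf_le_left) (fun q hq => by
      obtain ⟨i, hi⟩ := hcov q
      exact Opens.mem_iSup.2 ⟨i, hq, hi⟩) _ fun i j => by
      rw [hnat, hnat, resExt_resExt, resExt_resExt, hij i j _ (inf_le_left.trans inf_le_right)
        (inf_le_right.trans inf_le_right)]
  choose μ hμ using hex
  have huniq : ∀ (U : X.Opens) (t t' : Γ(L, U)),
      (∀ i, res L (inf_le_left : U ⊓ D i ≤ U) t = res L inf_le_left t') → t = t' := fun U t t' h =>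
    section_ext' L (fun i => U ⊓ D i) (fun _ => inf_le_left) (fun q hq => by
      obtain ⟨i, hi⟩ := hcov q
      exact Opens.mem_iSup.2 ⟨i, hq, hi⟩) t t' h
  let M : ∀ U : X.Opens, ↥(⋀[Γ(X, U)]^p Γ(E, U)) →ₗ[Γ(X, U)] Γ(L, U) := fun U =>
    { toFun := μ U
      map_add' := fun a b => huniq U _ _ fun i => by rw [res_add, hμ, hμ, hμ, map_add, map_add]
      map_smul' := fun r a => huniq U _ _ fun i => by
        rw [RingHom.id_apply, res_smul, hμ, hμ, resExt_smul, map_smul] }
  have hM : ∀ (U : X.Opens) (i : ι) (V : X.Opens) (h : V ≤ U) (hi : V ≤ D i) x,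
      res L h (M U x) = θ i V hi (resExt E p h x) := fun U i V h hi x => by
    have h1 := congrArg (res L (le_inf h hi : V ≤ U ⊓ D i)) (hμ U x i)
    rw [res_res, hnat, resExt_resExt] at h1
    exact h1
  have hbij : ∀ U : X.affineOpens, Function.Bijective (M U.1) := by
    rintro ⟨U, hU⟩
    let S : Set Γ(X, U) := {f | ∃ i, X.basicOpen f ≤ D i}
    have hS : Ideal.span S = ⊤ := by
      rw [← hU.self_le_iSup_basicOpen_iff]
      intro q hq
      obtain ⟨i, hi⟩ := hcov q
      obtain ⟨f, hf, hqf⟩ := hU.exists_basicOpen_le (V := D i) ⟨q, hi⟩ hq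
      exact Opens.mem_iSup.2 ⟨⟨f, i, hf⟩, hqf⟩
    letI A : ∀ f : S, Algebra Γ(X, U) Γ(X, X.basicOpen f.1) := fun f => resAlg (X.basicOpen_le f.1)
    letI mE : ∀ f : S, Module Γ(X, U) Γ(E, X.basicOpen f.1) := fun f => resModule E (X.basicOpen_le f.1)
    letI mL : ∀ f : S, Module Γ(X, U) Γ(L, X.basicOpen f.1) := fun f => resModule L (X.basicOpen_le f.1)
    haveI tE : ∀ f : S, IsScalarTower Γ(X, U) Γ(X, X.basicOpen f.1) Γ(E, X.basicOpen f.1) :=
      fun f => isScalarTower_res E _
    haveI tL : ∀ f : S, IsScalarTower Γ(X, U) Γ(X, X.basicOpen f.1) Γ(L, X.basicOpen f.1) :=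
      fun f => isScalarTower_res L _
    let ε : ∀ f : S, ↥(⋀[Γ(X, U)]^p Γ(E, U)) →ₗ[Γ(X, U)] ↥(⋀[Γ(X, X.basicOpen f.1)]^p Γ(E, X.basicOpen f.1)) :=
      fun f => ExtPowAlg.extMap (S := Γ(X, X.basicOpen f.1)) (resLin E (X.basicOpen_le f.1)) p
    let ρ : ∀ f : S, Γ(L, U) →ₗ[Γ(X, U)] Γ(L, X.basicOpen f.1) := fun f => resLin L (X.basicOpen_le f.1)
    haveI hε : ∀ f : S, IsLocalizedModule (Submonoid.powers f.1) (ε f) := fun f => isLocalizedModule_resExt E hU f.1
    haveI hρ : ∀ f : S, IsLocalizedModule (Submonoid.powers f.1) (ρ f) := fun f =>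
      isLocalizedModule_resLin L (isLocAt_of_isQuasicoherent L hU) f.1
    refine bijective_of_isLocalized_span S hS _ ε _ ρ (M U) fun f => ?_
    obtain ⟨i, hi⟩ := f.2
    rw [show IsLocalizedModule.map (Submonoid.powers f.1) (ε f) (ρ f) (M U) =
        (θ i (X.basicOpen f.1) hi).toLinearMap.restrictScalars Γ(X, U) from
      IsLocalizedModule.linearMap_ext (Submonoid.powers f.1) (ε f) (ρ f) (LinearMap.ext fun x => by
        refine (IsLocalizedModule.map_apply _ (ε f) (ρ f) (M U) x).trans ?_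
        exact hM U i _ (X.basicOpen_le f.1) hi x)]
    exact (θ i (X.basicOpen f.1) hi).bijective
  refine ⟨fun U => (LinearEquiv.ofBijective (M U.1) (hbij U)).symm, fun U V h v => ?_⟩
  show res L h (M U.1 (ιMulti _ p v)) = M V.1 (ιMulti _ p fun k => res E h (v k))
  refine huniq V.1 _ _ fun i => ?_
  rw [res_res, hM U.1 i _ (inf_le_left.trans h) inf_le_right, hM V.1 i _ inf_le_left inf_le_right, resExt_ιMulti,
    resExt_ιMulti]
  simp only [res_res]

set_option maxHeartbeats 800000 in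
/-- Exterior powers are unique. -/
theorem nonempty_iso_of_isExtPow [E.IsQuasicoherent] {L' : X.Modules} (hL : ExtPow.IsExtPow p E L)
    (hL' : ExtPow.IsExtPow p E L') : Nonempty (L ≅ L') := by
  haveI := isQuasicoherent_of_isExtPow hL
  haveI := isQuasicoherent_of_isExtPow hL'
  obtain ⟨ψ, hψ⟩ := exists_psi hL
  obtain ⟨ψ', hψ'⟩ := exists_psi hL'
  let T : ∀ U : X.affineOpens, Γ(L, U.1) ≃ₗ[Γ(X, U.1)] Γ(L', U.1) := fun U => (ψ U).symm.trans (ψ' U)
  have hT : ∀ (U V : X.affineOpens) (h : V.1 ≤ U.1) (x : Γ(L, U.1)), res L' h (T U x) = T V (res L h x) := by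
    intro U V h x
    obtain ⟨y, rfl⟩ := (ψ U).surjective x
    show res L' h (ψ' U ((ψ U).symm (ψ U y))) = ψ' V ((ψ V).symm (res L h (ψ U y)))
    rw [LinearEquiv.symm_apply_apply, hψ', hψ, LinearEquiv.symm_apply_apply]
  let φ : ∀ U : X.affineOpens, HomOn L L' U.1 := fun U => HomOn.ofLinear U.2 (T U).toLinearMap
  have hbasic : ∀ (U V : X.affineOpens) (f : Γ(X, U.1)) (hV : V.1 = X.basicOpen f) (h : V.1 ≤ U.1) (z : Γ(L, V.1)),
      (φ U).app V.1 h z = T V z := by
    rintro U ⟨V, hVa⟩ f hV h z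
    change V = X.basicOpen f at hV
    subst hV
    letI := resAlg h
    letI := resModule L h
    letI := resModule L' h
    haveI := isScalarTower_res L h
    haveI := isScalarTower_res L' h
    haveI := isLocalizedModule_resLin L (isLocAt_of_isQuasicoherent L U.2) f
    haveI := isLocalizedModule_resLin L' (isLocAt_of_isQuasicoherent L' U.2) f
    refine LinearMap.congr_fun (IsLocalizedModule.linearMap_ext (Submonoid.powers f) (resLin L h) (resLin L' h)
      (g := ((φ U).app (X.basicOpen f) h).restrictScalars Γ(X, U.1))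
      (g' := (T ⟨_, hVa⟩).toLinearMap.restrictScalars Γ(X, U.1)) (LinearMap.ext fun x => ?_)) z
    show (φ U).app _ h (res L h x) = T ⟨_, hVa⟩ (res L h x)
    rw [(φ U).app_res le_rfl h, HomOn.ofLinear_app_self, ← hT U ⟨_, hVa⟩ h x]
    rfl
  have hcomp : HomOn.Compatible φ := by
    intro U V W hU hV z
    refine section_ext L' _ _ fun q hq => ?_
    obtain ⟨f, g, hfg, hqf⟩ := exists_basicOpen_le_affine_inter U.2 V.2 q ⟨hU hq, hV hq⟩
    obtain ⟨f', hf', hqf'⟩ := (U.2.basicOpen f).exists_basicOpen_le (V := W ⊓ X.basicOpen f) ⟨q, hq, hqf⟩ hqf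
    obtain ⟨f'', hf''⟩ := U.2.basicOpen_basicOpen_is_basicOpen f f'
    obtain ⟨g'', hg''⟩ := V.2.basicOpen_basicOpen_is_basicOpen g (resO X hfg.ge f')
    have hres : X.basicOpen (resO X hfg.ge f') = X.basicOpen f' := by
      rw [resO, Scheme.basicOpen_res]
      exact inf_eq_right.2 ((X.basicOpen_le f').trans hfg.le)
    have hW : X.basicOpen f' ≤ W := hf'.trans inf_le_left
    refine ⟨X.basicOpen f', hW, hqf', ?_⟩
    rw [← (φ U).app_res hU hW, ← (φ V).app_res hV hW]
    let B : X.affineOpens := ⟨X.basicOpen f', (U.2.basicOpen f).basicOpen f'⟩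
    exact (hbasic U B f'' hf''.symm (hW.trans hU) _).trans (hbasic V B g'' (hg''.trans hres).symm (hW.trans hV) _).symm
  have hU : (⊤ : X.Opens) ≤ ⨆ U : X.affineOpens, U.1 := fun q _ => by
    obtain ⟨W, hW, hqW, -⟩ := exists_isAffineOpen_mem_and_subset (x := q) (U := ⊤) trivial
    exact Opens.mem_iSup.2 ⟨⟨W, hW⟩, hqW⟩
  let Φ := (HomOn.glue hcomp hU).toHom
  haveI : IsIso Φ := EGA73.isIso_of_bijective_cover Φ (fun U : X.affineOpens => U.1) (fun U => U.2)
    (fun q => by simpa using hU (Opens.mem_top q)) fun U => by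
      refine (congrArg Function.Bijective (funext fun z => ?_)).mp (T U).bijective
      refine Eq.trans ?_ (HomOn.glue_app hcomp hU le_top U le_rfl z).symm
      rw [HomOn.ofLinear_app_self]
      rfl
  exact ⟨asIso Φ⟩

end Groth.Agent.Om3
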