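import Mathlib.LinearAlgebra.ExteriorPower.Basic
import Mathlib.LinearAlgebra.Determinant
import Mathlib.RingTheory.Derivation.Basic
import Mathlib.Data.Fin.Tuple.Basic
import Mathlib.Tactic.Ring

/-! Wedges of differentials of affine coordinates, for two standard charts of projective space. -/

set_option autoImplicit false

universe u

open exteriorPower

noncomputable section

namespace Groth.Agent.Om3.Wedge

variable {n : ℕ}

/-- Moving the `j`-th place to the front. -/
def cyc (j : Fin (n + 1)) : Equiv.Perm (Fin (n + 1)) :=
  Equiv.ofBijective (Fin.cons j j.succAbove) <| Finite.injective_iff_bijective.1 <| Fin.cons_injective_iff.2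
    ⟨fun ⟨l, hl⟩ => Fin.succAbove_ne j l hl, Fin.succAbove_right_injective⟩

/-- Its sign. -/
def sgn (j : Fin (n + 1)) : ℤ := (Equiv.Perm.sign (cyc j) : ℤˣ)

theorem sgn_sq (j : Fin (n + 1)) : sgn j * sgn j = 1 := by
  show ((Equiv.Perm.sign (cyc j) : ℤˣ) : ℤ) * ((Equiv.Perm.sign (cyc j) : ℤˣ) : ℤ) = 1
  rw [← Units.val_mul, Int.units_mul_self, Units.val_one]

variable {B : Type u} [CommRing B]

/-- The standard generators of the kernel of a row with a one at `j`. -/
def gen (j : Fin (n + 1)) (a : Fin (n + 1) → B) (l : Fin n) : Fin (n + 1) → B :=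
  Pi.single (j.succAbove l) 1 - a (j.succAbove l) • Pi.single j 1

theorem det_cons_gen (j : Fin (n + 1)) (a : Fin (n + 1) → B) (i : Fin (n + 1)) (hj : a j = 1) :
    (Pi.basisFun B (Fin (n + 1))).det (Fin.cons (Pi.single i 1) (gen j a)) = a i * (sgn j : B) := by
  classical
  let det := (Pi.basisFun B (Fin (n + 1))).det
  have h0 : det (Fin.cons (Pi.single j 1) (gen j a)) = (sgn j : B) := by
    have h1 : det (Fin.cons (Pi.single j 1) (gen j a)) =
        det (fun k => Pi.single ((cyc j) k) 1 : Fin (n + 1) → Fin (n + 1) → B) := by
      have hs : ∀ (s : Finset (Fin n)), det (Fin.cons (Pi.single j 1) fun l => if l ∈ s then gen j a l else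
          Pi.single (j.succAbove l) 1) = det (fun k => Pi.single ((cyc j) k) 1) := by
        intro s
        induction s using Finset.induction with
        | empty =>
          refine congrArg det (funext fun k => ?_)
          refine Fin.cases ?_ (fun l => ?_) k <;> simp [cyc]
        | @insert x s hx ih =>
          let v : Fin (n + 1) → Fin (n + 1) → B :=
            Fin.cons (Pi.single j 1) fun l => if l ∈ s then gen j a l else Pi.single (j.succAbove l) 1
          have hv : (Fin.cons (Pi.single j 1) fun l => if l ∈ insert x s then gen j a l else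
              Pi.single (j.succAbove l) 1) = Function.update v x.succ (v x.succ + (-a (j.succAbove x)) • v 0) := by
            funext k
            refine Fin.cases ?_ (fun l => ?_) k
            · simp [v, Function.update_of_ne (Fin.succ_ne_zero x).symm]
            · by_cases hl : l = x
              · subst hl
                simp [v, hx, gen, sub_eq_add_neg]
              · simp [v, hl]
          rw [hv, AlternatingMap.map_update_add, Function.update_eq_self, AlternatingMap.map_update_smul,
            AlternatingMap.map_update_self _ _ (Fin.succ_ne_zero x), smul_zero, add_zero]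
          exact ih
      have := hs Finset.univ
      simpa using this
    rw [h1]
    refine (AlternatingMap.map_perm det (fun k => Pi.single k (1 : B)) (cyc j)).trans ?_
    rw [show (fun k => Pi.single k (1 : B)) = ⇑(Pi.basisFun B (Fin (n + 1))) from funext fun k =>
      (Pi.basisFun_apply B _ k).symm, Module.Basis.det_self, Units.smul_def, zsmul_one]
    rfl
  rcases Fin.eq_self_or_eq_succAbove j i with rfl | ⟨l, rfl⟩
  · rw [h0, hj, one_mul]
  · have h2 : (Pi.single (j.succAbove l) 1 : Fin (n + 1) → B) = gen j a l + a (j.succAbove l) • Pi.single j 1 := by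
      simp [gen]
    let v : Fin (n + 1) → Fin (n + 1) → B := Fin.cons (Pi.single j 1) (gen j a)
    have hv : (Fin.cons (Pi.single (j.succAbove l) 1) (gen j a) : Fin (n + 1) → Fin (n + 1) → B) =
        Function.update v 0 (v l.succ + a (j.succAbove l) • v 0) := by
      funext k
      refine Fin.cases ?_ (fun m => ?_) k
      · simp [v, h2]
      · simp [v]
    rw [hv, AlternatingMap.map_update_add, AlternatingMap.map_update_smul, Function.update_eq_self,
      AlternatingMap.map_update_self _ _ (Fin.succ_ne_zero l).symm, zero_add, h0, smul_eq_mul]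

variable {M : Type u} [AddCommGroup M] [Module B M]

/-- An alternating map on a free module of the same rank is its value on the basis times the determinant. -/
theorem compLinearMap_eq {V N : Type u} [AddCommGroup V] [Module B V] [AddCommGroup N] [Module B N]
    (F : V [⋀^Fin n]→ₗ[B] N) (L : (Fin n → B) →ₗ[B] V) (y : Fin n → Fin n → B) :
    F (fun l => L (y l)) = (Pi.basisFun B (Fin n)).det y • F (fun m => L (Pi.basisFun B (Fin n) m)) := by
  classical
  let b := Pi.basisFun B (Fin n)
  have h : F.compLinearMap L = (LinearMap.toSpanSingleton B N ((F.compLinearMap L) b)).compAlternatingMap b.det := by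
    refine b.ext_alternating fun v hv => ?_
    let σ := Equiv.ofBijective v (Finite.injective_iff_bijective.1 hv)
    show F.compLinearMap L (b ∘ σ) = b.det (b ∘ σ) • (F.compLinearMap L) b
    rw [AlternatingMap.map_perm, AlternatingMap.map_perm, b.det_self, smul_assoc, one_smul]
  exact congr($h y)

/-- Two standard charts: the wedges of the differentials of the coordinates. -/
theorem ιMulti_transition (d : B → M) (hd1 : d 1 = 0) (hmul : ∀ x y, d (x * y) = x • d y + y • d x)
    (i j : Fin (n + 1)) (a a' : Fin (n + 1) → B) (hi : a i = 1) (hj : a' j = 1) (u : B)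
    (hu : ∀ k, a' k = u * a k) :
    ιMulti B n (fun l => d (a' (j.succAbove l))) =
      (u ^ (n + 1) * ((sgn j * sgn i : ℤ) : B)) • ιMulti B n (fun l => d (a (i.succAbove l))) := by
  classical
  let E : (Fin (n + 1) → B) →ₗ[B] M := Fintype.linearCombination B fun k => d (a k)
  have hEs : ∀ k, E (Pi.single k 1) = d (a k) := fun k => by
    rw [Fintype.linearCombination_apply_single, one_smul]
  let dot : (Fin (n + 1) → B) →ₗ[B] B := Fintype.linearCombination B a
  let L : (Fin n → B) →ₗ[B] (Fin (n + 1) → B) := Fintype.linearCombination B (gen i a)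
  let y : Fin n → Fin n → B := fun l m => gen j a' l (i.succAbove m)
  have hui : u * a j = 1 := (hu j).symm.trans hj
  have hy : ∀ l, L (y l) = gen j a' l := fun l => by
    have hdot : ∑ k, gen j a' l k * a k = 0 := by
      simp only [gen, Pi.sub_apply, Pi.smul_apply, smul_eq_mul, sub_mul, Finset.sum_sub_distrib, Pi.single_apply,
        mul_ite, mul_one, mul_zero, ite_mul, zero_mul, one_mul, Finset.sum_ite_eq', Finset.mem_univ, if_true]
      rw [hu, mul_assoc, mul_comm (a (j.succAbove l)) (a j), ← mul_assoc, hui, one_mul, sub_self]
    funext k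
    simp only [L, Fintype.linearCombination_apply, Finset.sum_apply, Pi.smul_apply, smul_eq_mul, gen, Pi.sub_apply]
    rcases Fin.eq_self_or_eq_succAbove i k with rfl | ⟨m, rfl⟩
    · rw [Fin.sum_univ_succAbove _ k, hi, mul_one] at hdot
      rw [eq_comm]
      refine (eq_neg_of_add_eq_zero_left hdot).trans ?_
      rw [← Finset.sum_neg_distrib]
      exact Finset.sum_congr rfl fun m _ => by simp [gen, y, (Fin.succAbove_ne k m).symm]
    · rw [Finset.sum_eq_single m]
      · simp [y, gen, Fin.succAbove_ne i m]
      · intro b _ hb
        simp [Fin.succAbove_right_injective.ne hb.symm, Fin.succAbove_ne i m]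
      · simp
  have hexp : ∀ {N : Type u} [AddCommGroup N] [Module B N] (F : (Fin (n + 1) → B) [⋀^Fin n]→ₗ[B] N),
      F (gen j a') = (Pi.basisFun B (Fin n)).det y • F (gen i a) := by
    intro N _ _ F
    have h2 := compLinearMap_eq F L y
    rw [show (fun l => L (y l)) = gen j a' from funext hy, show (fun m => L (Pi.basisFun B (Fin n) m)) = gen i a from
      funext fun m => by simp [L, Fintype.linearCombination_apply_single]] at h2
    exact h2
  have hl : (Pi.basisFun B (Fin n)).det y * (sgn i : B) = u * (sgn j : B) := by
    have h3 := hexp ((Pi.basisFun B (Fin (n + 1))).det.curryLeft (Pi.single i 1))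
    simp only [AlternatingMap.curryLeft_apply_apply, smul_eq_mul] at h3
    change (Pi.basisFun B (Fin (n + 1))).det (Fin.cons (Pi.single i 1) (gen j a')) =
      _ * (Pi.basisFun B (Fin (n + 1))).det (Fin.cons (Pi.single i 1) (gen i a)) at h3
    rw [det_cons_gen j a' i hj, det_cons_gen i a i hi, hu, hi, mul_one, one_mul] at h3
    exact h3.symm
  have hEj : ∀ l, d (a' (j.succAbove l)) = u • E (gen j a' l) := fun l => by
    have h4 : a j • d u + u • d (a j) = 0 := by rw [add_comm, ← hmul, hui, hd1]
    have h5 : d u = -((u * u) • d (a j)) := by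
      refine eq_neg_of_add_eq_zero_left ?_
      have h6 := congrArg (u • ·) h4
      simp only [smul_add, smul_smul, hui, one_smul, smul_zero] at h6
      exact h6
    simp only [gen, map_sub, map_smul, hEs]
    rw [hu, hmul, h5, smul_sub, smul_neg, smul_smul, smul_smul, sub_eq_add_neg]
    refine congrArg (_ + ·) (congrArg Neg.neg (congrArg (· • _) ?_))
    ring
  have hEi : ∀ l, E (gen i a l) = d (a (i.succAbove l)) := fun l => by
    simp [gen, hEs, hi, hd1]
  have h5 := hexp ((ιMulti B n (M := M)).compLinearMap E)
  simp only [AlternatingMap.compLinearMap_apply, hEi] at h5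
  rw [show (fun l => d (a' (j.succAbove l))) = fun l => u • E (gen j a' l) from funext hEj,
    AlternatingMap.map_smul_univ, h5, smul_smul, Finset.prod_const, Finset.card_univ, Fintype.card_fin]
  refine congrArg (· • _) ?_
  have h6 : ((sgn i : B)) * (sgn i : B) = 1 := by rw [← Int.cast_mul, sgn_sq, Int.cast_one]
  calc u ^ n * (Pi.basisFun B (Fin n)).det y
      = u ^ n * ((Pi.basisFun B (Fin n)).det y * (sgn i : B)) * (sgn i : B) := by
        rw [mul_assoc, mul_assoc ((Pi.basisFun B (Fin n)).det y), h6, mul_one]
    _ = u ^ (n + 1) * ((sgn j * sgn i : ℤ) : B) := by rw [hl]; push_cast; ring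

end Groth.Agent.Om3.Wedge
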