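import Groth.Agent.Om3.ExtPowFrames
import Groth.Agent.Om3.WedgeTransition
import Groth.Agent.Approx60.ProjCharts
import Groth.Agent.Var76.RegMulX
import Groth.Agent.EGA73.TildeQCoh
import Groth.Agent.SchBasics.OmegaChart
import Groth.Agent.Var76.OmegaUniv
import Mathlib.RingTheory.Kaehler.Polynomial
import Mathlib.Algebra.MvPolynomial.PDeriv
import Mathlib.AlgebraicGeometry.ProjectiveSpectrum.Proper

/-! The canonical sheaf of projective space over a ring. -/

set_option autoImplicit false
set_option backward.isDefEq.respectTransparency false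

universe u

open CategoryTheory CategoryTheory.Limits AlgebraicGeometry TopologicalSpace Opposite exteriorPower

noncomputable section

namespace Groth.Agent.Om3.OmegaPn

open Groth.Agent QC70 Props58.LocFree Approx60.ProjCharts

/-- The differentials of free polynomial coordinates are a basis of the Kaehler differentials. -/
theorem exists_basis_D {R B : Type u} [CommRing R] [CommRing B] [Algebra R B] {σ : Type} [Fintype σ]
    (x : σ → B) (hx : Function.Bijective (MvPolynomial.aeval (R := R) x)) :
    ∃ b : Module.Basis σ B Ω[B⁄R], ∀ l, b l = KaehlerDifferential.D R B (x l) := by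
  classical
  let e : MvPolynomial σ R ≃ₐ[R] B := AlgEquiv.ofBijective (MvPolynomial.aeval x) hx
  have hex : ∀ l, e.symm (x l) = MvPolynomial.X l := fun l => e.symm_apply_eq.2 (MvPolynomial.aeval_X x l).symm
  let δ : σ → Derivation R B B := fun i => Derivation.mk'
    (e.toLinearMap.comp ((MvPolynomial.pderiv (R := R) i).toLinearMap.comp e.symm.toLinearMap)) fun a b => by
      simp [smul_eq_mul]
  have hδ : ∀ i l, δ i (x l) = if l = i then 1 else 0 := fun i l => by
    show e (MvPolynomial.pderiv i (e.symm (x l))) = _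
    rw [hex, MvPolynomial.pderiv_X, Pi.single_apply]
    split_ifs <;> simp
  have hli : LinearIndependent B fun l => KaehlerDifferential.D R B (x l) := by
    rw [Fintype.linearIndependent_iff]
    intro c hc i
    have h1 := congrArg (δ i).liftKaehlerDifferential hc
    simpa [hδ] using h1
  have hsp : ⊤ ≤ Submodule.span B (Set.range fun l => KaehlerDifferential.D R B (x l)) := by
    rw [← KaehlerDifferential.span_range_derivation, Submodule.span_le]
    rintro _ ⟨b, rfl⟩
    obtain ⟨p, rfl⟩ := hx.2 b
    induction p using MvPolynomial.induction_on with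
    | C r => simp
    | add p q hp hq => rw [map_add, map_add]; exact Submodule.add_mem _ hp hq
    | mul_X p l hp =>
      rw [map_mul, MvPolynomial.aeval_X, Derivation.leibniz]
      exact Submodule.add_mem _ (Submodule.smul_mem _ _ (Submodule.subset_span ⟨l, rfl⟩)) (Submodule.smul_mem _ _ hp)
  exact ⟨Module.Basis.mk hli hsp, fun l => Module.Basis.mk_apply hli hsp l⟩

variable (k : Type u) [CommRing k] (n : ℕ)

/-- The function `x_l / x_j` on the standard open of `x_j`. -/
def coord (j l : Fin (n + 1)) : Γ(CohB1.ProjSpace n k, U k n j) :=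
  Proj.awayToSection (CohB1.polyGrading n k) (MvPolynomial.X j) (frac k n j (X₁ k n l))

theorem val_coord (j l : Fin (n + 1)) (x : U k n j) :
    ((coord k n j l : Twist.O (𝒜 := CohB1.polyGrading n k) (op (U k n j))).1 x).val =
      Localization.mk (MvPolynomial.X l : MvPolynomial (Fin (n + 1)) k)
        (⟨MvPolynomial.X j, x.2⟩ : x.1.asHomogeneousIdeal.toIdeal.primeCompl) := by
  refine (ProjectiveSpectrum.Proj.awayToSection_apply (CohB1.polyGrading n k) _ _ x).trans ?_
  rw [frac, HomogeneousLocalization.val_mk, Localization.mk_eq_mk', IsLocalization.map_mk',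
    ← Localization.mk_eq_mk']
  rfl

theorem coord_self (j : Fin (n + 1)) : coord k n j j = 1 := by
  show Proj.awayToSection _ _ (frac k n j (X₁ k n j)) = 1
  rw [show frac k n j (X₁ k n j) = 1 from HomogeneousLocalization.val_injective _ (by
    simp [frac, X₁, HomogeneousLocalization.val_mk]), map_one]

theorem bijective_eval₂ (j : Fin (n + 1)) :
    Function.Bijective (MvPolynomial.eval₂Hom (const (k := k) (CohB1.ProjSpace n k) (U k n j))
      fun l => coord k n j (j.succAbove l)) := by
  classical
  let c := const (k := k) (CohB1.ProjSpace n k) (U k n j)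
  let q := Proj.awayToSection (CohB1.polyGrading n k) (MvPolynomial.X j)
  let fr : Fin (n + 1) → HomogeneousLocalization.Away (CohB1.polyGrading n k) (MvPolynomial.X j) :=
    fun i => frac k n j (X₁ k n i)
  let π : MvPolynomial (Fin n) k →+* Γ(CohB1.ProjSpace n k, U k n j) :=
    MvPolynomial.eval₂Hom c fun l => coord k n j (j.succAbove l)
  show Function.Bijective π
  let φ := MvPolynomial.eval₂Hom (MvPolynomial.C : k →+* MvPolynomial (Fin n) k)
    (j.insertNth 1 MvPolynomial.X : Fin (n + 1) → MvPolynomial (Fin n) k)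
  have hu : IsUnit (φ (MvPolynomial.X j)) := by simp [φ]
  let ev := awayEval φ _ hu
  have hq : Function.Bijective q := ConcreteCategory.bijective_of_isIso
    (Proj.basicOpenIsoAway (CohB1.polyGrading n k) (MvPolynomial.X j) (X₁ k n j).2 one_pos).hom
  let cst : k →+* HomogeneousLocalization.Away (CohB1.polyGrading n k) (MvPolynomial.X j) :=
    (HomogeneousLocalization.fromZeroRingHom (CohB1.polyGrading n k) _).comp
      (algebraMap k (CohB1.polyGrading n k 0))
  have hcq : c = q.hom.comp cst := congrArg CommRingCat.Hom.hom (const_eq k n j)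
  have hev : ev.comp (MvPolynomial.eval₂Hom cst fun i => fr (j.succAbove i)) = RingHom.id _ :=
    MvPolynomial.ringHom_ext
      (fun r => by
        simp only [RingHom.comp_apply, MvPolynomial.eval₂Hom_C, RingHom.id_apply, cst]
        exact awayEval_const MvPolynomial.C (j.insertNth 1 MvPolynomial.X) (MvPolynomial.X j) hu r)
      (fun i => by
        simp only [RingHom.comp_apply, MvPolynomial.eval₂Hom_X', RingHom.id_apply, fr]
        exact (awayEval_frac MvPolynomial.C (j.insertNth 1 MvPolynomial.X) j (Fin.insertNth_apply_same ..) hu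
          (j.succAbove i)).trans (Fin.insertNth_apply_succAbove ..))
  have hπ : ∀ x, π x = q.hom (MvPolynomial.eval₂Hom cst (fun i => fr (j.succAbove i)) x) := by
    intro x
    simp only [π, hcq, MvPolynomial.coe_eval₂Hom]
    exact (MvPolynomial.eval₂_comp_left q.hom cst (fun i => fr (j.succAbove i)) x).symm
  refine ⟨fun x y h => ?_, fun x => ?_⟩
  · have := congrArg ev (hq.1 ((hπ x).symm.trans (h.trans (hπ y))))
    exact ((RingHom.congr_fun hev x).symm.trans this).trans (RingHom.congr_fun hev y)
  · obtain ⟨p, rfl⟩ := exists_eval₂_eq k n j x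
    refine ⟨MvPolynomial.eval₂Hom MvPolynomial.C (j.insertNth 1 MvPolynomial.X) p, ?_⟩
    change (π.comp (MvPolynomial.eval₂Hom MvPolynomial.C (j.insertNth 1 MvPolynomial.X))) p =
      MvPolynomial.eval₂Hom c (fun i => coord k n j i) p
    refine RingHom.congr_fun (MvPolynomial.ringHom_ext (fun r => by simp [π]) fun i => ?_) p
    obtain rfl | ⟨l, rfl⟩ := Fin.eq_self_or_eq_succAbove j i <;> simp [π, coord_self]

theorem stalkBasis_dCoord [QuasiSeparated (CohB1.ProjSpace.toSpec n k)] (j : Fin (n + 1)) :
    StalkBasis fun l : Fin n =>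
      (OmegaSh.dOmega (CohB1.ProjSpace.toSpec n k)).app (U k n j) (coord k n j (j.succAbove l)) := by
  classical
  let f := CohB1.ProjSpace.toSpec n k
  have hA : IsAffineOpen (U k n j) := isAffineOpen_U k n j
  have hle : U k n j ≤ f ⁻¹ᵁ ⊤ := le_top
  letI := (f.appLE ⊤ (U k n j) hle).hom.toAlgebra
  let R := Γ(Spec (CommRingCat.of k), ⊤)
  obtain ⟨e, he⟩ := SchBasics.exists_chartEquiv (Var76.OmegaUniv.isUniversal f) hA (isAffineOpen_top _) hle
  let g : k →+* R := (Scheme.ΓSpecIso (CommRingCat.of k)).inv.hom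
  have hg : Function.Bijective g := ConcreteCategory.bijective_of_isIso (Scheme.ΓSpecIso (CommRingCat.of k)).inv
  let x : Fin n → Γ(CohB1.ProjSpace n k, U k n j) := fun l => coord k n j (j.succAbove l)
  have hx : Function.Bijective (MvPolynomial.aeval (R := R) x) := by
    have h1 := bijective_eval₂ k n j
    rw [show MvPolynomial.eval₂Hom (const (k := k) (CohB1.ProjSpace n k) (U k n j)) x =
      (MvPolynomial.aeval (R := R) x).toRingHom.comp (MvPolynomial.map g) from
        MvPolynomial.ringHom_ext (fun r => by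
          simp only [MvPolynomial.eval₂Hom_C, RingHom.comp_apply, MvPolynomial.map_C, AlgHom.toRingHom_eq_coe,
            RingHom.coe_coe, MvPolynomial.aeval_C]
          rfl) (fun l => by simp)] at h1
    exact (Function.Bijective.of_comp_iff _ ⟨MvPolynomial.map_injective g hg.1, MvPolynomial.map_surjective g hg.2⟩).1 h1
  obtain ⟨b, hb⟩ := exists_basis_D x hx
  haveI := Omega57.isQuasicoherent_omega f
  have h2 : (fun l : Fin n => (OmegaSh.dOmega f).app (U k n j) (x l)) = fun l => (b.map e) l := funext fun l => by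
    rw [Module.Basis.map_apply, hb, he]
  show StalkBasis fun l : Fin n => (OmegaSh.dOmega f).app (U k n j) (x l)
  rw [h2]
  exact stalkBasis_of_basis hA (b.map e)

/-- The frame `1 / x_j ^ (n + 1)` of the twisting sheaf of degree `-n-1`. -/
def unitFrame (j : Fin (n + 1)) : Γ(Twist.twistProjSpace n k (-(n : ℤ) - 1), U k n j) :=
  (Var76.Reg.gUnit (X₁ k n j) (-(n : ℤ) - 1)).fwd

theorem isFrame_unitFrame (j : Fin (n + 1)) :
    Var76.LineBundle.IsFrame (Twist.twistProjSpace n k (-(n : ℤ) - 1)) (U k n j) (unitFrame k n j) :=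
  Var76.Reg.isFrame_unit (Var76.Reg.gUnit (X₁ k n j) (-(n : ℤ) - 1))

/-- The frame `sgn j / x_j ^ (n + 1)` of the twisting sheaf of degree `-n-1`. -/
def frame (j : Fin (n + 1)) : Γ(Twist.twistProjSpace n k (-(n : ℤ) - 1), U k n j) :=
  ((Wedge.sgn j : ℤ) : Γ(CohB1.ProjSpace n k, U k n j)) • unitFrame k n j

theorem isFrame_smul {X : Scheme.{u}} {L : X.Modules} {W : X.Opens} {e : Γ(L, W)}
    (he : Var76.LineBundle.IsFrame L W e) {z : Γ(X, W)} (hz : z * z = 1) :
    Var76.LineBundle.IsFrame L W (z • e) := by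
  intro V hV
  let w := X.presheaf.map (homOfLE hV).op z
  have hw : w * w = 1 := by rw [← map_mul, hz, map_one]
  have h1 : Function.Bijective fun a : Γ(X, V) => a * w :=
    Function.bijective_iff_has_inverse.2 ⟨fun a => a * w, fun a => by simp [mul_assoc, hw],
      fun a => by simp [mul_assoc, hw]⟩
  refine (congrArg Function.Bijective (funext fun a => ?_)).mp ((he V hV).comp h1)
  show (a * w) • _ = a • Var76.LineBundle.res L hV (z • e)
  rw [Var76.LineBundle.res_smul, mul_smul]

theorem isFrame_frame (j : Fin (n + 1)) :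
    Var76.LineBundle.IsFrame (Twist.twistProjSpace n k (-(n : ℤ) - 1)) (U k n j) (frame k n j) :=
  isFrame_smul (isFrame_unitFrame k n j)
    (by rw [← Int.cast_mul, Wedge.sgn_sq, Int.cast_one])

theorem val_gUnit (j : Fin (n + 1)) (x : U k n j) :
    (((Var76.Reg.gUnit (X₁ k n j) (-(n : ℤ) - 1)).fwd).1 x).1 =
      Localization.mk (1 : MvPolynomial (Fin (n + 1)) k)
        ((⟨MvPolynomial.X j, x.2⟩ : x.1.asHomogeneousIdeal.toIdeal.primeCompl) ^ (n + 1)) := by
  rw [Var76.Reg.gUnit, EGA73.castTwist_apply]
  show Localization.mk ((X₁ k n j).1 ^ (-(n : ℤ) - 1).toNat) _ = _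
  rw [Localization.mk_eq_mk_iff, Localization.r_iff_exists]
  refine ⟨1, ?_⟩
  have h1 : (-(n : ℤ) - 1).toNat = 0 := by omega
  have h2 : (-(-(n : ℤ) - 1)).toNat = n + 1 := by omega
  have h3 : (1 + (n : ℤ)).toNat = n + 1 := by omega
  simp [h1, h2, h3, X₁]

theorem coord_transition (i j l : Fin (n + 1)) :
    resO _ (inf_le_right : U k n i ⊓ U k n j ≤ U k n j) (coord k n j l) =
      resO _ (inf_le_right : U k n i ⊓ U k n j ≤ U k n j) (coord k n j i) *
        resO _ (inf_le_left : U k n i ⊓ U k n j ≤ U k n i) (coord k n i l) := by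
  refine Subtype.ext (funext fun x => HomogeneousLocalization.val_injective _ ?_)
  refine Eq.trans ?_ (HomogeneousLocalization.val_mul _ _).symm
  refine (val_coord k n j l ⟨x.1, x.2.2⟩).trans (Eq.trans ?_
    (congrArg₂ (· * ·) (val_coord k n j i ⟨x.1, x.2.2⟩) (val_coord k n i l ⟨x.1, x.2.1⟩)).symm)
  rw [Localization.mk_mul, Localization.mk_eq_mk_iff, Localization.r_iff_exists]
  refine ⟨1, ?_⟩
  simp only [Submonoid.coe_mul, SubmonoidClass.coe_pow, OneMemClass.coe_one, one_mul]
  ring

theorem gUnit_transition (i j : Fin (n + 1)) :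
    res (Twist.twistProjSpace n k (-(n : ℤ) - 1)) (inf_le_right : U k n i ⊓ U k n j ≤ U k n j)
        (unitFrame k n j) =
      resO _ (inf_le_right : U k n i ⊓ U k n j ≤ U k n j) (coord k n j i) ^ (n + 1) •
        res (Twist.twistProjSpace n k (-(n : ℤ) - 1)) (inf_le_left : U k n i ⊓ U k n j ≤ U k n i)
          (unitFrame k n i) := by
  refine Var76.Reg.sectN_ext fun x => ?_
  refine (val_gUnit k n j ⟨x.1, x.2.2⟩).trans (Eq.trans ?_ (Twist.coe_smul_val _ _ _ _).symm)
  refine Eq.trans ?_ (congrArg₂ (· * ·) ((HomogeneousLocalization.val_pow _ _).trans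
    (congrArg (· ^ (n + 1)) (val_coord k n j i ⟨x.1, x.2.2⟩))) (val_gUnit k n i ⟨x.1, x.2.1⟩)).symm
  rw [Localization.mk_pow, Localization.mk_mul, Localization.mk_eq_mk_iff, Localization.r_iff_exists]
  refine ⟨1, ?_⟩
  simp only [Submonoid.coe_mul, SubmonoidClass.coe_pow, OneMemClass.coe_one, one_mul]
  ring

set_option maxHeartbeats 800000 in
/-- The twisting sheaf of degree `-n-1` is the top exterior power of the differentials of projective space. -/
theorem isExtPow_twist [QuasiSeparated (CohB1.ProjSpace.toSpec n k)] :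
    ExtPow.IsExtPow n (Omega.sheaf (CohB1.ProjSpace.toSpec n k)) (Twist.twistProjSpace n k (-(n : ℤ) - 1)) := by
  classical
  let f := CohB1.ProjSpace.toSpec n k
  haveI := Omega57.isQuasicoherent_omega f
  haveI : (Twist.twistProjSpace n k (-(n : ℤ) - 1)).IsQuasicoherent :=
    EGA73.isQCoh_twist (CohB1.polyGrading n k) _
  let D : OmegaSh.Der f (Omega.sheaf f) := OmegaSh.dOmega f
  refine isExtPow_of_frames (ι := ULift.{u} (Fin (n + 1))) (fun j => U k n j.down)
    (fun x => (exists_mem_U k n x).elim fun j hj => ⟨⟨j⟩, hj⟩)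
    (fun j l => D.app (U k n j.down) (coord k n j.down (j.down.succAbove l)))
    (fun j => stalkBasis_dCoord k n j.down) (fun j => frame k n j.down) (fun j => isFrame_frame k n j.down) ?_
  rintro ⟨i⟩ ⟨j⟩
  set W := U k n i ⊓ U k n j
  let a : Fin (n + 1) → Γ(CohB1.ProjSpace n k, W) := fun l => resO _ (inf_le_left : W ≤ U k n i) (coord k n i l)
  let a' : Fin (n + 1) → Γ(CohB1.ProjSpace n k, W) := fun l => resO _ (inf_le_right : W ≤ U k n j) (coord k n j l)
  have hd1 : D.app W 1 = 0 := by
    have h := Var76.OmegaUniv.Der.map_mul D W 1 1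
    rw [one_mul, one_smul] at h
    exact left_eq_add.1 h
  have key := Wedge.ιMulti_transition (n := n) (fun b => D.app W b) hd1
    (fun x y => Var76.OmegaUniv.Der.map_mul D W x y) i j a a'
    (by simp [a, coord_self]) (by simp [a', coord_self]) (a' i) (fun l => coord_transition k n i j l)
  refine ⟨a' i ^ (n + 1) * ((Wedge.sgn j * Wedge.sgn i : ℤ) : Γ(CohB1.ProjSpace n k, W)), ?_, ?_⟩
  · refine Eq.trans (congrArg _ (funext fun l => ?_)) (key.trans (congrArg (_ • ·) (congrArg _ (funext fun l => ?_))))
    · exact (Var76.OmegaUniv.Der.res D inf_le_right _).symm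
    · exact Var76.OmegaUniv.Der.res D inf_le_left _
  · show res _ inf_le_right (frame k n j) = _ • res _ inf_le_left (frame k n i)
    have hz : ∀ {V V' : (CohB1.ProjSpace n k).Opens} (h : V' ≤ V) (m : ℤ), resO _ h (m : Γ(CohB1.ProjSpace n k, V)) = m :=
      fun h m => map_intCast ((CohB1.ProjSpace n k).presheaf.map (homOfLE h).op).hom m
    rw [frame, frame, res_smul, res_smul, hz, hz, gUnit_transition, smul_smul, smul_smul]
    refine congrArg (· • _) ?_
    have h6 : ((Wedge.sgn i : ℤ) : Γ(CohB1.ProjSpace n k, W)) * ((Wedge.sgn i : ℤ) : Γ(CohB1.ProjSpace n k, W)) = 1 := by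
      rw [← Int.cast_mul, Wedge.sgn_sq, Int.cast_one]
    push_cast
    linear_combination (-((Wedge.sgn j : ℤ) : Γ(CohB1.ProjSpace n k, W)) * a' i ^ (n + 1)) * h6

end Groth.Agent.Om3.OmegaPn
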