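import Groth.Agent.Om3.Global
import Mathlib.Algebra.MvPolynomial.PDeriv
import Mathlib.Algebra.CharP.Algebra
import Mathlib.Algebra.CharZero.Infinite
import Mathlib.Tactic.LinearCombination
import Mathlib.Tactic.FieldSimp

/-! The de Rham complex of a polynomial ring in characteristic zero is exact. -/

set_option autoImplicit false
set_option linter.unusedSectionVars false

universe u

open exteriorPower

namespace Groth.Agent.Om3

variable {k : Type u} [Field k] [CharZero k] {n : ℕ}

local notation "P" => MvPolynomial (Fin n) k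
local notation "Dk" => KaehlerDifferential.D k (MvPolynomial (Fin n) k)

variable (n) in
/-- The polynomials in the first variables. -/
noncomputable def firstVars (j : ℕ) : Subring (MvPolynomial (Fin n) k) :=
  (Algebra.adjoin k {y : MvPolynomial (Fin n) k | ∃ l : Fin n, (l : ℕ) < j ∧ y = MvPolynomial.X l}).toSubring

theorem firstVars_top : firstVars (k := k) n n = ⊤ := by
  have h : Algebra.adjoin k {y : P | ∃ l : Fin n, (l : ℕ) < n ∧ y = MvPolynomial.X l} = ⊤ := by
    rw [← MvPolynomial.adjoin_range_X]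
    congr 1
    ext y
    exact ⟨fun ⟨l, _, h⟩ => ⟨l, h.symm⟩, fun ⟨l, h⟩ => ⟨l, l.2, h.symm⟩⟩
  exact eq_top_iff.2 fun y _ => (h ▸ Algebra.mem_top :
    y ∈ Algebra.adjoin k {y : P | ∃ l : Fin n, (l : ℕ) < n ∧ y = MvPolynomial.X l})

theorem firstVars_zero {y : MvPolynomial (Fin n) k} (hy : y ∈ firstVars (k := k) n 0) : ∃ c : k, y = MvPolynomial.C c := by
  have h : y ∈ Algebra.adjoin k {y : P | ∃ l : Fin n, (l : ℕ) < 0 ∧ y = MvPolynomial.X l} := hy
  rw [show {y : P | ∃ l : Fin n, (l : ℕ) < 0 ∧ y = MvPolynomial.X l} = ∅ from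
    Set.eq_empty_iff_forall_notMem.mpr fun y ⟨l, hl, _⟩ => Nat.not_lt_zero _ hl, Algebra.adjoin_empty] at h
  obtain ⟨c, hc⟩ := Algebra.mem_bot.mp h
  exact ⟨c, hc.symm⟩

/-- The divided powers of a variable. -/
noncomputable def divPow (i : Fin n) (m : ℕ) : MvPolynomial (Fin n) k :=
  MvPolynomial.C ((m.factorial : k)⁻¹) * MvPolynomial.X i ^ m

theorem divPow_zero (i : Fin n) : divPow (k := k) i 0 = 1 := by simp [divPow]

theorem D_divPow (i : Fin n) (m : ℕ) : Dk (divPow i (m + 1) : P) = (divPow i m : P) • Dk (MvPolynomial.X i : P) := by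
  rw [divPow, divPow, Derivation.leibniz, ← MvPolynomial.algebraMap_eq, Derivation.map_algebraMap, smul_zero,
    add_zero, Derivation.leibniz_pow, Nat.add_sub_cancel, ← Nat.cast_smul_eq_nsmul P, smul_smul, smul_smul]
  congr 1
  rw [MvPolynomial.algebraMap_eq, Nat.factorial_succ, Nat.cast_mul, mul_inv, map_mul, ← map_natCast (MvPolynomial.C : k →+* P)]
  have h : MvPolynomial.C ((m + 1 : ℕ) : k)⁻¹ * MvPolynomial.C ((m + 1 : ℕ) : k) = (1 : P) := by
    rw [← map_mul, inv_mul_cancel₀ (Nat.cast_ne_zero.mpr (Nat.succ_ne_zero m)), map_one]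
  linear_combination (MvPolynomial.C ((m.factorial : k)⁻¹) * MvPolynomial.X i ^ m) * h

theorem divPow_mul (i : Fin n) (m l : ℕ) : ∃ c : ℕ, divPow (k := k) i m * divPow i l = c • divPow i (m + l) := by
  refine ⟨(m + l).choose m, ?_⟩
  have hq : ((m.factorial : k)⁻¹) * (l.factorial : k)⁻¹ = ((m + l).choose m : k) * ((m + l).factorial : k)⁻¹ := by
    have h : (m + l).choose m * m.factorial * l.factorial = (m + l).factorial := by
      rw [Nat.choose_symm_add]; exact Nat.add_choose_mul_factorial_mul_factorial m l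
    rw [← h]
    push_cast
    have h1 : (((m + l).choose m : ℕ) : k) ≠ 0 := Nat.cast_ne_zero.mpr (Nat.choose_pos (Nat.le_add_right m l)).ne'
    field_simp
  rw [nsmul_eq_mul, divPow, divPow, divPow, mul_mul_mul_comm, ← map_mul, hq, map_mul, map_natCast, pow_add]
  ring

theorem mem_extended {i : Fin n} {t : MvPolynomial (Fin n) k} (ht : t ∈ firstVars n ((i : ℕ) + 1)) :
    t ∈ DR29.extended (divPow i) (firstVars (k := k) n i) := by
  have hmul : ∀ x ∈ DR29.extended (divPow i) (firstVars (k := k) n i), ∀ y ∈ DR29.extended (divPow i) (firstVars (k := k) n i),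
      x * y ∈ DR29.extended (divPow i) (firstVars (k := k) n i) := by
    intro x ha y hb
    induction ha using AddSubgroup.closure_induction with
    | mem x hx =>
      induction hb using AddSubgroup.closure_induction with
      | mem y hy =>
        obtain ⟨m, s, hs, rfl⟩ := hx
        obtain ⟨l, s', hs', rfl⟩ := hy
        obtain ⟨c, hc⟩ := divPow_mul (k := k) i m l
        refine AddSubgroup.subset_closure ⟨m + l, (c : P) * (s * s'),
          mul_mem (natCast_mem (firstVars (k := k) n i) _) (mul_mem hs hs'), ?_⟩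
        rw [nsmul_eq_mul] at hc
        linear_combination -(s * s') * hc
      | zero => rw [mul_zero]; exact zero_mem _
      | add a b _ _ ha hb => rw [mul_add]; exact add_mem ha hb
      | neg a _ ha => rw [mul_neg]; exact neg_mem ha
    | zero => rw [zero_mul]; exact zero_mem _
    | add a b _ _ ha hb => rw [add_mul]; exact add_mem ha hb
    | neg a _ ha => rw [neg_mul]; exact neg_mem ha
  replace ht : t ∈ Algebra.adjoin k {y : P | ∃ l : Fin n, (l : ℕ) < (i : ℕ) + 1 ∧ y = MvPolynomial.X l} := ht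
  induction ht using Algebra.adjoin_induction with
  | mem t ht =>
    obtain ⟨l, hl, rfl⟩ := ht
    rcases lt_or_eq_of_le (Nat.lt_succ_iff.mp hl) with h | h
    · refine AddSubgroup.subset_closure ⟨0, MvPolynomial.X l, Algebra.subset_adjoin ⟨l, h, rfl⟩, ?_⟩
      rw [divPow_zero, one_mul]
    · refine AddSubgroup.subset_closure ⟨1, 1, one_mem (firstVars (k := k) n i), ?_⟩
      simp [divPow, Fin.ext h]
  | algebraMap r =>
    refine AddSubgroup.subset_closure ⟨0, algebraMap k P r, Subalgebra.algebraMap_mem _ r, ?_⟩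
    rw [divPow_zero, one_mul]
  | add a b _ _ ha hb => exact add_mem ha hb
  | mul a b _ _ ha hb => exact hmul _ ha _ hb

theorem step {d : ∀ p : ℕ, ↥(⋀[P]^p (KaehlerDifferential k P)) →ₗ[k] ↥(⋀[P]^(p + 1) (KaehlerDifferential k P))}
    (hd : DeRham.IsDiff Dk d) (q : ℕ) :
    ∀ j ≤ n, ∀ ω : ↥(⋀[P]^q (KaehlerDifferential k P)), ω ∈ DR29.subForms Dk (firstVars (k := k) n j) q → d q ω = 0 →
      ∃ g ∈ DR29.subForms Dk (firstVars (k := k) n 0) q, d q g = 0 ∧ ω - g ∈ DeRham.coboundaries d q := by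
  intro j
  induction j with
  | zero => exact fun _ ω hω hc => ⟨ω, hω, hc, by rw [sub_self]; exact zero_mem _⟩
  | succ j ih =>
    intro hj ω hω hc
    let i : Fin n := ⟨j, hj⟩
    let θ : Module.Dual P (KaehlerDifferential k P) :=
      (MvPolynomial.pderiv (R := k) i).liftKaehlerDifferential
    have hθ : ∀ y, θ (Dk y) = MvPolynomial.pderiv i y := fun y => Derivation.liftKaehlerDifferential_comp_D _ y
    have hS : ∀ s ∈ firstVars (k := k) n j, θ (Dk s) = 0 := by
      intro s hs
      rw [hθ]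
      replace hs : s ∈ Algebra.adjoin k {y : P | ∃ l : Fin n, (l : ℕ) < j ∧ y = MvPolynomial.X l} := hs
      induction hs using Algebra.adjoin_induction with
      | mem s hs =>
        obtain ⟨l, hl, rfl⟩ := hs
        exact MvPolynomial.pderiv_X_of_ne fun h => by rw [h] at hl; exact lt_irrefl _ hl
      | algebraMap r => exact (MvPolynomial.pderiv i).map_algebraMap r
      | add a b ha' hb' ha hb => rw [map_add, ha, hb, add_zero]
      | mul a b ha' hb' ha hb => rw [Derivation.leibniz, ha, hb, smul_zero, smul_zero, add_zero]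
    obtain ⟨g, hg, hgc, hgd⟩ := DR29.eliminate (DR29.span_kaehler k P) hd (MvPolynomial.X i) (divPow i) (divPow_zero i)
      (D_divPow i) (divPow_mul i) θ (by rw [hθ, MvPolynomial.pderiv_X_self]) (firstVars n j) (firstVars n (j + 1)) hS
      (fun t ht => mem_extended (i := i) ht) q ω hω hc
    obtain ⟨g', hg', hgc', hgd'⟩ := ih (Nat.le_of_succ_le hj) g hg hgc
    refine ⟨g', hg', hgc', ?_⟩
    rw [← sub_add_sub_cancel ω g g']
    exact add_mem hgd hgd'

theorem deRham_exact
    (d : DiffOpCalc.DeRham.EA k P →ₗ[k] DiffOpCalc.DeRham.EA k P)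
    (h0 : ∀ a : P, d (algebraMap P _ a) = ExteriorAlgebra.ι P (Dk a))
    (hdeg : ∀ (p : ℕ) (ω : DiffOpCalc.DeRham.EA k P), ω ∈ ExteriorAlgebra.exteriorPower P p (KaehlerDifferential k P) →
      d ω ∈ ExteriorAlgebra.exteriorPower P (p + 1) (KaehlerDifferential k P))
    (hder : ∀ (p : ℕ) (ω η : DiffOpCalc.DeRham.EA k P), ω ∈ ExteriorAlgebra.exteriorPower P p (KaehlerDifferential k P) →
      d (ω * η) = d ω * η + (-1) ^ p * ω * d η)
    (hdd : ∀ ω, d (d ω) = 0) :
    (∀ a : P, d (algebraMap P _ a) = 0 → ∃ c : k, a = MvPolynomial.C c) ∧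
    ∀ (p : ℕ) (ω : DiffOpCalc.DeRham.EA k P),
      ω ∈ ExteriorAlgebra.exteriorPower P (p + 1) (KaehlerDifferential k P) → d ω = 0 →
        ∃ θ ∈ ExteriorAlgebra.exteriorPower P p (KaehlerDifferential k P), d θ = ω := by
  have hd := isDiff_restr d hdeg h0 hder hdd
  have htop : ∀ (q : ℕ) (x : ↥(⋀[P]^q (KaehlerDifferential k P))),
      x ∈ DR29.subForms Dk (firstVars (k := k) n n) q := fun q x =>
    firstVars_top (k := k) (n := n) ▸ DR29.subForms_top (DR29.span_kaehler k P) q x
  refine ⟨fun a ha => ?_, fun p ω hω hω0 => ?_⟩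
  · obtain ⟨g, hg, -, hgd⟩ := step hd 0 n le_rfl ⟨algebraMap P _ a, algebraMap_mem_zero a⟩ (htop 0 _) (Subtype.ext ha)
    have h1 : (⟨algebraMap P _ a, algebraMap_mem_zero a⟩ : ↥(⋀[P]^0 (KaehlerDifferential k P))) = g := sub_eq_zero.mp hgd
    have h2 : ∃ c : k, (g : DiffOpCalc.DeRham.EA k P) = algebraMap P _ (MvPolynomial.C c) := by
      clear h1 hgd
      induction hg using AddSubgroup.closure_induction with
      | mem x hx =>
        obtain ⟨b₀, h₀, b, -, rfl⟩ := hx
        obtain ⟨c, rfl⟩ := firstVars_zero h₀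
        refine ⟨c, ?_⟩
        rw [DeRham.gen, SetLike.val_smul, ιMulti_apply_coe, ExteriorAlgebra.ιMulti_zero_apply, Algebra.smul_def, mul_one]
      | zero => exact ⟨0, by simp⟩
      | add x y _ _ hx hy =>
        obtain ⟨c, hc⟩ := hx; obtain ⟨c', hc'⟩ := hy
        exact ⟨c + c', by rw [Submodule.coe_add, hc, hc', map_add, map_add]⟩
      | neg x _ hx =>
        obtain ⟨c, hc⟩ := hx
        exact ⟨-c, by rw [Submodule.coe_neg, hc, map_neg, map_neg]⟩
    obtain ⟨c, hc⟩ := h2
    exact ⟨c, (ExteriorAlgebra.algebraMap_inj _ _ _).1 ((congrArg Subtype.val h1).trans hc)⟩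
  · obtain ⟨g, hg, -, hgd⟩ := step hd (p + 1) n le_rfl ⟨ω, hω⟩ (htop _ _) (Subtype.ext hω0)
    have hg0 : g = 0 := by
      refine (AddSubgroup.closure_le (⊥ : AddSubgroup _)).2 ?_ hg
      rintro _ ⟨b₀, -, b, hb, rfl⟩
      obtain ⟨c, hc⟩ := firstVars_zero (hb 0)
      show DeRham.gen Dk (p + 1) b₀ b = 0
      rw [DeRham.gen, AlternatingMap.map_coord_zero _ (i := 0), smul_zero]
      rw [hc, ← MvPolynomial.algebraMap_eq, Derivation.map_algebraMap]
    rw [hg0, sub_zero] at hgd
    obtain ⟨θ, hθ⟩ := hgd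
    exact ⟨θ, θ.2, congrArg Subtype.val hθ⟩

end Groth.Agent.Om3
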