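import Groth.Agent.SchBasics.OmegaChart
import Groth.Agent.Props58.LocFree.FP
import Groth.Agent.QC70.Coherent
import Mathlib.AlgebraicGeometry.Morphisms.FinitePresentation
import Mathlib.RingTheory.Extension.Cotangent.Basic

/-! Finiteness of sheaves of differentials. -/

set_option autoImplicit false
set_option backward.isDefEq.respectTransparency false

universe u

open CategoryTheory CategoryTheory.Limits AlgebraicGeometry TopologicalSpace Opposite

noncomputable section

namespace Groth.Agent.Om3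

open Groth.Agent

variable {X S : Scheme.{u}} (f : X ⟶ S)

theorem exists_chart_cover : ∀ x : X, ∃ (U : X.Opens) (V : S.Opens),
    IsAffineOpen U ∧ IsAffineOpen V ∧ x ∈ U ∧ U ≤ f ⁻¹ᵁ V := by
  intro x
  obtain ⟨_, ⟨V, hV, rfl⟩, hxV, -⟩ := S.isBasis_affineOpens.exists_subset_of_mem_open
    (show f x ∈ (⊤ : S.Opens) from trivial) (⊤ : S.Opens).isOpen
  obtain ⟨_, ⟨U, hU, rfl⟩, hxU, hle⟩ := X.isBasis_affineOpens.exists_subset_of_mem_open
    (show x ∈ f ⁻¹ᵁ V from hxV) (f ⁻¹ᵁ V).isOpen
  exact ⟨U, V, hU, hV, hxU, hle⟩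

variable {f}

theorem isFT_omega [LocallyOfFiniteType f] {Ω : X.Modules} {d : OmegaSh.Der f Ω}
    (hd : OmegaSh.IsUniversal d) : CohB1.IsFT Ω := by
  haveI := SchBasics.isQuasicoherent_of_isUniversal hd
  choose U V hU hV hxU hle using exists_chart_cover f
  refine QC70.isFiniteType_of_finite_sections Ω U
    (IsOpenCover.mk (top_le_iff.1 fun x _ => Opens.mem_iSup.2 ⟨x, hxU x⟩)) hU fun x => ?_
  have h := f.finiteType_appLE (hV x) (hU x) (hle x)
  algebraize [(f.appLE (V x) (U x) (hle x)).hom]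
  obtain ⟨e, -⟩ := SchBasics.exists_chartEquiv hd (hU x) (hV x) (hle x)
  haveI : Algebra.FiniteType Γ(S, V x) Γ(X, U x) := h
  exact Module.Finite.equiv e

theorem isFP_omega [LocallyOfFinitePresentation f] {Ω : X.Modules} {d : OmegaSh.Der f Ω}
    (hd : OmegaSh.IsUniversal d) : CohB1.IsFP Ω := by
  haveI := SchBasics.isQuasicoherent_of_isUniversal hd
  choose U V hU hV hxU hle using exists_chart_cover f
  refine Props58.LocFree.isFP_of_sections Ω U
    (IsOpenCover.mk (top_le_iff.1 fun x _ => Opens.mem_iSup.2 ⟨x, hxU x⟩)) hU fun x => ?_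
  have h := f.finitePresentation_appLE (hV x) (hU x) (hle x)
  algebraize [(f.appLE (V x) (U x) (hle x)).hom]
  obtain ⟨e, -⟩ := SchBasics.exists_chartEquiv hd (hU x) (hV x) (hle x)
  haveI : Algebra.FinitePresentation Γ(S, V x) Γ(X, U x) := h
  exact Module.FinitePresentation.of_equiv e

end Groth.Agent.Om3
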