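import Groth.Agent.FlatMor67.ConormalIso
import Groth.Agent.SchBasics.PullSpan
import Groth.Agent.EGA73.GammaStarIso
import Mathlib.AlgebraicGeometry.Morphisms.Flat

/-! The canonical maps between conormal sheaves. -/

set_option autoImplicit false
set_option backward.isDefEq.respectTransparency false

universe u

open CategoryTheory CategoryTheory.Limits AlgebraicGeometry TopologicalSpace Opposite TensorProduct

noncomputable section

namespace Groth.Agent.Om3

open Groth.Agent QC70 Omega57

theorem subschemeι_app_eq_zero {Z X : Scheme.{u}} (i : Z ⟶ X) [QuasiCompact i] (W : X.Opens) (x : Γ(X, W))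
    (hx : i.app W x = 0) : i.ker.subschemeι.app W x = 0 := by
  let ι := i.ker.subschemeι
  refine i.ker.subscheme.sheaf.eq_of_locally_eq'
    (fun V : {V : X.affineOpens // (V : X.Opens) ≤ W} => ι ⁻¹ᵁ (V.1 : X.Opens))
    (ι ⁻¹ᵁ W) (fun V => (Opens.map ι.base).map (homOfLE V.2)) ?_ _ _ ?_
  · intro z hz
    obtain ⟨_, ⟨V, hV, rfl⟩, hzV, hVW⟩ := X.isBasis_affineOpens.exists_subset_of_mem_open hz W.isOpen
    exact Opens.mem_iSup.mpr ⟨⟨⟨V, hV⟩, hVW⟩, hzV⟩
  · intro V
    change i.ker.subscheme.presheaf.map ((Opens.map ι.base).map (homOfLE V.2)).op (ι.app W x) =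
      i.ker.subscheme.presheaf.map ((Opens.map ι.base).map (homOfLE V.2)).op 0
    rw [map_zero, ← ConcreteCategory.comp_apply]
    erw [← Scheme.Hom.naturality ι (homOfLE V.2).op]
    rw [ConcreteCategory.comp_apply]
    refine FlatMor67.app_eq_zero_of_app i V.1.2 _ ?_
    rw [← ConcreteCategory.comp_apply, Scheme.Hom.naturality i (homOfLE V.2).op, ConcreteCategory.comp_apply, hx,
      map_zero]

theorem idealSect_res {P : Scheme.{u}} (I : P.IdealSheafData) {U V : P.Opens} (h : V ≤ U)
    (m : Γ(ClSub.idealMod I, U)) :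
    OmegaSh.idealSect I V (res (ClSub.idealMod I) h m) = P.presheaf.map (homOfLE h).op (OmegaSh.idealSect I U m) := by
  rw [OmegaSh.idealSect_apply, OmegaSh.idealModι_app_map]
  rfl

variable {Z X Z' X' : Scheme.{u}} (i : Z ⟶ X) (i' : Z' ⟶ X') [QuasiCompact i] (g : X ⟶ X') (gZ : Z ⟶ Z')
  (hsq : gZ ≫ i' = i ≫ g)

include hsq in
theorem exists_sect (U' : X'.Opens) (s' : Γ(ClSub.idealMod i'.ker, U')) :
    ∃ s : Γ(ClSub.idealMod i.ker, g ⁻¹ᵁ U'),
      OmegaSh.idealSect i.ker (g ⁻¹ᵁ U') s = g.app U' (OmegaSh.idealSect i'.ker U' s') := by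
  refine exists_idealSect_eq _ _ _ (subschemeι_app_eq_zero i _ _ ?_)
  have key : ∀ (q : Z ⟶ X') (e : i ⁻¹ᵁ (g ⁻¹ᵁ U') ≤ q ⁻¹ᵁ U') (x : Γ(X', U')), q = i ≫ g →
      i.app (g ⁻¹ᵁ U') (g.app U' x) = q.appLE U' _ e x := by
    rintro q e x rfl
    rw [Scheme.Hom.appLE, Scheme.Hom.comp_app]
    show _ = Z.presheaf.map (𝟙 _) _
    rw [CategoryTheory.Functor.map_id]
    rfl
  rw [key (gZ ≫ i') (le_of_eq (by rw [hsq]; rfl)) _ hsq, Scheme.Hom.comp_appLE, ConcreteCategory.comp_apply,
    FlatMor67.app_idealSect, map_zero]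

/-- The section of the ideal corresponding to a section of the ideal downstairs. -/
def sectOf (U' : X'.Opens) (s' : Γ(ClSub.idealMod i'.ker, U')) : Γ(ClSub.idealMod i.ker, g ⁻¹ᵁ U') :=
  (exists_sect i i' g gZ hsq U' s').choose

theorem sectOf_spec (U' : X'.Opens) (s' : Γ(ClSub.idealMod i'.ker, U')) :
    OmegaSh.idealSect i.ker (g ⁻¹ᵁ U') (sectOf i i' g gZ hsq U' s') = g.app U' (OmegaSh.idealSect i'.ker U' s') :=
  (exists_sect i i' g gZ hsq U' s').choose_spec

omit [QuasiCompact i] in
include hsq in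
theorem preimage_le (U' : X'.Opens) : gZ ⁻¹ᵁ (i' ⁻¹ᵁ U') ≤ i ⁻¹ᵁ (g ⁻¹ᵁ U') := by
  rw [← Scheme.Hom.comp_preimage, ← Scheme.Hom.comp_preimage, hsq]

/-- The map on ideals underlying the map of conormal sheaves. -/
def idealMap : ClSub.idealMod i'.ker ⟶
    (Scheme.Modules.pushforward i').obj ((Scheme.Modules.pushforward gZ).obj (Omega.conormal i)) :=
  HomOn.toHom
    { app := fun U' _ =>
        { toFun := fun s' => res (Omega.conormal i) (preimage_le i i' g gZ hsq U')
            (OmegaSh.conormalSect i (g ⁻¹ᵁ U') (sectOf i i' g gZ hsq U' s'))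
          map_add' := fun a b => by
            have h : sectOf i i' g gZ hsq U' (a + b) = sectOf i i' g gZ hsq U' a + sectOf i i' g gZ hsq U' b :=
              idealSect_injective _ _ (by rw [map_add, sectOf_spec, sectOf_spec, sectOf_spec, map_add, map_add])
            rw [h, map_add, res_add]
          map_smul' := fun r a => by
            have h : sectOf i i' g gZ hsq U' (r • a) = g.app U' r • sectOf i i' g gZ hsq U' a :=
              idealSect_injective _ _ (by
                rw [idealSect_smul, sectOf_spec, sectOf_spec, idealSect_smul, map_mul])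
            rw [h]
            refine Eq.trans (congrArg (res (Omega.conormal i) (preimage_le i i' g gZ hsq U'))
              (OmegaSh.pullSect_smul i (ClSub.idealMod i.ker) (g ⁻¹ᵁ U') (g.app U' r) _)) ?_
            refine Eq.trans (res_smul (M := Omega.conormal i) _ _ _) ?_
            refine congrArg₂ (· • ·) ?_ rfl
            show Z.presheaf.map _ (i.app (g ⁻¹ᵁ U') (g.app U' r)) = gZ.app (i' ⁻¹ᵁ U') (i'.app U' r)
            have key : ∀ (q : Z ⟶ X') (e : gZ ⁻¹ᵁ (i' ⁻¹ᵁ U') ≤ q ⁻¹ᵁ U'), q = i ≫ g →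
                Z.presheaf.map (homOfLE (preimage_le i i' g gZ hsq U')).op (i.app (g ⁻¹ᵁ U') (g.app U' r)) =
                  q.appLE U' _ e r := by
              rintro q e rfl
              rw [Scheme.Hom.appLE, Scheme.Hom.comp_app]
              rfl
            refine (key (gZ ≫ i') le_rfl hsq).trans ?_
            rw [Scheme.Hom.appLE, Scheme.Hom.comp_app]
            show Z.presheaf.map (𝟙 _) _ = _
            rw [CategoryTheory.Functor.map_id]
            rfl }
      app_res := fun {W W'} _ h s' => by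
        have hs : sectOf i i' g gZ hsq W' (res (ClSub.idealMod i'.ker) h s') =
            res (ClSub.idealMod i.ker) (g.preimage_mono h) (sectOf i i' g gZ hsq W s') :=
          idealSect_injective _ _ (by
            rw [sectOf_spec, idealSect_res, idealSect_res, sectOf_spec]
            exact congr($(Scheme.Hom.naturality g (homOfLE h).op) _))
        show res (Omega.conormal i) _ (OmegaSh.conormalSect i _ (sectOf i i' g gZ hsq W' _)) =
          res (Omega.conormal i) (gZ.preimage_mono (i'.preimage_mono h)) (res (Omega.conormal i) _ _)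
        rw [hs, OmegaSh.conormalSect_eq]
        refine Eq.trans (congrArg (res (Omega.conormal i) _) (OmegaSh.pullSect_map i _ (g.preimage_mono h) _)) ?_
        exact (res_res (M := Omega.conormal i) _ _ _).trans (res_res (M := Omega.conormal i) _ _ _).symm }

variable {i i' g gZ}

omit [QuasiCompact i] in
theorem homEquiv_app (φ : (Scheme.Modules.pullback gZ).obj (Omega.conormal i') ⟶ Omega.conormal i)
    (U' : X'.Opens) (s' : Γ(ClSub.idealMod i'.ker, U')) :
    φ.app (gZ ⁻¹ᵁ (i' ⁻¹ᵁ U'))
        (OmegaSh.pullSect gZ (Omega.conormal i') (i' ⁻¹ᵁ U') (OmegaSh.conormalSect i' U' s')) =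
      ((Scheme.Modules.pullbackPushforwardAdjunction i').homEquiv (ClSub.idealMod i'.ker) _
        ((Scheme.Modules.pullbackPushforwardAdjunction gZ).homEquiv (Omega.conormal i') (Omega.conormal i) φ)).app U' s' := by
  rw [Adjunction.homEquiv_unit, Adjunction.homEquiv_unit]
  rfl

include hsq in
theorem existsUnique_conormalMap :
    ∃! φ : (Scheme.Modules.pullback gZ).obj (Omega.conormal i') ⟶ Omega.conormal i,
      OmegaSh.IsConormalMap i i' g gZ φ := by
  let a₁ := Scheme.Modules.pullbackPushforwardAdjunction gZ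
  let a₂ := Scheme.Modules.pullbackPushforwardAdjunction i'
  let φ := (a₁.homEquiv (Omega.conormal i') (Omega.conormal i)).symm
    ((a₂.homEquiv (ClSub.idealMod i'.ker) _).symm (idealMap i i' g gZ hsq))
  refine ⟨φ, ⟨hsq, fun U' s' s hs V h₁ h₂ => ?_⟩, fun ψ hψ => ?_⟩
  · rw [homEquiv_app]
    have hh : a₂.homEquiv (ClSub.idealMod i'.ker) _ (a₁.homEquiv (Omega.conormal i') (Omega.conormal i) φ) =
        idealMap i i' g gZ hsq :=
      (congrArg (a₂.homEquiv (ClSub.idealMod i'.ker) _) ((a₁.homEquiv (Omega.conormal i') (Omega.conormal i)).apply_symm_apply _)).trans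
        ((a₂.homEquiv (ClSub.idealMod i'.ker) _).apply_symm_apply _)
    refine (congrArg (fun t => res (Omega.conormal i) h₁ t) (congr(Scheme.Modules.Hom.app $hh U' s'))).trans ?_
    have : s = sectOf i i' g gZ hsq U' s' := idealSect_injective _ _ (by rw [sectOf_spec, hs])
    subst this
    exact res_res (M := Omega.conormal i) _ h₁ _
  · refine (a₁.homEquiv (Omega.conormal i') (Omega.conormal i)).injective
      ((a₂.homEquiv (ClSub.idealMod i'.ker) _).injective ?_)
    refine Eq.trans ?_ ((congrArg (a₂.homEquiv (ClSub.idealMod i'.ker) _)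
      ((a₁.homEquiv (Omega.conormal i') (Omega.conormal i)).apply_symm_apply _)).trans
        ((a₂.homEquiv (ClSub.idealMod i'.ker) _).apply_symm_apply (idealMap i i' g gZ hsq))).symm
    refine Scheme.Modules.hom_ext _ _ fun U' => ?_
    ext s'
    refine (homEquiv_app ψ U' s').symm.trans ?_
    have h := hψ.2 U' s' (sectOf i i' g gZ hsq U' s') (sectOf_spec i i' g gZ hsq U' s') _ le_rfl
      (preimage_le i i' g gZ hsq U')
    refine Eq.trans ?_ h
    exact (res_self (M := Omega.conormal i) _).symm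

omit hsq in
/-- The value of a map of conormal sheaves on classes, over any open. -/
theorem conormalMap_val {φ : (Scheme.Modules.pullback gZ).obj (Omega.conormal i') ⟶ Omega.conormal i}
    (hφ : OmegaSh.IsConormalMap i i' g gZ φ) {U' : X'.Opens} {U : X.Opens} (hU : U ≤ g ⁻¹ᵁ U')
    {P : Z.Opens} (hP : P ≤ gZ ⁻¹ᵁ (i' ⁻¹ᵁ U')) (hP' : P ≤ i ⁻¹ᵁ U)
    (s' : Γ(ClSub.idealMod i'.ker, U')) (s : Γ(ClSub.idealMod i.ker, U))
    (hs : OmegaSh.idealSect i.ker U s = g.appLE U' U hU (OmegaSh.idealSect i'.ker U' s')) :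
    φ.app P (res ((Scheme.Modules.pullback gZ).obj (Omega.conormal i')) hP
        (OmegaSh.pullSect gZ (Omega.conormal i') (i' ⁻¹ᵁ U') (OmegaSh.conormalSect i' U' s'))) =
      res (Omega.conormal i) hP' (OmegaSh.conormalSect i U s) := by
  have hs' : s = res (ClSub.idealMod i.ker) hU (sectOf i i' g gZ hφ.1 U' s') := idealSect_injective _ _ (by
    rw [hs, idealSect_res, sectOf_spec]; rfl)
  rw [app_res φ]
  refine (hφ.2 U' s' _ (sectOf_spec i i' g gZ hφ.1 U' s') P hP (hP'.trans (i.preimage_mono hU))).trans ?_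
  rw [hs', OmegaSh.conormalSect_eq]
  refine Eq.trans ?_ (congrArg (res (Omega.conormal i) hP') (OmegaSh.pullSect_map i _ hU _)).symm
  exact (res_res (M := Omega.conormal i) _ _ _).symm

end Groth.Agent.Om3
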