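import Groth.Agent.Om3.UnivAffine
import Mathlib.AlgebraicGeometry.Gluing

/-! Existence of universal first order thickenings of formally unramified morphisms. -/

set_option autoImplicit false
set_option backward.isDefEq.respectTransparency false

universe u

open CategoryTheory CategoryTheory.Limits AlgebraicGeometry TopologicalSpace MoreMor

namespace Groth.Agent.Om3

open Groth.Agent

theorem RingUniv.congr_equiv {A B B' B'' : Type u} [CommRing A] [CommRing B] [CommRing B'] [CommRing B'']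
    {α : A →+* B} {α' : A →+* B'} {π : B' →+* B} (h : RingUniv α α' π) (e : B' ≃+* B'') :
    RingUniv α (e.toRingHom.comp α') (π.comp e.symm.toRingHom) where
  comp := RingHom.ext fun x => by
    show π (e.symm (e (α' x))) = α x
    rw [e.symm_apply_apply]; exact RingHom.congr_fun h.comp x
  surj := h.surj.comp e.symm.surjective
  sq := by
    have hle : RingHom.ker (π.comp e.symm.toRingHom) ≤ (RingHom.ker π).map e.toRingHom := fun x hx => by
      rw [← e.apply_symm_apply x]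
      exact Ideal.mem_map_of_mem e.toRingHom hx
    refine le_bot_iff.1 ((Ideal.pow_right_mono hle 2).trans ?_)
    rw [← Ideal.map_pow, h.sq, Ideal.map_bot]
  lift C D _ _ q hq hq2 γ β hβ := by
    obtain ⟨F, ⟨h1, h2⟩, hu⟩ := h.lift C D q hq hq2 γ β hβ
    refine ⟨F.comp e.symm.toRingHom, ⟨?_, ?_⟩, fun G hG => ?_⟩
    · rw [← RingHom.comp_assoc, h1, RingHom.comp_assoc]
    · refine RingHom.ext fun x => ?_
      show F (e.symm (e (α' x))) = γ x
      rw [e.symm_apply_apply]; exact RingHom.congr_fun h2 x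
    · have hG' : G.comp e.toRingHom = F := hu _ ⟨RingHom.ext fun x => by
        have := RingHom.congr_fun hG.1 (e x)
        exact this.trans (congrArg (fun t => β (π t)) (e.symm_apply_apply x)), RingHom.ext fun x => RingHom.congr_fun hG.2 x⟩
      refine RingHom.ext fun x => ?_
      rw [← hG']
      exact congrArg G (e.apply_symm_apply x).symm

variable {Z X : Scheme.{u}}

theorem univ_target_open {U : Scheme.{u}} (o : U ⟶ X) [IsOpenImmersion o] {h₀ : Z ⟶ U} {P : Scheme.{u}} {i : Z ⟶ P}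
    {p : P ⟶ U} (hu : OmegaSh.IsUnivThickening h₀ i p) : OmegaSh.IsUnivThickening (h₀ ≫ o) i (p ≫ o) := by
  refine ⟨hu.1, by rw [← Category.assoc, hu.2.1], fun T T' j b a hj hab => ?_⟩
  have hr := range_subset_of_thickening hj o b (a ≫ h₀) (by rw [hab, Category.assoc])
  obtain ⟨a', ⟨h1, h2⟩, huq⟩ := hu.2.2 T T' j (IsOpenImmersion.lift o b hr) a hj (by
    rw [← cancel_mono o, Category.assoc, IsOpenImmersion.lift_fac, hab, Category.assoc])
  refine ⟨a', ⟨h1, by rw [reassoc_of% h2, IsOpenImmersion.lift_fac]⟩, fun c hc => huq c ⟨hc.1, ?_⟩⟩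
  rw [← cancel_mono o, Category.assoc, IsOpenImmersion.lift_fac, hc.2]

theorem univ_source_open {V Z₀ P : Scheme.{u}} {h₀ : Z₀ ⟶ X} {i : Z₀ ⟶ P} {p : P ⟶ X}
    (hu : OmegaSh.IsUnivThickening h₀ i p) (o : V ⟶ Z₀) [IsOpenImmersion o] (W : P.Opens)
    (hW : i ⁻¹ᵁ W = o.opensRange) (k : V ⟶ W) (hk : k ≫ W.ι = o ≫ i) :
    OmegaSh.IsUnivThickening (o ≫ h₀) k (W.ι ≫ p) := by
  have hsq : IsPullback k o W.ι i :=
    IsOpenImmersion.isPullback k o W.ι i hk.symm (by rw [Scheme.Opens.opensRange_ι, hW])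
  refine ⟨fot_of_isPullback hsq hu.1, by rw [reassoc_of% hk, hu.2.1], fun T T' j b a hj hab => ?_⟩
  obtain ⟨a', ⟨h1, h2⟩, huq⟩ := hu.2.2 T T' j b (a ≫ o) hj (by rw [hab, Category.assoc])
  have hr := range_subset_of_thickening hj W.ι a' (a ≫ k) (by rw [h1, Category.assoc, Category.assoc, hk])
  refine ⟨IsOpenImmersion.lift W.ι a' hr, ⟨?_, by rw [IsOpenImmersion.lift_fac_assoc, h2]⟩, fun c hc => ?_⟩
  · rw [← cancel_mono W.ι]
    simp [h1, hk]
  · rw [← cancel_mono W.ι, IsOpenImmersion.lift_fac]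
    refine huq _ ⟨?_, by rw [Category.assoc, hc.2]⟩
    rw [← Category.assoc, hc.1, Category.assoc, hk, Category.assoc]

theorem univ_iso {h₀ : Z ⟶ X} {P₁ P₂ : Scheme.{u}} {i₁ : Z ⟶ P₁} {p₁ : P₁ ⟶ X} {i₂ : Z ⟶ P₂} {p₂ : P₂ ⟶ X}
    (h₁ : OmegaSh.IsUnivThickening h₀ i₁ p₁) (h₂ : OmegaSh.IsUnivThickening h₀ i₂ p₂) :
    ∃ φ : P₁ ≅ P₂, i₁ ≫ φ.hom = i₂ ∧ φ.hom ≫ p₂ = p₁ := by
  obtain ⟨f, ⟨hf, hf'⟩, -⟩ := h₂.2.2 Z P₁ i₁ p₁ (𝟙 Z) h₁.1 (by rw [h₁.2.1, Category.id_comp])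
  obtain ⟨g, ⟨hg, hg'⟩, -⟩ := h₁.2.2 Z P₂ i₂ p₂ (𝟙 Z) h₂.1 (by rw [h₂.2.1, Category.id_comp])
  rw [Category.id_comp] at hf hg
  refine ⟨⟨f, g, ?_, ?_⟩, hf, hf'⟩
  · exact (h₁.2.2 Z P₁ i₁ p₁ (𝟙 Z) h₁.1 (by rw [h₁.2.1, Category.id_comp])).unique
      ⟨by rw [reassoc_of% hf, hg, Category.id_comp], by rw [Category.assoc, hg', hf']⟩
      ⟨by rw [Category.comp_id, Category.id_comp], Category.id_comp _⟩
  · exact (h₂.2.2 Z P₂ i₂ p₂ (𝟙 Z) h₂.1 (by rw [h₂.2.1, Category.id_comp])).unique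
      ⟨by rw [reassoc_of% hg, hf, Category.id_comp], by rw [Category.assoc, hf', hg']⟩
      ⟨by rw [Category.comp_id, Category.id_comp], Category.id_comp _⟩

theorem exists_univ_affine [IsAffine Z] [IsAffine X] (h : Z ⟶ X) (hfu : h.appTop.hom.FormallyUnramified) :
    ∃ (P : Scheme.{u}) (_ : IsAffine P) (i : Z ⟶ P) (p : P ⟶ X), OmegaSh.IsUnivThickening h i p := by
  letI := h.appTop.hom.toAlgebra
  haveI : Algebra.FormallyUnramified Γ(X, ⊤) Γ(Z, ⊤) := hfu
  let R := CommRingCat.of (UnivTh94.Thick Γ(X, ⊤) Γ(Z, ⊤))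
  let eP := Scheme.ΓSpecIso R
  have hr : RingUniv h.appTop.hom _ _ :=
    (ringUniv_thick Γ(X, ⊤) Γ(Z, ⊤)).congr_equiv eP.symm.commRingCatIsoToRingEquiv
  obtain ⟨p, hp⟩ := exists_hom_appTop (Spec R) (X := X) (CommRingCat.ofHom
    (eP.symm.commRingCatIsoToRingEquiv.toRingHom.comp (algebraMap Γ(X, ⊤) (UnivTh94.Thick Γ(X, ⊤) Γ(Z, ⊤)))))
  obtain ⟨i, hi⟩ := exists_hom_appTop Z (X := Spec R) (CommRingCat.ofHom
    ((UnivTh94.proj Γ(X, ⊤) Γ(Z, ⊤)).toRingHom.comp eP.symm.commRingCatIsoToRingEquiv.symm.toRingHom))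
  refine ⟨Spec R, inferInstance, i, p, univ_of_ringUniv (ext_of_isAffine ?_) ?_⟩
  · rw [Scheme.Hom.comp_appTop, hi, hp]
    exact CommRingCat.hom_ext hr.comp
  · rw [hi, hp]
    exact hr

namespace UnivExists

variable (h : Z ⟶ X) [FormallyUnramified h]

/-- Affine opens of the source mapping into an affine open of the target. -/
abbrev Idx : Type u := {V : Z.Opens // IsAffineOpen V ∧ ∃ U : X.affineOpens, V ≤ h ⁻¹ᵁ U.1}

omit [FormallyUnramified h] in
theorem exists_idx_le {O : Z.Opens} {z : Z} (hz : z ∈ O) : ∃ V : Idx h, z ∈ V.1 ∧ V.1 ≤ O := by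
  obtain ⟨_, ⟨U, hU, rfl⟩, hzU, -⟩ := X.isBasis_affineOpens.exists_subset_of_mem_open
    (show h z ∈ (⊤ : X.Opens) from trivial) (⊤ : X.Opens).isOpen
  obtain ⟨_, ⟨V, hV, rfl⟩, hzV, hle⟩ := Z.isBasis_affineOpens.exists_subset_of_mem_open
    (show z ∈ O ⊓ h ⁻¹ᵁ U from ⟨hz, hzU⟩) (O ⊓ h ⁻¹ᵁ U).isOpen
  exact ⟨⟨V, hV, ⟨U, hU⟩, hle.trans inf_le_right⟩, hzV, hle.trans inf_le_left⟩

theorem exists_piece (V : Idx h) :
    ∃ (P : Scheme.{u}) (_ : IsAffine P) (i : (V.1 : Scheme.{u}) ⟶ P) (p : P ⟶ X),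
      OmegaSh.IsUnivThickening (V.1.ι ≫ h) i p := by
  obtain ⟨U, hVU⟩ := V.2.2
  haveI : IsAffine (V.1 : Scheme.{u}) := V.2.1
  haveI : IsAffine (U.1 : Scheme.{u}) := U.2
  have hfu : (h.resLE U.1 V.1 hVU).appTop.hom.FormallyUnramified :=
    (RingHom.FormallyUnramified.respectsIso.arrow_mk_iso_iff (arrowResLEAppIso h U.1 V.1 hVU)).2
      (h.formallyUnramified_appLE U.2 V.2.1 hVU)
  obtain ⟨P, hP, i, p, hu⟩ := exists_univ_affine _ hfu
  refine ⟨P, hP, i, p ≫ U.1.ι, ?_⟩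
  have := univ_target_open U.1.ι hu
  rwa [Scheme.Hom.resLE_comp_ι] at this

/-- The local thickening. -/
noncomputable def piece (V : Idx h) : Scheme.{u} := (exists_piece h V).choose

instance (V : Idx h) : IsAffine (piece h V) := (exists_piece h V).choose_spec.choose

/-- The inclusion into the local thickening. -/
noncomputable def inI (V : Idx h) : (V.1 : Scheme.{u}) ⟶ piece h V :=
  (exists_piece h V).choose_spec.choose_spec.choose

/-- The map of the local thickening to the target. -/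
noncomputable def toX (V : Idx h) : piece h V ⟶ X :=
  (exists_piece h V).choose_spec.choose_spec.choose_spec.choose

theorem univ_piece (V : Idx h) : OmegaSh.IsUnivThickening (V.1.ι ≫ h) (inI h V) (toX h V) :=
  (exists_piece h V).choose_spec.choose_spec.choose_spec.choose_spec

variable {h}

theorem existsUnique_tr {V V' : Idx h} (hle : V.1 ≤ V'.1) :
    ∃! t : piece h V ⟶ piece h V',
      inI h V ≫ t = Z.homOfLE hle ≫ inI h V' ∧ t ≫ toX h V' = toX h V :=
  (univ_piece h V').2.2 _ _ (inI h V) (toX h V) (Z.homOfLE hle) (univ_piece h V).1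
    (by rw [(univ_piece h V).2.1, Scheme.homOfLE_ι_assoc])

/-- The transition map. -/
noncomputable def tr {V V' : Idx h} (hle : V.1 ≤ V'.1) : piece h V ⟶ piece h V' :=
  (existsUnique_tr hle).choose

theorem inI_tr {V V' : Idx h} (hle : V.1 ≤ V'.1) : inI h V ≫ tr hle = Z.homOfLE hle ≫ inI h V' :=
  (existsUnique_tr hle).choose_spec.1.1

theorem tr_toX {V V' : Idx h} (hle : V.1 ≤ V'.1) : tr hle ≫ toX h V' = toX h V :=
  (existsUnique_tr hle).choose_spec.1.2

theorem tr_unique {V V' : Idx h} (hle : V.1 ≤ V'.1) (t : piece h V ⟶ piece h V')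
    (h1 : inI h V ≫ t = Z.homOfLE hle ≫ inI h V') (h2 : t ≫ toX h V' = toX h V) : t = tr hle :=
  (existsUnique_tr hle).unique ⟨h1, h2⟩ (existsUnique_tr hle).choose_spec.1

theorem isOpenImmersion_tr {V V' : Idx h} (hle : V.1 ≤ V'.1) : IsOpenImmersion (tr hle) := by
  haveI := (univ_piece h V').1.1.1
  haveI := (univ_piece h V').1.1.2
  let o := Z.homOfLE hle
  obtain ⟨W, hW⟩ := VarGal.exists_opens (inI h V') o.opensRange
  have hr : Set.range (o ≫ inI h V') ⊆ Set.range W.ι := by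
    rintro _ ⟨z, rfl⟩
    rw [Scheme.Opens.range_ι]
    exact (SetLike.ext_iff.1 hW (o z)).2 ⟨z, rfl⟩
  have hu := univ_source_open (univ_piece h V') o W hW (IsOpenImmersion.lift W.ι _ hr)
    (IsOpenImmersion.lift_fac _ _ _)
  rw [show o ≫ V'.1.ι ≫ h = V.1.ι ≫ h from Scheme.homOfLE_ι_assoc _ _ _] at hu
  obtain ⟨φ, hφ1, hφ2⟩ := univ_iso (univ_piece h V) hu
  have : φ.hom ≫ W.ι = tr hle := tr_unique hle _ (by rw [reassoc_of% hφ1, IsOpenImmersion.lift_fac])
    (by rw [Category.assoc, hφ2])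
  rw [← this]
  infer_instance

variable (h)

/-- The diagram of local thickenings. -/
noncomputable def diag : Idx h ⥤ Scheme.{u} where
  obj := piece h
  map f := tr (leOfHom f)
  map_id V := (tr_unique (V := V) (V' := V) le_rfl (𝟙 _) (by simp) (by simp)).symm
  map_comp {U V W} f g := (tr_unique _ _ (by
    rw [reassoc_of% (inI_tr (h := h) (leOfHom f)), inI_tr, Scheme.homOfLE_homOfLE_assoc])
    (by rw [Category.assoc, tr_toX, tr_toX])).symm

instance {U V : Idx h} (f : U ⟶ V) : IsOpenImmersion ((diag h).map f) := isOpenImmersion_tr _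

theorem inI_surjective (V : Idx h) (x : piece h V) : ∃ z, inI h V z = x := (univ_piece h V).1.1.2.surj x

theorem inI_injective (V : Idx h) : Function.Injective (inI h V) :=
  haveI := (univ_piece h V).1.1.1
  (inI h V).isEmbedding.injective

theorem tr_apply {U V : Idx h} (hle : U.1 ≤ V.1) (z : (U.1 : Scheme.{u})) :
    tr hle (inI h U z) = inI h V (Z.homOfLE hle z) := by
  rw [← Scheme.Hom.comp_apply, inI_tr]; rfl

theorem val_homOfLE {U V : Z.Opens} (hle : U ≤ V) (z : (U : Scheme.{u})) :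
    V.ι (Z.homOfLE hle z) = U.ι z := by
  rw [← Scheme.Hom.comp_apply, Scheme.homOfLE_ι]

instance : (diag h ⋙ Scheme.forget).IsLocallyDirected where
  cond {a b k} fa fb xa xb e := by
    change tr (leOfHom fa) xa = tr (leOfHom fb) xb at e
    obtain ⟨za, rfl⟩ := inI_surjective h a xa
    obtain ⟨zb, rfl⟩ := inI_surjective h b xb
    rw [tr_apply, tr_apply] at e
    have e' : a.1.ι za = b.1.ι zb := by
      rw [← val_homOfLE (leOfHom fa) za, ← val_homOfLE (leOfHom fb) zb, inI_injective h k e]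
    obtain ⟨c, hzc, hc⟩ := exists_idx_le h (O := a.1 ⊓ b.1) (z := a.1.ι za) ⟨za.2, e' ▸ zb.2⟩
    refine ⟨c, homOfLE (show c ≤ a from hc.trans inf_le_left), homOfLE (show c ≤ b from hc.trans inf_le_right),
      inI h c ⟨a.1.ι za, hzc⟩, ?_, ?_⟩
    · change tr _ (inI h c _) = _
      rw [tr_apply]
      congr 1
      exact a.1.ι.isOpenEmbedding.injective (val_homOfLE _ _)
    · change tr _ (inI h c _) = _
      rw [tr_apply]
      congr 1
      exact b.1.ι.isOpenEmbedding.injective ((val_homOfLE _ _).trans e')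

/-- The glued thickening. -/
noncomputable def glued : Scheme.{u} := colimit (diag h)

/-- A local thickening inside the glued one. -/
noncomputable def inP (V : Idx h) : piece h V ⟶ glued h := colimit.ι (diag h) V

instance (V : Idx h) : IsOpenImmersion (inP h V) :=
  inferInstanceAs (IsOpenImmersion (colimit.ι (diag h) V))

theorem tr_inP {U V : Idx h} (hle : U.1 ≤ V.1) : tr hle ≫ inP h V = inP h U :=
  colimit.w (diag h) (homOfLE (show U ≤ V from hle))

/-- The map of the glued thickening to the target. -/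
noncomputable def gluedToX : glued h ⟶ X :=
  colimit.desc (diag h)
    { pt := X
      ι := { app := fun V => toX h V
             naturality := fun U V f => (tr_toX (leOfHom f)).trans (Category.comp_id _).symm } }

theorem inP_gluedToX (V : Idx h) : inP h V ≫ gluedToX h = toX h V := colimit.ι_desc _ _

/-- The cover of the source. -/
noncomputable def srcCover : Z.OpenCover :=
  Z.openCoverOfIsOpenCover (fun V : Idx h => V.1) (IsOpenCover.mk (top_le_iff.1 fun z _ => by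
    obtain ⟨V, hV, -⟩ := exists_idx_le h (O := (⊤ : Z.Opens)) (z := z) trivial
    exact Opens.mem_iSup.2 ⟨V, hV⟩))

/-- The inclusion of the source on a piece. -/
noncomputable def srcMap (V : Idx h) : (V.1 : Scheme.{u}) ⟶ glued h := inI h V ≫ inP h V

theorem homOfLE_srcMap {U V : Idx h} (hle : U.1 ≤ V.1) : Z.homOfLE hle ≫ srcMap h V = srcMap h U := by
  rw [srcMap, ← reassoc_of% (inI_tr (h := h) hle), tr_inP]
  rfl

theorem exists_incl : ∃ i : Z ⟶ glued h, ∀ V : Idx h, V.1.ι ≫ i = srcMap h V := by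
  have hinf : ∀ V W : Idx h, Z.homOfLE (inf_le_left : V.1 ⊓ W.1 ≤ V.1) ≫ srcMap h V =
      Z.homOfLE (inf_le_right : V.1 ⊓ W.1 ≤ W.1) ≫ srcMap h W := by
    intro V W
    refine Scheme.hom_ext_of_forall _ _ fun z => ?_
    obtain ⟨C, hzC, hC⟩ := exists_idx_le h (O := V.1 ⊓ W.1) (z := (V.1 ⊓ W.1).ι z) z.2
    let O : ((V.1 ⊓ W.1 : Z.Opens) : Scheme.{u}).Opens := (Z.homOfLE hC).opensRange
    refine ⟨O, ⟨⟨_, hzC⟩, (V.1 ⊓ W.1).ι.isOpenEmbedding.injective (val_homOfLE hC _)⟩, ?_⟩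
    rw [← cancel_epi (Z.homOfLE hC).isoOpensRange.hom, Scheme.Hom.isoOpensRange_hom_ι_assoc,
      Scheme.Hom.isoOpensRange_hom_ι_assoc, Scheme.homOfLE_homOfLE_assoc, Scheme.homOfLE_homOfLE_assoc,
      homOfLE_srcMap, homOfLE_srcMap]
  have hcomp : ∀ V W : Idx h, pullback.fst ((srcCover h).f V) ((srcCover h).f W) ≫ srcMap h V =
      pullback.snd ((srcCover h).f V) ((srcCover h).f W) ≫ srcMap h W := by
    intro V W
    let p := IsOpenImmersion.lift (V.1 ⊓ W.1).ι (pullback.fst ((srcCover h).f V) ((srcCover h).f W) ≫ V.1.ι) (by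
      rintro _ ⟨x, rfl⟩
      rw [Scheme.Opens.range_ι]
      refine ⟨(pullback.fst ((srcCover h).f V) ((srcCover h).f W) x).2, ?_⟩
      have : (pullback.fst ((srcCover h).f V) ((srcCover h).f W) ≫ V.1.ι) x =
          (pullback.snd ((srcCover h).f V) ((srcCover h).f W) ≫ W.1.ι) x :=
        congr($(pullback.condition (f := (srcCover h).f V) (g := (srcCover h).f W)) x)
      rw [this]
      exact (pullback.snd ((srcCover h).f V) ((srcCover h).f W) x).2)
    have e1 : pullback.fst ((srcCover h).f V) ((srcCover h).f W) = p ≫ Z.homOfLE inf_le_left := by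
      rw [← cancel_mono V.1.ι, Category.assoc, Scheme.homOfLE_ι]
      exact (IsOpenImmersion.lift_fac _ _ _).symm
    have e2 : pullback.snd ((srcCover h).f V) ((srcCover h).f W) = p ≫ Z.homOfLE inf_le_right := by
      rw [← cancel_mono W.1.ι, Category.assoc, Scheme.homOfLE_ι]
      exact (pullback.condition (f := (srcCover h).f V) (g := (srcCover h).f W)).symm.trans
        (IsOpenImmersion.lift_fac _ _ _).symm
    rw [e1, e2, Category.assoc, Category.assoc, hinf]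
  exact ⟨(srcCover h).glueMorphisms (srcMap h) hcomp, fun V => (srcCover h).ι_glueMorphisms _ _ V⟩

/-- The inclusion of the source in the glued thickening. -/
noncomputable def incl : Z ⟶ glued h := (exists_incl h).choose

theorem ι_incl (V : Idx h) : V.1.ι ≫ incl h = inI h V ≫ inP h V := (exists_incl h).choose_spec V

theorem preimage_opensRange (V : Idx h) : incl h ⁻¹ᵁ (inP h V).opensRange = V.1 := by
  ext z
  constructor
  · rintro ⟨x, hx⟩
    obtain ⟨W, hzW, -⟩ := exists_idx_le h (O := (⊤ : Z.Opens)) (z := z) trivial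
    have hW : incl h z = inP h W (inI h W ⟨z, hzW⟩) := congr($(ι_incl h W) ⟨z, hzW⟩)
    obtain ⟨k, fV, fW, y, hyV, hyW⟩ := (Scheme.IsLocallyDirected.ι_eq_ι_iff (diag h)).1
      (show colimit.ι (diag h) V x = colimit.ι (diag h) W (inI h W ⟨z, hzW⟩) from hx.trans hW)
    obtain ⟨w, rfl⟩ := inI_surjective h k y
    change tr (leOfHom fW) (inI h k w) = _ at hyW
    rw [tr_apply] at hyW
    have hw : W.1.ι (Z.homOfLE (leOfHom fW) w) = z := by rw [inI_injective h W hyW]; rfl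
    rw [val_homOfLE] at hw
    exact hw ▸ leOfHom fV w.2
  · intro hz
    exact ⟨inI h V ⟨z, hz⟩, (congr($(ι_incl h V) ⟨z, hz⟩)).symm⟩

theorem isPullback_incl (V : Idx h) : IsPullback (inI h V) V.1.ι (inP h V) (incl h) :=
  IsOpenImmersion.isPullback _ _ _ _ (ι_incl h V)
    (by rw [preimage_opensRange, Scheme.Opens.opensRange_ι])

theorem fot_incl : IsFirstOrderThickening (incl h) := by
  let 𝒰c := Scheme.IsLocallyDirected.openCover (diag h)
  have hP : ∀ (P : MorphismProperty Scheme.{u}) [IsZariskiLocalAtTarget P],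
      (∀ V, P (inI h V)) → P (incl h) := by
    intro P _ hV
    refine IsZariskiLocalAtTarget.of_openCover (P := P) 𝒰c fun V => ?_
    have e := (isPullback_incl h V).flip
    have : 𝒰c.pullbackHom (incl h) V = e.isoPullback.inv ≫ inI h V := (e.isoPullback_inv_snd).symm
    rw [this]
    exact (P.cancel_left_of_respectsIso _ _).2 (hV V)
  haveI hci : IsClosedImmersion (incl h) := hP @IsClosedImmersion fun V => (univ_piece h V).1.1.1
  refine ⟨⟨hci, hP @Surjective fun V => (univ_piece h V).1.1.2⟩, ?_⟩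
  refine Scheme.IdealSheafData.ext_of_iSup_eq_top
    (fun V : Idx h => ⟨(inP h V).opensRange, isAffineOpen_opensRange (inP h V)⟩) ?_ fun V => ?_
  · refine top_le_iff.1 fun x _ => ?_
    obtain ⟨V, y, hy⟩ := Scheme.IsLocallyDirected.ι_jointly_surjective (diag h) x
    exact Opens.mem_iSup.2 ⟨V, y, hy⟩
  · have hk : ((incl h).ker * (incl h).ker).comap (inP h V) = ⊥ := by
      rw [MP99.comap_mul, ← An92.FSch.comap_ker_of_isPullback (isPullback_incl h V)]
      exact (univ_piece h V).1.2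
    have h2 : ∀ (U : (glued h).affineOpens), U.1 = (inP h V).opensRange →
        ((incl h).ker * (incl h).ker).ideal U = (⊥ : (glued h).IdealSheafData).ideal U := by
      rintro U hU
      have h1 := Scheme.IdealSheafData.ideal_comap_of_isOpenImmersion ((incl h).ker * (incl h).ker) (inP h V)
        ⟨⊤, isAffineOpen_top _⟩
      rw [hk] at h1
      simp only [Scheme.IdealSheafData.ideal_bot, Pi.bot_apply] at h1 ⊢
      have hU' : U = ⟨inP h V ''ᵁ ⊤, (isAffineOpen_top _).image_of_isOpenImmersion _⟩ :=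
        Subtype.ext (by rw [hU]; exact (Scheme.Hom.image_top_eq_opensRange _).symm)
      subst hU'
      have hb := ConcreteCategory.bijective_of_isIso ((inP h V).appIso ⊤).inv
      refine le_antisymm (fun y hy => ?_) bot_le
      obtain ⟨z, rfl⟩ := hb.2 y
      rw [Ideal.mem_bot, (Ideal.mem_bot.1 (h1.ge hy) : z = 0), map_zero]
    exact h2 _ rfl

theorem incl_gluedToX : incl h ≫ gluedToX h = h := by
  refine Scheme.Cover.hom_ext (srcCover h) _ _ fun V => ?_
  show V.1.ι ≫ incl h ≫ gluedToX h = V.1.ι ≫ h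
  rw [reassoc_of% ι_incl, inP_gluedToX, (univ_piece h V).2.1]

variable {h}

theorem lift_unique {T T' : Scheme.{u}} {j : T ⟶ T'} (hj : IsFirstOrderThickening j) {a : T ⟶ Z}
    {c₁ c₂ : T' ⟶ glued h} (h₁ : j ≫ c₁ = a ≫ incl h) (h₂ : j ≫ c₂ = a ≫ incl h)
    (e : c₁ ≫ gluedToX h = c₂ ≫ gluedToX h) : c₁ = c₂ := by
  refine Scheme.hom_ext_of_forall _ _ fun x => ?_
  obtain ⟨q, rfl⟩ := hj.1.2.surj x
  obtain ⟨V, hV, -⟩ := exists_idx_le h (O := (⊤ : Z.Opens)) (z := a q) trivial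
  let W := c₁ ⁻¹ᵁ (inP h V).opensRange
  have hq : j q ∈ W := by
    show c₁ (j q) ∈ (inP h V).opensRange
    rw [← Scheme.Hom.comp_apply, h₁, Scheme.Hom.comp_apply]
    exact (SetLike.ext_iff.1 (preimage_opensRange h V) (a q)).2 hV
  refine ⟨W, hq, ?_⟩
  have hpre : ∀ p, j p ∈ W → a p ∈ V.1 := fun p hp => by
    rw [← SetLike.mem_coe, ← preimage_opensRange h V]
    show incl h (a p) ∈ (inP h V).opensRange
    rw [← Scheme.Hom.comp_apply, ← h₁]
    exact hp
  have hWT := fot_of_isPullback (isPullback_morphismRestrict j W) hj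
  let aW : ((j ⁻¹ᵁ W : T.Opens) : Scheme.{u}) ⟶ V.1 := IsOpenImmersion.lift V.1.ι ((j ⁻¹ᵁ W).ι ≫ a) (by
    rintro _ ⟨p, rfl⟩
    rw [Scheme.Opens.range_ι]
    exact hpre _ p.2)
  have haW : aW ≫ V.1.ι = (j ⁻¹ᵁ W).ι ≫ a := IsOpenImmersion.lift_fac _ _ _
  have key : ∀ c : T' ⟶ glued h, j ≫ c = a ≫ incl h →
      ∃ d : (W : Scheme.{u}) ⟶ piece h V, d ≫ inP h V = W.ι ≫ c ∧
        ((j ∣_ W) ≫ d = aW ≫ inI h V ∧ d ≫ toX h V = W.ι ≫ c ≫ gluedToX h) := by
    intro c hc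
    have hloc : (j ∣_ W) ≫ W.ι ≫ c = (aW ≫ inI h V) ≫ inP h V := by
      rw [morphismRestrict_ι_assoc, hc, Category.assoc, ← ι_incl, reassoc_of% haW]
    have hr := range_subset_of_thickening hWT (inP h V) (W.ι ≫ c) _ hloc
    refine ⟨IsOpenImmersion.lift (inP h V) (W.ι ≫ c) hr, IsOpenImmersion.lift_fac _ _ _, ?_, ?_⟩
    · rw [← cancel_mono (inP h V), Category.assoc, IsOpenImmersion.lift_fac, hloc]
    · rw [← inP_gluedToX, IsOpenImmersion.lift_fac_assoc, Category.assoc]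
  obtain ⟨d₁, hd₁, hd₁'⟩ := key c₁ h₁
  obtain ⟨d₂, hd₂, hd₂'⟩ := key c₂ h₂
  rw [← hd₁, ← hd₂]
  congr 1
  have hb : (j ∣_ W) ≫ W.ι ≫ c₁ ≫ gluedToX h = aW ≫ V.1.ι ≫ h := by
    rw [morphismRestrict_ι_assoc, reassoc_of% h₁, incl_gluedToX, reassoc_of% haW]
  exact ((univ_piece h V).2.2 _ _ (j ∣_ W) (W.ι ≫ c₁ ≫ gluedToX h) aW hWT hb).unique hd₁'
    ⟨hd₂'.1, by rw [hd₂'.2, e]⟩

theorem exists_lift {T T' : Scheme.{u}} {j : T ⟶ T'} (hj : IsFirstOrderThickening j) {a : T ⟶ Z}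
    {b : T' ⟶ X} (hab : j ≫ b = a ≫ h) : ∃ c : T' ⟶ glued h, j ≫ c = a ≫ incl h ∧ c ≫ gluedToX h = b := by
  haveI := hj.1.1
  haveI := hj.1.2
  choose W hW using fun V : Idx h => VarGal.exists_opens j (a ⁻¹ᵁ V.1)
  have hcov : IsOpenCover W := IsOpenCover.mk (top_le_iff.1 fun x _ => by
    obtain ⟨q, rfl⟩ := j.surjective x
    obtain ⟨V, hV, -⟩ := exists_idx_le h (O := (⊤ : Z.Opens)) (z := a q) trivial
    exact Opens.mem_iSup.2 ⟨V, (SetLike.ext_iff.1 (hW V) q).2 hV⟩)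
  have hWT : ∀ O : T'.Opens, IsFirstOrderThickening (j ∣_ O) := fun O =>
    fot_of_isPullback (isPullback_morphismRestrict j O) hj
  have hex : ∀ V : Idx h, ∃ g : (W V : Scheme.{u}) ⟶ glued h,
      (j ∣_ W V) ≫ g = ((j ⁻¹ᵁ W V).ι ≫ a) ≫ incl h ∧ g ≫ gluedToX h = (W V).ι ≫ b := by
    intro V
    let aW : ((j ⁻¹ᵁ W V : T.Opens) : Scheme.{u}) ⟶ V.1 := IsOpenImmersion.lift V.1.ι ((j ⁻¹ᵁ W V).ι ≫ a) (by
      rintro _ ⟨p, rfl⟩
      rw [Scheme.Opens.range_ι]
      exact (SetLike.ext_iff.1 (hW V) _).1 p.2)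
    have haW : aW ≫ V.1.ι = (j ⁻¹ᵁ W V).ι ≫ a := IsOpenImmersion.lift_fac _ _ _
    obtain ⟨d, ⟨h1, h2⟩, -⟩ := (univ_piece h V).2.2 _ _ (j ∣_ W V) ((W V).ι ≫ b) aW (hWT _) (by
      rw [morphismRestrict_ι_assoc, hab, reassoc_of% haW])
    refine ⟨d ≫ inP h V, ?_, by rw [Category.assoc, inP_gluedToX, h2]⟩
    rw [reassoc_of% h1, ← ι_incl, reassoc_of% haW, Category.assoc]
  choose g hg hg' using hex
  let 𝒲 : T'.OpenCover := T'.openCoverOfIsOpenCover W hcov
  have hrestr : ∀ (V : Idx h) (O : T'.Opens) (hle : O ≤ W V),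
      (j ∣_ O) ≫ T'.homOfLE hle ≫ g V = ((j ⁻¹ᵁ O).ι ≫ a) ≫ incl h ∧
        (T'.homOfLE hle ≫ g V) ≫ gluedToX h = O.ι ≫ b := by
    intro V O hle
    refine ⟨?_, by rw [Category.assoc, hg', Scheme.homOfLE_ι_assoc]⟩
    have e : (j ∣_ O) ≫ T'.homOfLE hle = T.homOfLE (j.preimage_mono hle) ≫ (j ∣_ W V) := by
      rw [← cancel_mono (W V).ι]
      simp [morphismRestrict_ι]
    rw [reassoc_of% e, hg]
    simp
  have hinf : ∀ V V' : Idx h, T'.homOfLE (inf_le_left : W V ⊓ W V' ≤ W V) ≫ g V =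
      T'.homOfLE (inf_le_right : W V ⊓ W V' ≤ W V') ≫ g V' := fun V V' =>
    lift_unique (hWT _) (hrestr V _ inf_le_left).1 (hrestr V' _ inf_le_right).1
      ((hrestr V _ inf_le_left).2.trans (hrestr V' _ inf_le_right).2.symm)
  have hcomp : ∀ V V' : Idx h, pullback.fst (𝒲.f V) (𝒲.f V') ≫ g V =
      pullback.snd (𝒲.f V) (𝒲.f V') ≫ g V' := by
    intro V V'
    let p := IsOpenImmersion.lift (W V ⊓ W V').ι (pullback.fst (𝒲.f V) (𝒲.f V') ≫ (W V).ι) (by
      rintro _ ⟨x, rfl⟩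
      rw [Scheme.Opens.range_ι]
      refine ⟨(pullback.fst (𝒲.f V) (𝒲.f V') x).2, ?_⟩
      have : (pullback.fst (𝒲.f V) (𝒲.f V') ≫ (W V).ι) x = (pullback.snd (𝒲.f V) (𝒲.f V') ≫ (W V').ι) x :=
        congr($(pullback.condition (f := 𝒲.f V) (g := 𝒲.f V')) x)
      rw [this]
      exact (pullback.snd (𝒲.f V) (𝒲.f V') x).2)
    have e1 : pullback.fst (𝒲.f V) (𝒲.f V') = p ≫ T'.homOfLE inf_le_left := by
      rw [← cancel_mono (W V).ι, Category.assoc, Scheme.homOfLE_ι]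
      exact (IsOpenImmersion.lift_fac _ _ _).symm
    have e2 : pullback.snd (𝒲.f V) (𝒲.f V') = p ≫ T'.homOfLE inf_le_right := by
      rw [← cancel_mono (W V').ι, Category.assoc, Scheme.homOfLE_ι]
      exact (pullback.condition (f := 𝒲.f V) (g := 𝒲.f V')).symm.trans (IsOpenImmersion.lift_fac _ _ _).symm
    rw [e1, e2, Category.assoc, Category.assoc, hinf]
  let c := 𝒲.glueMorphisms g hcomp
  have hc : ∀ V, (W V).ι ≫ c = g V := fun V => 𝒲.ι_glueMorphisms g hcomp V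
  refine ⟨c, ?_, ?_⟩
  · refine Scheme.Cover.hom_ext (T.openCoverOfIsOpenCover (fun V => j ⁻¹ᵁ W V)
      (IsOpenCover.mk (by rw [← Scheme.Hom.preimage_iSup, hcov.iSup_eq_top]; rfl))) _ _ fun V => ?_
    show (j ⁻¹ᵁ W V).ι ≫ j ≫ c = _
    rw [← morphismRestrict_ι_assoc, hc, hg, Category.assoc]
    rfl
  · refine Scheme.Cover.hom_ext 𝒲 _ _ fun V => ?_
    show (W V).ι ≫ c ≫ gluedToX h = (W V).ι ≫ b
    rw [reassoc_of% hc, hg']

variable (h)

theorem univ_glued : OmegaSh.IsUnivThickening h (incl h) (gluedToX h) := by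
  refine ⟨fot_incl h, incl_gluedToX h, fun T T' j b a hj hab => ?_⟩
  obtain ⟨c, hc, hc'⟩ := exists_lift hj hab
  exact ⟨c, ⟨hc, hc'⟩, fun d hd => lift_unique hj hd.1 hc (hd.2.trans hc'.symm)⟩

end UnivExists

theorem exists_univ (h : Z ⟶ X) [FormallyUnramified h] :
    ∃ (Z' : Scheme.{u}) (i : Z ⟶ Z') (h' : Z' ⟶ X), OmegaSh.IsUnivThickening h i h' :=
  ⟨_, _, _, UnivExists.univ_glued h⟩

end Groth.Agent.Om3
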