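import Mathlib.RingTheory.Kaehler.Basic
import Mathlib.LinearAlgebra.Pi
import Mathlib.Algebra.TrivSqZeroExt.Basic

/-! The ring level Euler sequence, from the lifting property of unimodular rows. -/

set_option autoImplicit false

universe u

open KaehlerDifferential

noncomputable section

namespace Groth.Agent.Om3.Euler

variable {R B : Type u} [CommRing R] [CommRing B] [Algebra R B] {N : ℕ} (a : Fin N → B)

/-- Derivations correspond to deformations of the row `a` up to scalars. -/
def Lifts (R : Type u) {B : Type u} [CommRing R] [CommRing B] [Algebra R B] {N : ℕ} (a : Fin N → B) : Prop :=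
  (∀ (M : Type u) [AddCommGroup M] [Module B M] [Module R M] [IsScalarTower R B M]
    (m : Fin N → M), ∃ (D : Derivation R B M) (r : M), ∀ k, D (a k) = m k + a k • r) ∧
  ∀ (M : Type u) [AddCommGroup M] [Module B M] [Module R M] [IsScalarTower R B M]
    (D : Derivation R B M) (r : M), (∀ k, D (a k) = a k • r) → D = 0

/-- The kernel of the row. -/
def rowKer : Submodule B (Fin N → B) := LinearMap.ker (Fintype.linearCombination B a)

theorem mem_rowKer (b : Fin N → B) : b ∈ rowKer a ↔ ∑ k, b k * a k = 0 := by
  rw [rowKer, LinearMap.mem_ker, Fintype.linearCombination_apply]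
  simp only [smul_eq_mul]

/-- The comparison map. -/
def eulerMap : (Fin N → B) →ₗ[B] Ω[B⁄R] := Fintype.linearCombination B fun k => D R B (a k)

theorem eulerMap_apply (b : Fin N → B) : eulerMap (R := R) a b = ∑ k, b k • D R B (a k) :=
  Fintype.linearCombination_apply B _ _

theorem eq_zero_of_comp [DecidableEq (Fin N)] (c : Fin N → B) (h : Lifts R a) {Q : Type u} [AddCommGroup Q] [Module B Q] [Module R Q]
    [IsScalarTower R B Q] (π : Ω[B⁄R] →ₗ[B] Q) (e : Fin N → rowKer a)
    (he : ∀ k, (e k).1 = Pi.single k 1 - a k • c)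
    (h2 : ∀ k, π (eulerMap (R := R) a (e k).1) = 0) : π = 0 := by
  have h0 : π.compDer (D R B) = 0 := h.2 Q _ (π (∑ j, c j • D R B (a j))) fun k => by
    have h3 : eulerMap (R := R) a (e k).1 = D R B (a k) - a k • ∑ j, c j • D R B (a j) := by
      rw [he, map_sub, map_smul, eulerMap_apply a c, eulerMap, Fintype.linearCombination_apply_single, one_smul]
    have h4 := h2 k
    rw [h3, map_sub, sub_eq_zero, map_smul] at h4
    exact h4
  refine LinearMap.ext_on (span_range_derivation R B) ?_
  rintro _ ⟨x, rfl⟩
  exact congr($h0 x)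

theorem bijective_eulerMap (c : Fin N → B) (hc : ∑ k, c k * a k = 1) (h : Lifts R a) :
    Function.Bijective ((eulerMap (R := R) a).comp (rowKer a).subtype) := by
  classical
  let Ψ := (eulerMap (R := R) a).comp (rowKer a).subtype
  have hmem : ∀ k, Pi.single k 1 - a k • c ∈ rowKer a := fun k => by
    rw [rowKer, LinearMap.mem_ker, map_sub, map_smul, Fintype.linearCombination_apply_single,
      Fintype.linearCombination_apply, one_smul]
    simp only [smul_eq_mul]
    rw [hc, mul_one, sub_self]
  let e : Fin N → rowKer a := fun k => ⟨_, hmem k⟩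
  have he : ∀ b : rowKer a, ∑ k, b.1 k • e k = b := fun b => Subtype.ext <| by
    rw [Submodule.coe_sum]
    have hb := (mem_rowKer a b.1).1 b.2
    show ∑ k, b.1 k • (Pi.single k 1 - a k • c) = b.1
    simp only [smul_sub, Finset.sum_sub_distrib, smul_smul, ← Finset.sum_smul, hb, zero_smul, sub_zero]
    funext j
    simp [Finset.sum_apply, Pi.single_apply]
  constructor
  · obtain ⟨D₀, r, hD⟩ := h.1 (rowKer a) e
    rw [injective_iff_map_eq_zero]
    intro b hb
    have h1 : D₀.liftKaehlerDifferential (Ψ b) = b := by
      show D₀.liftKaehlerDifferential (eulerMap a b.1) = b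
      rw [eulerMap_apply, map_sum]
      simp only [map_smul, Derivation.liftKaehlerDifferential_comp_D, hD, smul_add, smul_smul,
        Finset.sum_add_distrib, ← Finset.sum_smul, (mem_rowKer a b.1).1 b.2, zero_smul, add_zero]
      exact he b
    rw [← h1]
    show D₀.liftKaehlerDifferential (((eulerMap (R := R) a).comp (rowKer a).subtype) b) = 0
    rw [hb, map_zero]
  · rw [← LinearMap.range_eq_top, eq_top_iff]
    intro x _
    refine (Submodule.Quotient.mk_eq_zero _).1 ?_
    exact congr($(eq_zero_of_comp a c h ((LinearMap.range Ψ).mkQ) e (fun k => rfl) fun k =>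
      (Submodule.Quotient.mk_eq_zero _).2 ⟨e k, rfl⟩) x)

end Groth.Agent.Om3.Euler
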