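import Groth.Agent.SchBasics.PullSpan
import Groth.Agent.QC70.Closure
import Groth.Agent.EGA73.GammaStarIso
import Groth.Agent.Props58.PullTensor
import Groth.Agent.Props58.LocFree.Affine
import Groth.Agent.Var76.LineBundle
import Groth.Agent.Om3.EulerAlg
import Groth.Prelude.Def_KRR

/-! Classifying maps to a projective bundle in a chart, by rows of functions. -/

set_option autoImplicit false
set_option backward.isDefEq.respectTransparency.types false

universe u

open CategoryTheory CategoryTheory.Limits AlgebraicGeometry TopologicalSpace Opposite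

noncomputable section

namespace Groth.Agent.Om3.EulerLift

open Groth.Agent QC70

theorem isFinLocFreeOfRank_one_structureModule (T : Scheme.{u}) :
    FlatMod.IsFinLocFreeOfRank 1 (Coh.structureModule T) := fun _ =>
  ⟨⊤, trivial, ⟨Scheme.Modules.restrictUnitIso _ ≪≫
    (coproductUniqueIso fun _ : Fin 1 => Coh.structureModule ((⊤ : T.Opens) : Scheme.{u})).symm⟩⟩

theorem app_surjective_of_epi {X : Scheme.{u}} {M N : X.Modules} [M.IsQuasicoherent] [N.IsQuasicoherent]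
    (φ : M ⟶ N) [Epi φ] {U : X.Opens} (hU : IsAffineOpen U) : Function.Surjective (φ.app U) :=
  have := QC70.isQuasicoherent_kernel φ
  QC70.app_surjective_of_isAffineOpen (ShortComplex.mk (kernel.ι φ) φ (kernel.condition φ))
    { exact := ShortComplex.exact_of_f_is_kernel _ (kernelIsKernel φ) } hU

theorem res_pullS_sum {S X : Scheme.{u}} (f : X ⟶ S) (F : S.Modules) {U : S.Opens} {A : X.Opens} (h : A ≤ f ⁻¹ᵁ U)
    {n : ℕ} (r : Fin n → Γ(S, U)) (m : Fin n → Γ(F, U)) :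
    res ((Scheme.Modules.pullback f).obj F) h (Amp73.pullS f F U (∑ k, r k • m k)) =
      ∑ k, f.appLE U A h (r k) • res ((Scheme.Modules.pullback f).obj F) h (Amp73.pullS f F U (m k)) := by
  have h0 := map_sum ((((Scheme.Modules.pullbackPushforwardAdjunction f).unit.app F).app U) ≫
    ((Scheme.Modules.pullback f).obj F).presheaf.map (homOfLE h).op).hom (fun k => r k • m k) Finset.univ
  refine h0.trans (Finset.sum_congr rfl fun k _ => ?_)
  show res _ h (Amp73.pullS f F U (r k • m k)) = _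
  rw [Amp73.pullS_smul, res_smul]
  rfl

section test

variable {S P T : Scheme.{u}} {π : P ⟶ S} {F : S.Modules} [F.IsQuasicoherent] {O1 : P.Modules}
  {g : T ⟶ S} {U : S.Opens} (hU : IsAffineOpen U) {N : ℕ} (e : Module.Basis (Fin N) Γ(S, U) Γ(F, U))
  (hT : IsAffineOpen (⊤ : T.Opens)) (hgU : ⊤ ≤ g ⁻¹ᵁ U)

/-- The pullback of a section, on everything. -/
abbrev pl (g : T ⟶ S) (F : S.Modules) {U : S.Opens} (hgU : ⊤ ≤ g ⁻¹ᵁ U) (m : Γ(F, U)) :
    Γ((Scheme.Modules.pullback g).obj F, ⊤) :=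
  res ((Scheme.Modules.pullback g).obj F) hgU (Amp73.pullS g F U m)

omit [F.IsQuasicoherent] in
theorem pl_smul (r : Γ(S, U)) (m : Γ(F, U)) :
    pl g F hgU (r • m) = g.appLE U ⊤ hgU r • pl g F hgU m := by
  show res _ hgU _ = _
  rw [Amp73.pullS_smul, res_smul]
  rfl

omit [F.IsQuasicoherent] in
theorem pl_sum (r : Fin N → Γ(S, U)) (m : Fin N → Γ(F, U)) :
    pl g F hgU (∑ k, r k • m k) = ∑ k, g.appLE U ⊤ hgU (r k) • pl g F hgU (m k) :=
  res_pullS_sum g F hgU r m

include hU hT in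
/-- Maps out of the pullback are determined by the pullbacks of a basis. -/
theorem hom_ext {L : T.Modules} (s s' : (Scheme.Modules.pullback g).obj F ⟶ L)
    (h : ∀ k, s.app ⊤ (pl g F hgU (e k)) = s'.app ⊤ (pl g F hgU (e k))) : s = s' := by
  have := QCPull72.isQuasicoherent_pullback g F
  have key : (HomOn.ofHom s ⊤).app ⊤ le_rfl = (HomOn.ofHom s' ⊤).app ⊤ le_rfl := by
    refine LinearMap.ext_on (SchBasics.span_pullSect g F hT hU hgU) ?_
    rintro _ ⟨m, rfl⟩
    show s.app ⊤ (pl g F hgU m) = s'.app ⊤ (pl g F hgU m)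
    rw [← e.sum_repr m, pl_sum, map_sum, map_sum]
    refine Finset.sum_congr rfl fun k _ => ?_
    rw [Scheme.Modules.Hom.app_smul, Scheme.Modules.Hom.app_smul, h k]
  refine Scheme.Modules.hom_ext _ _ fun W => ?_
  ext x
  exact HomOn.ext_of_affine hT (isLocAt_of_isQuasicoherent _ hT) _ _ key le_top x

include hU hT in
/-- A row of functions generating the unit ideal gives a quotient. -/
theorem exists_quot (v : Fin N → Γ(T, ⊤)) (c : Fin N → Γ(T, ⊤)) (hc : ∑ k, c k * v k = 1) :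
    ∃ s : (Scheme.Modules.pullback g).obj F ⟶ Coh.structureModule T, Epi s ∧
      ∀ k, s.app ⊤ (pl g F hgU (e k)) = (v k : Γ(Coh.structureModule T, ⊤)) := by
  classical
  have := QCPull72.isQuasicoherent_pullback g F
  let gg : Γ(F, U) →+ Γ(Coh.structureModule T, ⊤) :=
    { toFun := fun m => ((∑ k, g.appLE U ⊤ hgU (e.repr m k) * v k : Γ(T, ⊤)) : Γ(Coh.structureModule T, ⊤))
      map_zero' := show (∑ k, g.appLE U ⊤ hgU (e.repr 0 k) * v k : Γ(T, ⊤)) = 0 by simp
      map_add' := fun x y => show (∑ k, g.appLE U ⊤ hgU (e.repr (x + y) k) * v k : Γ(T, ⊤)) =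
        (∑ k, g.appLE U ⊤ hgU (e.repr x k) * v k) + ∑ k, g.appLE U ⊤ hgU (e.repr y k) * v k by
          simp only [map_add, Finsupp.add_apply, add_mul, Finset.sum_add_distrib] }
  obtain ⟨l, hl⟩ := SchBasics.exists_linear_pullSect g F (Coh.structureModule T) hT hU hgU gg fun r m => by
    show (∑ k, g.appLE U ⊤ hgU (e.repr (r • m) k) * v k : Γ(T, ⊤)) =
      g.appLE U ⊤ hgU r * ∑ k, g.appLE U ⊤ hgU (e.repr m k) * v k
    simp only [map_smul, Finsupp.smul_apply, smul_eq_mul, map_mul, mul_assoc, Finset.mul_sum]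
  let s := (HomOn.ofLinear hT l).toHom
  have hs : ∀ x, s.app ⊤ x = l x := fun x => by
    show (HomOn.ofLinear hT l).app ⊤ le_rfl x = l x
    rw [HomOn.ofLinear_app_self]
  have hk : ∀ k, s.app ⊤ (pl g F hgU (e k)) = (v k : Γ(Coh.structureModule T, ⊤)) := fun k => by
    rw [hs]
    refine (hl (e k)).trans ?_
    show (∑ j, g.appLE U ⊤ hgU (e.repr (e k) j) * v j : Γ(T, ⊤)) = v k
    simp [Finsupp.single_apply, apply_ite]
  refine ⟨s, QC70.epi_of_locally_surjective s fun W t p hp => ?_, hk⟩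
  refine ⟨W, le_rfl, (show Γ(T, W) from t) • res _ le_top (∑ k, c k • pl g F hgU (e k)), hp, ?_⟩
  rw [Scheme.Modules.Hom.app_smul, QC70.app_res, map_sum]
  simp only [Scheme.Modules.Hom.app_smul, hk]
  have h1 : ∑ k, c k • (v k : Γ(Coh.structureModule T, ⊤)) = ((1 : Γ(T, ⊤)) : Γ(Coh.structureModule T, ⊤)) := hc
  refine (congrArg (fun z => (show Γ(T, W) from t) • res (Coh.structureModule T) le_top z) h1).trans ?_
  rw [res_self]
  show (show Γ(T, W) from t) * T.presheaf.map (homOfLE (le_top : W ≤ ⊤)).op (1 : Γ(T, ⊤)) = t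
  rw [map_one, mul_one]

end test

section chart

variable {S P : Scheme.{u}} {π : P ⟶ S} {F : S.Modules} [F.IsQuasicoherent] {O1 : P.Modules}
  {q : (Scheme.Modules.pullback π).obj F ⟶ O1}
  {U : S.Opens} (hU : IsAffineOpen U) {N : ℕ} (e : Module.Basis (Fin N) Γ(S, U) Γ(F, U))
  {A : P.Opens} (hA : IsAffineOpen A) (hAU : A ≤ π ⁻¹ᵁ U)
  {γ : Γ(O1, A)} (hγ : Var76.LineBundle.IsFrame O1 A γ) (a : Fin N → Γ(P, A))
  (ha : ∀ k, a k • γ = q.app A (res _ hAU (Amp73.pullS π F U (e k))))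

theorem pullbackComp_map_res {T X Y : Scheme.{u}} (f : T ⟶ X) (r : X ⟶ Y) {M : Y.Modules} {N : X.Modules}
    (b : (Scheme.Modules.pullback r).obj M ⟶ N) (V : Y.Opens) (m : Γ(M, V)) {W : T.Opens} (hW : W ≤ (f ≫ r) ⁻¹ᵁ V) :
    ((Scheme.Modules.pullback f).map b).app W
        (((Scheme.Modules.pullbackComp f r).inv.app M).app W (res _ hW (Amp73.pullS (f ≫ r) M V m))) =
      res _ (show W ≤ f ⁻¹ᵁ (r ⁻¹ᵁ V) from hW) (Amp73.pullS f N (r ⁻¹ᵁ V) (b.app (r ⁻¹ᵁ V) (Amp73.pullS r M V m))) := by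
  rw [← Amp73.map_app_pullS, ← Props58.PullTensor.pullS_comp f r M V m]
  refine (congrArg (((Scheme.Modules.pullback f).map b).app W)
    (QC70.app_res ((Scheme.Modules.pullbackComp f r).inv.app M) hW _)).trans ?_
  exact QC70.app_res ((Scheme.Modules.pullback f).map b) (U := f ⁻¹ᵁ (r ⁻¹ᵁ V)) hW _

variable (q) in
/-- The pullback of the universal quotient. -/
abbrev comp {T : Scheme.{u}} (h : T ⟶ P) {g : T ⟶ S} (hg : h ≫ π = g) :
    (Scheme.Modules.pullback g).obj F ⟶ (Scheme.Modules.pullback h).obj O1 :=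
  (Scheme.Modules.pullbackCongr hg).inv.app F ≫ (Scheme.Modules.pullbackComp h π).inv.app F ≫
    (Scheme.Modules.pullback h).map q

include hA hU hγ ha in
/-- The row generates the unit ideal. -/
theorem exists_unimodular (hq : Epi q) (hO1 : O1.IsQuasicoherent) : ∃ c : Fin N → Γ(P, A), ∑ k, c k * a k = 1 := by
  have := QCPull72.isQuasicoherent_pullback π F
  obtain ⟨x, hx⟩ := app_surjective_of_epi q hA γ
  have hx' : x ∈ Submodule.span Γ(P, A) (Set.range fun k => res _ hAU (Amp73.pullS π F U (e k))) := by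
    have h0 : x ∈ Submodule.span Γ(P, A) (Set.range fun m : Γ(F, U) => res _ hAU (Amp73.pullS π F U m)) := by
      have h1 := SchBasics.span_pullSect π F hA hU hAU
      exact h1.ge trivial
    refine Submodule.span_le.2 ?_ h0
    rintro _ ⟨m, rfl⟩
    show res _ hAU (Amp73.pullS π F U m) ∈ Submodule.span _ _
    rw [← e.sum_repr m]
    rw [res_pullS_sum]
    exact Submodule.sum_mem _ fun k _ => Submodule.smul_mem _ _ (Submodule.subset_span ⟨k, rfl⟩)
  rw [Submodule.mem_span_range_iff_exists_fun] at hx'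
  obtain ⟨c, hc⟩ := hx'
  refine ⟨c, (hγ A le_rfl).1 ?_⟩
  show (∑ k, c k * a k) • res O1 le_rfl γ = (1 : Γ(P, A)) • res O1 le_rfl γ
  rw [res_self, one_smul, Finset.sum_smul]
  refine Eq.trans ?_ hx
  rw [← hc, map_sum]
  exact Finset.sum_congr rfl fun k _ => by rw [Scheme.Modules.Hom.app_smul, mul_smul, ha]

include ha in
/-- The pullback of the universal quotient on the pullbacks of the basis. -/
theorem comp_app_pl {T : Scheme.{u}} (h : T ⟶ P) {g : T ⟶ S} (hg : h ≫ π = g) (hgU : ⊤ ≤ g ⁻¹ᵁ U)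
    (hhA : ⊤ ≤ h ⁻¹ᵁ A) (k : Fin N) :
    (comp q h hg).app ⊤ (pl g F hgU (e k)) = h.appLE A ⊤ hhA (a k) • pl h O1 hhA γ := by
  subst hg
  have h1 : (comp q h (rfl : h ≫ π = h ≫ π)).app ⊤ (pl (h ≫ π) F hgU (e k)) =
      res _ (show ⊤ ≤ h ⁻¹ᵁ (π ⁻¹ᵁ U) from hgU)
        (Amp73.pullS h O1 (π ⁻¹ᵁ U) (q.app (π ⁻¹ᵁ U) (Amp73.pullS π F U (e k)))) :=
    pullbackComp_map_res h π q U (e k) hgU
  rw [h1, ← res_res (h.preimage_mono hAU) hhA]
  refine (congrArg (res _ hhA) (Amp73.res_pullS h O1 hAU _)).trans ?_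
  refine (congrArg (fun z => res _ hhA (Amp73.pullS h O1 A z))
    ((QC70.app_res q hAU _).symm.trans (ha k).symm)).trans ?_
  rw [Amp73.pullS_smul, res_smul]
  rfl

include hγ in
/-- The pullback of the frame. -/
theorem bijective_smul_pl {T : Scheme.{u}} (h : T ⟶ P) (hhA : ⊤ ≤ h ⁻¹ᵁ A) :
    Function.Bijective fun t : Γ(T, ⊤) => t • pl h O1 hhA γ := by
  have h1 := ((Props58.PullTensor.isFrame_pullS h hγ).res hhA) ⊤ le_rfl
  simpa only [Var76.LineBundle.res_res] using h1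

include hU hA hγ ha in
/-- A quotient given by a row `v` is the pullback of the universal one along `h` exactly when the two rows
differ by a unit. -/
theorem exists_iso_iff (hO1 : O1.IsQuasicoherent) {T : Scheme.{u}} (hT : IsAffineOpen (⊤ : T.Opens))
    (h : T ⟶ P) {g : T ⟶ S} (hg : h ≫ π = g) (hgU : ⊤ ≤ g ⁻¹ᵁ U) (hhA : ⊤ ≤ h ⁻¹ᵁ A)
    (s : (Scheme.Modules.pullback g).obj F ⟶ Coh.structureModule T) (v : Fin N → Γ(T, ⊤))
    (hs : ∀ k, s.app ⊤ (pl g F hgU (e k)) = (v k : Γ(Coh.structureModule T, ⊤))) :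
    (∃ e' : (Scheme.Modules.pullback h).obj O1 ≅ Coh.structureModule T, comp q h hg ≫ e'.hom = s) ↔
      ∃ w : Γ(T, ⊤), IsUnit w ∧ ∀ k, v k = h.appLE A ⊤ hhA (a k) * w := by
  have hb := bijective_smul_pl hγ h hhA
  constructor
  · rintro ⟨e', he'⟩
    obtain ⟨t, ht⟩ := hb.2 (e'.inv.app ⊤ ((1 : Γ(T, ⊤)) : Γ(Coh.structureModule T, ⊤)))
    refine ⟨e'.hom.app ⊤ (pl h O1 hhA γ), IsUnit.of_mul_eq_one_right t ?_, fun k => ?_⟩
    · have h2 := congrArg (e'.hom.app ⊤) ht
      rw [Scheme.Modules.Hom.app_smul] at h2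
      refine h2.trans ?_
      exact congr($(congrArg (fun f : Coh.structureModule T ⟶ Coh.structureModule T => f.app ⊤) e'.inv_hom_id)
        ((1 : Γ(T, ⊤)) : Γ(Coh.structureModule T, ⊤)))
    · refine (hs k).symm.trans ?_
      rw [← he']
      refine (congrArg (e'.hom.app ⊤) (comp_app_pl e hAU a ha h hg hgU hhA k)).trans ?_
      exact Scheme.Modules.Hom.app_smul e'.hom _ _
  · rintro ⟨w, hw, hv⟩
    have := QCPull72.isQuasicoherent_pullback h O1
    let E := LinearEquiv.ofBijective (LinearMap.toSpanSingleton Γ(T, ⊤) _ (pl h O1 hhA γ)) hb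
    let l : Γ((Scheme.Modules.pullback h).obj O1, ⊤) →ₗ[Γ(T, ⊤)] Γ(Coh.structureModule T, ⊤) :=
      (LinearMap.toSpanSingleton Γ(T, ⊤) Γ(Coh.structureModule T, ⊤) w).comp E.symm.toLinearMap
    let φ := (HomOn.ofLinear hT l).toHom
    have hφ : ∀ x, φ.app ⊤ x = l x := fun x => by
      show (HomOn.ofLinear hT l).app ⊤ le_rfl x = l x
      rw [HomOn.ofLinear_app_self]
    have hl : Function.Bijective (φ.app ⊤) := by
      have hw' : Function.Bijective fun t : Γ(T, ⊤) => t * w :=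
        ⟨fun x y hxy => hw.mul_left_injective hxy, fun y => ⟨y * ↑hw.unit⁻¹, by
          show y * ↑hw.unit⁻¹ * w = y
          rw [mul_assoc, IsUnit.val_inv_mul, mul_one]⟩⟩
      rw [show (φ.app ⊤ : _ → _) = (fun t : Γ(T, ⊤) => t * w) ∘ E.symm from funext hφ]
      exact hw'.comp E.symm.bijective
    have : (Coh.structureModule T).IsQuasicoherent :=
      Props58.LocFree.isQuasicoherent_of_isFinLocFree fun x =>
        let ⟨V, hV, i⟩ := isFinLocFreeOfRank_one_structureModule T x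
        ⟨V, 1, hV, i⟩
    have : IsIso φ := EGA73.isIso_of_bijective_cover φ (fun _ : PUnit.{u + 1} => ⊤) (fun _ => hT)
      (fun x => ⟨PUnit.unit, trivial⟩) fun _ => hl
    refine ⟨asIso φ, hom_ext hU e hT hgU _ _ fun k => ?_⟩
    rw [hs k, hv k]
    refine (congrArg (φ.app ⊤) (comp_app_pl e hAU a ha h hg hgU hhA k)).trans ?_
    rw [Scheme.Modules.Hom.app_smul, hφ]
    refine congrArg (h.appLE A ⊤ hhA (a k) • ·) ?_ |>.trans rfl
    show E.symm (pl h O1 hhA γ) • (w : Γ(Coh.structureModule T, ⊤)) = w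
    rw [show E.symm (pl h O1 hhA γ) = 1 from E.symm_apply_eq.2 (one_smul _ _).symm, one_smul]

omit [F.IsQuasicoherent] in
/-- Classification commutes with base change of the test scheme. -/
theorem comp_natural {T T' : Scheme.{u}} (f : T' ⟶ T) (h : T ⟶ P) {g : T ⟶ S} (hg : h ≫ π = g)
    (hgU : ⊤ ≤ g ⁻¹ᵁ U) {g' : T' ⟶ S} (hg' : (f ≫ h) ≫ π = g') (hgU' : ⊤ ≤ g' ⁻¹ᵁ U)
    (e₀ : (Scheme.Modules.pullback h).obj O1 ≅ Coh.structureModule T) :
    ∃ e' : (Scheme.Modules.pullback (f ≫ h)).obj O1 ≅ Coh.structureModule T', ∀ k,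
      (comp q (f ≫ h) hg' ≫ e'.hom).app ⊤ (pl g' F hgU' (e k)) =
        ((f.appTop ((comp q h hg ≫ e₀.hom).app ⊤ (pl g F hgU (e k))) : Γ(T', ⊤)) : Γ(Coh.structureModule T', ⊤)) := by
  subst hg hg'
  refine ⟨((Scheme.Modules.pullbackComp f h).app O1).symm ≪≫ (Scheme.Modules.pullback f).mapIso e₀ ≪≫
    PicLoc.pullbackStructureIso f, fun k => ?_⟩
  let V : T.Opens := h ⁻¹ᵁ (π ⁻¹ᵁ U)
  let qk := q.app (π ⁻¹ᵁ U) (Amp73.pullS π F U (e k))
  let y : Γ(T, V) := e₀.hom.app V (Amp73.pullS h O1 (π ⁻¹ᵁ U) qk)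
  have h1 : (comp q h (rfl : h ≫ π = h ≫ π) ≫ e₀.hom).app ⊤ (pl (h ≫ π) F hgU (e k)) =
      res (Coh.structureModule T) (show ⊤ ≤ V from hgU) y :=
    (congrArg (e₀.hom.app ⊤) (pullbackComp_map_res h π q U (e k) hgU)).trans (QC70.app_res _ _ _)
  rw [h1]
  show ((Scheme.Modules.pullback f).mapIso e₀ ≪≫ PicLoc.pullbackStructureIso f).hom.app ⊤
    (((Scheme.Modules.pullbackComp f h).inv.app O1).app ⊤
      ((comp q (f ≫ h) (rfl : (f ≫ h) ≫ π = (f ≫ h) ≫ π)).app ⊤ (pl ((f ≫ h) ≫ π) F hgU' (e k)))) = _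
  refine (congrArg (fun z => ((Scheme.Modules.pullback f).mapIso e₀ ≪≫ PicLoc.pullbackStructureIso f).hom.app ⊤
    (((Scheme.Modules.pullbackComp f h).inv.app O1).app ⊤ z))
      (pullbackComp_map_res (f ≫ h) π q U (e k) hgU')).trans ?_
  show (PicLoc.pullbackStructureIso f).hom.app ⊤ (((Scheme.Modules.pullback f).map e₀.hom).app ⊤
    (((Scheme.Modules.pullbackComp f h).inv.app O1).app ⊤ _)) = _
  refine (congrArg (fun z => (PicLoc.pullbackStructureIso f).hom.app ⊤
    (((Scheme.Modules.pullback f).map e₀.hom).app ⊤ z)) ((QC70.app_res _ _ _).trans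
      (congrArg (res _ _) (Props58.PullTensor.pullS_comp f h O1 (π ⁻¹ᵁ U) qk)))).trans ?_
  refine (congrArg ((PicLoc.pullbackStructureIso f).hom.app ⊤) ((QC70.app_res _ _ _).trans
      (congrArg (res _ _) (Amp73.map_app_pullS f e₀.hom V _)))).trans ?_
  refine (QC70.app_res _ _ _).trans ?_
  have hy : (y : Γ(Coh.structureModule T, V)) = y • ((1 : Γ(T, V)) : Γ(Coh.structureModule T, V)) := (mul_one y).symm
  show res (Coh.structureModule T') _ ((PicLoc.pullbackStructureIso f).hom.app (f ⁻¹ᵁ V)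
    (Amp73.pullS f (Coh.structureModule T) V (y : Γ(Coh.structureModule T, V)))) = _
  rw [hy]
  erw [Amp73.pullS_smul]
  rw [Scheme.Modules.Hom.app_smul, Amp73.pullbackStructureIso_pullS]
  refine (congrArg (T'.presheaf.map (homOfLE _).op) (mul_one (f.app V y))).trans ?_
  refine Eq.trans ?_ (congrArg (fun z => f.appTop (T.presheaf.map (homOfLE (show ⊤ ≤ V from hgU)).op z)) (mul_one y)).symm
  exact (congr($(f.naturality (homOfLE (show ⊤ ≤ V from hgU)).op) y)).symm

include hA in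
theorem exists_specMap_of_le {C : CommRingCat.{u}} (h : Spec C ⟶ P) (hhA : ⊤ ≤ h ⁻¹ᵁ A) :
    ∃ σ : Γ(P, A) ⟶ C, h = Spec.map σ ≫ hA.fromSpec := by
  refine ⟨h.appLE A ⊤ hhA ≫ (Scheme.ΓSpecIso C).hom, ?_⟩
  rw [Spec.map_comp, Category.assoc, IsAffineOpen.SpecMap_appLE_fromSpec h hA (isAffineOpen_top _) hhA,
    IsAffineOpen.fromSpec_top, Scheme.isoSpec_Spec_inv, ← Category.assoc, ← Spec.map_comp, Iso.inv_hom_id,
    Spec.map_id, Category.id_comp]

include hA in
theorem specMap_fromSpec_le {C : CommRingCat.{u}} (σ : Γ(P, A) ⟶ C) :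
    (⊤ : (Spec C).Opens) ≤ (Spec.map σ ≫ hA.fromSpec) ⁻¹ᵁ A :=
  (Spec.map σ).preimage_mono hA.fromSpec_preimage_self.ge

theorem specMap_fromSpec_appLE {C : CommRingCat.{u}} (σ : Γ(P, A) ⟶ C) :
    (Spec.map σ ≫ hA.fromSpec).appLE A ⊤ (specMap_fromSpec_le hA σ) = σ ≫ (Scheme.ΓSpecIso C).inv := by
  rw [← Scheme.Hom.appLE_comp_appLE (Spec.map σ) hA.fromSpec A ⊤ ⊤ hA.fromSpec_preimage_self.ge le_top,
    Omega57.fromSpec_appLE_top]
  refine Eq.trans ?_ (Scheme.ΓSpecIso_inv_naturality σ).symm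
  congr 1

include hU hAU in
theorem specMap_fromSpec_comp {C : CommRingCat.{u}} (σ : Γ(P, A) ⟶ C) :
    (Spec.map σ ≫ hA.fromSpec) ≫ π = Spec.map (π.appLE U A hAU ≫ σ) ≫ hU.fromSpec := by
  rw [Spec.map_comp, Category.assoc, Category.assoc, IsAffineOpen.SpecMap_appLE_fromSpec π hU hA hAU]

include hU hA hAU hγ ha in
/-- Deformations of a row up to scalars are derivations: the universal property at dual numbers. -/
theorem lifts (hPB : KRR.IsProjBundle π F O1 q) (hO1 : O1.IsQuasicoherent) :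
    letI := (π.appLE U A hAU).hom.toAlgebra
    Euler.Lifts Γ(S, U) a := by
  letI := (π.appLE U A hAU).hom.toAlgebra
  obtain ⟨c, hc⟩ := exists_unimodular hU e hA hAU hγ a ha hPB.epi hO1
  have hLrk : ∀ T : Scheme.{u}, FlatMod.IsFinLocFreeOfRank 1 (Coh.structureModule T) :=
    isFinLocFreeOfRank_one_structureModule
  -- uniqueness of classifying maps
  have huniq : ∀ {C : CommRingCat.{u}} (h h' : Spec C ⟶ P) (g : Spec C ⟶ S) (hg : h ≫ π = g)
      (hg' : h' ≫ π = g) (s : (Scheme.Modules.pullback g).obj F ⟶ Coh.structureModule _) (_ : Epi s),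
      (∃ e' : (Scheme.Modules.pullback h).obj O1 ≅ _, comp q h hg ≫ e'.hom = s) →
      (∃ e' : (Scheme.Modules.pullback h').obj O1 ≅ _, comp q h' hg' ≫ e'.hom = s) → h = h' := by
    rintro C h h' g hg hg' s hs ⟨e₁, he₁⟩ ⟨e₂, he₂⟩
    exact (hPB.univ _ g _ (hLrk _) s hs).unique
      ⟨hg, e₁, by rw [← he₁]; simp only [comp, Category.assoc]⟩
      ⟨hg', e₂, by rw [← he₂]; simp only [comp, Category.assoc]⟩
  refine ⟨fun M _ _ _ _ m => ?_, fun M _ _ _ _ D r hD => ?_⟩
  all_goals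
    letI : Module Γ(P, A)ᵐᵒᵖ M := Module.compHom M ((RingHom.id Γ(P, A)).fromOpposite mul_comm)
    haveI : IsCentralScalar Γ(P, A) M := ⟨fun _ _ => rfl⟩
    let C := CommRingCat.of (TrivSqZeroExt Γ(P, A) M)
    let inl' : Γ(P, A) ⟶ C := CommRingCat.ofHom (TrivSqZeroExt.inlHom Γ(P, A) M)
    let fst' : C ⟶ Γ(P, A) := CommRingCat.ofHom (TrivSqZeroExt.fstHom Γ(P, A) Γ(P, A) M).toRingHom
    let ΓC := (Scheme.ΓSpecIso C).inv
    let h₀ := Spec.map inl' ≫ hA.fromSpec
    let g := h₀ ≫ π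
    have hgU : (⊤ : (Spec C).Opens) ≤ g ⁻¹ᵁ U := (specMap_fromSpec_le hA inl').trans (h₀.preimage_mono hAU)
    have hT := isAffineOpen_top (Spec C)
  · let v : Fin N → C := fun k => TrivSqZeroExt.inl (a k) + TrivSqZeroExt.inr (m k)
    have hu : IsUnit (∑ k, inl' (c k) * v k) := by
      rw [TrivSqZeroExt.isUnit_iff_isUnit_fst]
      rw [show TrivSqZeroExt.fst (∑ k, inl' (c k) * v k) = fst' (∑ k, inl' (c k) * v k) from rfl, map_sum]
      simp only [map_mul]
      refine (congrArg IsUnit (Eq.trans ?_ hc)).mpr isUnit_one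
      refine Finset.sum_congr rfl fun k _ => ?_
      show c k * (a k + 0) = c k * a k
      rw [add_zero]
    obtain ⟨s, hs, hsv⟩ := exists_quot hU e hT hgU (fun k => ΓC (v k))
      (fun k => ΓC (↑hu.unit⁻¹ * inl' (c k))) (by
        simp only [← map_mul, ← map_sum, mul_assoc, ← Finset.mul_sum, IsUnit.val_inv_mul, map_one])
    obtain ⟨h, ⟨hg, e₀, he₀⟩, -⟩ := hPB.univ _ g _ (hLrk _) s hs
    have he₀' : comp q h hg ≫ e₀.hom = s := by rw [← he₀]; simp only [comp, Category.assoc]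
    let h₁ := Spec.map (𝟙 Γ(P, A)) ≫ hA.fromSpec
    have hι : Spec.map fst' ≫ h = h₁ := by
      have hfi : inl' ≫ fst' = 𝟙 _ := rfl
      have hg1 : (Spec.map fst' ≫ h) ≫ π = h₁ ≫ π := by
        rw [Category.assoc, hg]
        show Spec.map fst' ≫ (Spec.map inl' ≫ hA.fromSpec) ≫ π = _
        rw [← Category.assoc, ← Category.assoc, ← Spec.map_comp, hfi]
      have hgU1 : ⊤ ≤ (h₁ ≫ π) ⁻¹ᵁ U := (specMap_fromSpec_le hA (𝟙 _)).trans (h₁.preimage_mono hAU)
      obtain ⟨e', he'⟩ := comp_natural e (Spec.map fst') h hg hgU hg1 hgU1 e₀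
      let s₁ := comp q (Spec.map fst' ≫ h) hg1 ≫ e'.hom
      have := hPB.epi
      have : Epi s₁ := inferInstanceAs (Epi (_ ≫ e'.hom))
      refine huniq _ _ _ hg1 rfl s₁ this ⟨e', rfl⟩ ?_
      refine (exists_iso_iff hU e hA hAU hγ a ha hO1 (isAffineOpen_top _) h₁ rfl hgU1 (specMap_fromSpec_le hA _)
        s₁ _ he').2 ⟨1, isUnit_one, fun k => ?_⟩
      rw [he₀', hsv, mul_one, specMap_fromSpec_appLE]
      show ((Scheme.ΓSpecIso C).inv ≫ (Spec.map fst').appTop) (v k) = _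
      rw [← Scheme.ΓSpecIso_inv_naturality]
      show (Scheme.ΓSpecIso Γ(P, A)).inv (a k + 0) = _
      rw [add_zero]
      rfl
    have hsurj : Function.Surjective (Spec.map fst').base := fun p => by
      refine ⟨(Spec.map inl').base p, PrimeSpectrum.ext (Ideal.ext fun x => ?_)⟩
      show inl' (fst' x) ∈ p.asIdeal ↔ x ∈ p.asIdeal
      have hn : (TrivSqZeroExt.inr x.snd : C) ∈ p.asIdeal := p.isPrime.mem_of_pow_mem 2 <| by
        rw [pow_two, TrivSqZeroExt.inr_mul_inr]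
        exact zero_mem _
      conv_rhs => rw [← TrivSqZeroExt.inl_fst_add_inr_snd_eq x]
      exact (Ideal.add_mem_iff_left _ hn).symm
    have hhA : ⊤ ≤ h ⁻¹ᵁ A := fun p _ => by
      obtain ⟨p', rfl⟩ := hsurj p
      show (Spec.map fst' ≫ h).base p' ∈ A
      rw [hι]
      exact specMap_fromSpec_le hA (𝟙 _) (Opens.mem_top p')
    obtain ⟨σ, rfl⟩ := exists_specMap_of_le hA h hhA
    have hσf : ∀ b, TrivSqZeroExt.fst (σ b) = b := fun b => by
      rw [← Category.assoc, cancel_mono, ← Spec.map_comp] at hι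
      exact congr($(Spec.map_injective hι) b)
    have hσR : ∀ r, σ (π.appLE U A hAU r) = inl' (π.appLE U A hAU r) := fun r => by
      rw [specMap_fromSpec_comp hU hA hAU] at hg
      have h2 : Spec.map (π.appLE U A hAU ≫ σ) ≫ hU.fromSpec = (Spec.map inl' ≫ hA.fromSpec) ≫ π := hg
      rw [specMap_fromSpec_comp hU hA hAU, cancel_mono] at h2
      exact congr($(Spec.map_injective h2) r)
    obtain ⟨w, -, hw⟩ := (exists_iso_iff hU e hA hAU hγ a ha hO1 hT _ hg hgU hhA s _ hsv).1 ⟨e₀, he₀'⟩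
    let w' : C := (Scheme.ΓSpecIso C).hom w
    have hw' : ∀ k, v k = σ (a k) * w' := fun k => by
      have h2 := congrArg (Scheme.ΓSpecIso C).hom (hw k)
      rw [specMap_fromSpec_appLE, map_mul] at h2
      exact (Iso.inv_hom_id_apply (Scheme.ΓSpecIso C) (v k)).symm.trans
        (h2.trans (congrArg (· * w') (Iso.inv_hom_id_apply (Scheme.ΓSpecIso C) (σ (a k)))))
    have hwf : TrivSqZeroExt.fst w' = 1 := by
      have h2 : ∀ k, a k = a k * TrivSqZeroExt.fst w' := fun k => by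
        refine Eq.trans ?_ ((congrArg TrivSqZeroExt.fst (hw' k)).trans ((TrivSqZeroExt.fst_mul _ _).trans (congrArg (· * _) (hσf (a k)))))
        show a k = a k + 0
        rw [add_zero]
      calc TrivSqZeroExt.fst w' = (∑ k, c k * a k) * TrivSqZeroExt.fst w' := by rw [hc, one_mul]
        _ = ∑ k, c k * a k := by
          rw [Finset.sum_mul]
          exact Finset.sum_congr rfl fun k _ => by rw [mul_assoc, ← h2 k]
        _ = 1 := hc
    let D : Derivation Γ(S, U) Γ(P, A) M :=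
      Derivation.mk'
        { toFun := fun b => TrivSqZeroExt.snd (σ b)
          map_add' := fun x y => by rw [map_add, TrivSqZeroExt.snd_add]
          map_smul' := fun r x => by
            rw [Algebra.smul_def, map_mul, RingHom.algebraMap_toAlgebra, hσR, TrivSqZeroExt.snd_mul]
            show π.appLE U A hAU r • TrivSqZeroExt.snd (σ x) + MulOpposite.op (TrivSqZeroExt.fst (σ x)) • (0 : M) = _
            rw [smul_zero, add_zero]
            exact algebraMap_smul Γ(P, A) r (TrivSqZeroExt.snd (σ x)) }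
        fun x y => by
          show TrivSqZeroExt.snd (σ (x * y)) = x • TrivSqZeroExt.snd (σ y) + y • TrivSqZeroExt.snd (σ x)
          rw [map_mul, TrivSqZeroExt.snd_mul, hσf, hσf, op_smul_eq_smul]
    refine ⟨D, -TrivSqZeroExt.snd w', fun k => ?_⟩
    show TrivSqZeroExt.snd (σ (a k)) = _
    have h3 : (0 : M) + m k = a k • TrivSqZeroExt.snd w' + TrivSqZeroExt.snd (σ (a k)) := by
      refine ((congrArg TrivSqZeroExt.snd (hw' k)).trans (TrivSqZeroExt.snd_mul _ _)).trans ?_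
      rw [hσf, hwf, op_smul_eq_smul, one_smul]
    rw [smul_neg, ← zero_add (m k), h3]
    abel
  · let σD : Γ(P, A) ⟶ C := CommRingCat.ofHom
      { toFun := fun b => TrivSqZeroExt.inl b + TrivSqZeroExt.inr (D b)
        map_one' := by simp
        map_mul' := fun x y => by ext <;> simp [TrivSqZeroExt.snd_mul, op_smul_eq_smul]
        map_zero' := by simp
        map_add' := fun x y => by ext <;> simp }
    let h₁ := Spec.map σD ≫ hA.fromSpec
    have hg₁ : h₁ ≫ π = g := by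
      show _ = (Spec.map inl' ≫ hA.fromSpec) ≫ π
      rw [specMap_fromSpec_comp hU hA hAU, specMap_fromSpec_comp hU hA hAU]
      congr 2
      refine CommRingCat.hom_ext (RingHom.ext fun x => ?_)
      show (TrivSqZeroExt.inl (algebraMap Γ(S, U) Γ(P, A) x) + TrivSqZeroExt.inr (D (algebraMap Γ(S, U) Γ(P, A) x)) :
        TrivSqZeroExt Γ(P, A) M) = TrivSqZeroExt.inl (algebraMap Γ(S, U) Γ(P, A) x)
      rw [Derivation.map_algebraMap, TrivSqZeroExt.inr_zero, add_zero]
    obtain ⟨s, hs, hsv⟩ := exists_quot hU e hT hgU (fun k => ΓC (inl' (a k))) (fun k => ΓC (inl' (c k))) (by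
      simp only [← map_mul, ← map_sum, hc, map_one])
    have heq : h₀ = h₁ := by
      refine huniq _ _ g rfl hg₁ s hs ?_ ?_
      · refine (exists_iso_iff hU e hA hAU hγ a ha hO1 hT h₀ rfl hgU (specMap_fromSpec_le hA _) s _ hsv).2
          ⟨1, isUnit_one, fun k => ?_⟩
        rw [specMap_fromSpec_appLE, mul_one]
        rfl
      · refine (exists_iso_iff hU e hA hAU hγ a ha hO1 hT h₁ hg₁ hgU (specMap_fromSpec_le hA _) s _ hsv).2
          ⟨ΓC (1 + TrivSqZeroExt.inr (-r)), IsUnit.map _ ?_, fun k => ?_⟩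
        · rw [TrivSqZeroExt.isUnit_iff_isUnit_fst, TrivSqZeroExt.fst_add, TrivSqZeroExt.fst_inr, add_zero]
          exact isUnit_one
        · rw [specMap_fromSpec_appLE]
          refine Eq.trans ?_ (map_mul ΓC.hom _ _)
          refine congrArg ΓC ?_
          show TrivSqZeroExt.inl (a k) = (TrivSqZeroExt.inl (a k) + TrivSqZeroExt.inr (D (a k))) * (1 + TrivSqZeroExt.inr (-r))
          rw [hD]
          ext <;> simp [TrivSqZeroExt.snd_mul]
    ext b
    have h4 : inl' = σD := Spec.map_injective ((cancel_mono hA.fromSpec).1 heq)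
    have h5 : (0 : M) = 0 + D b := congrArg TrivSqZeroExt.snd congr($h4 b)
    rw [zero_add] at h5
    exact h5.symm

end chart

end Groth.Agent.Om3.EulerLift
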