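import Groth.Agent.Om3.Chart
import Groth.Agent.SchBasics.OmegaChart
import Groth.Agent.SchBasics.ClosedChart
import Groth.Agent.QC70.Hom

/-! The sequence of conormal sheaves and differentials of an immersion over a base. -/

set_option autoImplicit false
set_option backward.isDefEq.respectTransparency false

universe u

open CategoryTheory CategoryTheory.Limits AlgebraicGeometry TopologicalSpace Opposite

noncomputable section

namespace Groth.Agent.Om3

open Groth.Agent QC70 Omega57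

/-- The value of the map to pulled back differentials, over any open. -/
theorem conormalDiff_val {Z X Y : Scheme.{u}} {i : Z ⟶ X} {p : X ⟶ Y} {Ω : X.Modules} {d : OmegaSh.Der p Ω}
    {φ : Omega.conormal i ⟶ (Scheme.Modules.pullback i).obj Ω} (hφ : OmegaSh.IsConormalDiff i d φ) {W : X.Opens}
    {P : Z.Opens} (hP : P ≤ i ⁻¹ᵁ W) (s : Γ(ClSub.idealMod i.ker, W)) :
    φ.app P (res (Omega.conormal i) hP (OmegaSh.conormalSect i W s)) =
      res ((Scheme.Modules.pullback i).obj Ω) hP (OmegaSh.pullSect i Ω W (d.app W (OmegaSh.idealSect i.ker W s))) := by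
  rw [app_res, hφ W s]

variable {Z X Y : Scheme.{u}} {p : X ⟶ Y} {i : Z ⟶ X} {j : Z ⟶ Y}

theorem exists_compatible_chart (p : X ⟶ Y) (i : Z ⟶ X) (j : Z ⟶ Y) [IsImmersion i] [IsImmersion j]
    (hij : i ≫ p = j) {O : Z.Opens} {z : Z} (hz : z ∈ O) {T : Y.Opens} (hzT : j z ∈ T) :
    ∃ (V : Y.Opens) (W : X.Opens), V ≤ T ∧ IsAffineOpen V ∧ IsAffineOpen W ∧ W ≤ p ⁻¹ᵁ V ∧ IsAffineOpen (j ⁻¹ᵁ V) ∧
      Function.Surjective (j.app V) ∧ Function.Surjective (i.app W) ∧ i ⁻¹ᵁ W = j ⁻¹ᵁ V ∧ z ∈ i ⁻¹ᵁ W ∧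
      i ⁻¹ᵁ W ≤ O := by
  obtain ⟨V, hV, hjV, hzV, hVT, hjs⟩ := SchBasics.exists_closed_chart_le j (z := z) T hzT
  obtain ⟨P₀, hP₀, hP₀O⟩ := i.isEmbedding.isInducing.isOpen_iff.1 O.2
  have hzV' : i z ∈ p ⁻¹ᵁ V := by
    show p (i z) ∈ V
    rw [← Scheme.Hom.comp_apply, hij]; exact hzV
  obtain ⟨W, hW, hiW, hzW, hWT, his⟩ :=
    SchBasics.exists_closed_chart_le i (z := z) (⟨P₀, hP₀⟩ ⊓ p ⁻¹ᵁ V) ⟨hP₀O.ge hz, hzV'⟩
  have hWV : W ≤ p ⁻¹ᵁ V := fun y hy => (hWT hy).2
  obtain ⟨a, ha, hza⟩ := hjV.exists_basicOpen_le ⟨z, hzW⟩ hzV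
  obtain ⟨g, rfl⟩ := hjs a
  rw [← Scheme.preimage_basicOpen] at ha hza
  let h := p.appLE V W hWV g
  have hWh : X.basicOpen h = W ⊓ p ⁻¹ᵁ Y.basicOpen g := by
    rw [Scheme.preimage_basicOpen]
    exact X.basicOpen_res _ _
  have hpre : i ⁻¹ᵁ X.basicOpen h = j ⁻¹ᵁ Y.basicOpen g := by
    rw [hWh]
    show i ⁻¹ᵁ W ⊓ i ⁻¹ᵁ (p ⁻¹ᵁ Y.basicOpen g) = _
    rw [← Scheme.Hom.comp_preimage, hij]
    exact inf_eq_right.2 ha
  have haff : ∀ {P Q : Scheme.{u}} (f : P ⟶ Q) {A : Q.Opens}, IsAffineOpen A → IsAffineOpen (f ⁻¹ᵁ A) →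
      Function.Surjective (f.app A) → ∀ r : Γ(Q, A), IsAffineOpen (f ⁻¹ᵁ Q.basicOpen r) ∧
        Function.Surjective (f.app (Q.basicOpen r)) := by
    intro P Q f A hA hfA hs r
    refine ⟨by rw [Scheme.preimage_basicOpen]; exact hfA.basicOpen _, fun y => ?_⟩
    letI := (Q.presheaf.map (homOfLE (Q.basicOpen_le r)).op).hom.toAlgebra
    haveI := hA.isLocalization_basicOpen r
    haveI : IsLocalization.Away (f.app A r) Γ(P, P.basicOpen (f.app A r)) := hfA.isLocalization_basicOpen _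
    let eq := P.presheaf.map (eqToHom (Scheme.preimage_basicOpen f r).symm).op
    obtain ⟨⟨b, ⟨_, n, rfl⟩⟩, hb⟩ := IsLocalization.surj (Submonoid.powers (f.app A r)) (eq y)
    obtain ⟨a, rfl⟩ := hs b
    refine ⟨IsLocalization.mk' Γ(Q, Q.basicOpen r) a (⟨r ^ n, n, rfl⟩ : Submonoid.powers r), ?_⟩
    refine (ConcreteCategory.bijective_of_isIso eq).1 ?_
    have hnat : ∀ x, eq (f.app (Q.basicOpen r) (Q.presheaf.map (homOfLE (Q.basicOpen_le r)).op x)) =
        P.presheaf.map (homOfLE (P.basicOpen_le (f.app A r))).op (f.app A x) := fun x => by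
      rw [← ConcreteCategory.comp_apply (Q.presheaf.map _), Scheme.Hom.naturality, ConcreteCategory.comp_apply,
        ← ConcreteCategory.comp_apply (P.presheaf.map _) eq, ← Functor.map_comp]
      rfl
    refine (IsLocalization.map_units Γ(P, P.basicOpen (f.app A r)) (⟨(f.app A r) ^ n, n, rfl⟩ : Submonoid.powers (f.app A r))).mul_left_inj.1 ?_
    refine Eq.trans ?_ hb.symm
    show eq _ * P.presheaf.map (homOfLE (P.basicOpen_le (f.app A r))).op ((f.app A r) ^ n) = _
    rw [← map_pow, ← hnat, ← map_mul, ← map_mul,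
      show IsLocalization.mk' Γ(Q, Q.basicOpen r) a (⟨r ^ n, n, rfl⟩ : Submonoid.powers r) *
          Q.presheaf.map (homOfLE (Q.basicOpen_le r)).op (r ^ n) = Q.presheaf.map (homOfLE (Q.basicOpen_le r)).op a from
        IsLocalization.mk'_spec _ a (⟨r ^ n, n, rfl⟩ : Submonoid.powers r), hnat]
    rfl
  obtain ⟨hja, hjas⟩ := haff j hV hjV hjs g
  obtain ⟨-, hias⟩ := haff i hW hiW his h
  refine ⟨_, _, (Y.basicOpen_le g).trans hVT, hV.basicOpen g, hW.basicOpen h, hWh.le.trans inf_le_right, hja, hjas, hias, hpre, ?_, ?_⟩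
  · rw [hpre]; exact hza
  · intro y hy
    exact hP₀O.le (hWT (hWh.le hy).1).1

set_option maxHeartbeats 800000 in
/-- The sequence over a compatible chart. -/
theorem chart_seq [QuasiCompact i] [QuasiCompact j]
    {Ω : X.Modules} {d : OmegaSh.Der p Ω} (hd : OmegaSh.IsUniversal d)
    {ψ : (Scheme.Modules.pullback (𝟙 Z)).obj (Omega.conormal j) ⟶ Omega.conormal i}
    (hψ : OmegaSh.IsConormalMap i j p (𝟙 Z) ψ)
    {φ : Omega.conormal i ⟶ (Scheme.Modules.pullback i).obj Ω} (hφ : OmegaSh.IsConormalDiff i d φ)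
    {V : Y.Opens} {W : X.Opens} (hV : IsAffineOpen V) (hW : IsAffineOpen W) (hle : W ≤ p ⁻¹ᵁ V)
    (hjV : IsAffineOpen (j ⁻¹ᵁ V)) (hjs : Function.Surjective (j.app V)) (his : Function.Surjective (i.app W))
    (hpre : i ⁻¹ᵁ W = j ⁻¹ᵁ V) :
    (∀ x, φ.app (i ⁻¹ᵁ W) (ψ.app (i ⁻¹ᵁ W) x) = 0) ∧
      (∀ x, φ.app (i ⁻¹ᵁ W) x = 0 → ∃ y, ψ.app (i ⁻¹ᵁ W) y = x) ∧
      Function.Surjective (φ.app (i ⁻¹ᵁ W)) ∧
      ((∃ σ : Γ(X, W) →+* Γ(Y, V) ⧸ RingHom.ker (j.app V).hom ^ 2,
          (∀ r, σ (p.appLE V W hle r) = Ideal.Quotient.mk _ r) ∧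
          ∀ b r, σ b = Ideal.Quotient.mk _ r → j.appLE V (i ⁻¹ᵁ W) hpre.le r = i.app W b) →
        ∃ l : Γ(Omega.conormal i, i ⁻¹ᵁ W) →ₗ[Γ(Z, i ⁻¹ᵁ W)]
            Γ((Scheme.Modules.pullback (𝟙 Z)).obj (Omega.conormal j), i ⁻¹ᵁ W),
          ∀ x, l (ψ.app (i ⁻¹ᵁ W) x) = x) := by
  have hij : i ≫ p = j := hψ.1.symm.trans (Category.id_comp j)
  let P := i ⁻¹ᵁ W
  have hiW : IsAffineOpen P := by rw [show P = j ⁻¹ᵁ V from hpre]; exact hjV
  let Mi := ClSub.idealMod i.ker
  let Mj := ClSub.idealMod j.ker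
  haveI : Mi.IsQuasicoherent := isQuasicoherent_idealMod _
  haveI : Mj.IsQuasicoherent := isQuasicoherent_idealMod _
  haveI := SchBasics.isQuasicoherent_of_isUniversal hd
  let Ci : Z.Modules := Omega.conormal i
  let G := (Scheme.Modules.pullback (𝟙 Z)).obj (Omega.conormal j)
  let ΩZ := (Scheme.Modules.pullback i).obj Ω
  let R := Γ(Y, V)
  let B := Γ(X, W)
  let ρ : R →+* B := (p.appLE V W hle).hom
  let π : B →+* Γ(Z, P) := (i.app W).hom
  have hπρ : ∀ r, π (ρ r) = j.appLE V P hpre.le r := fun r => by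
    have key : ∀ (q : Z ⟶ Y) (e : P ≤ q ⁻¹ᵁ V), q = i ≫ p → π (ρ r) = q.appLE V P e r := by
      rintro q e rfl
      show (p.appLE V W hle ≫ i.app W) r = _
      rw [Scheme.Hom.app_eq_appLE, Scheme.Hom.appLE_comp_appLE]
    exact key j hpre.le hij.symm
  have hjsP : Function.Surjective (j.appLE V P hpre.le) := fun c => by
    obtain ⟨r, hr⟩ := hjs (Z.presheaf.map (homOfLE hpre.ge).op c)
    refine ⟨r, ?_⟩
    rw [Scheme.Hom.appLE, ConcreteCategory.comp_apply, hr, ← ConcreteCategory.comp_apply, ← Functor.map_comp]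
    show Z.presheaf.map (𝟙 _) c = c
    rw [CategoryTheory.Functor.map_id]
    rfl
  have hjker : ∀ r, j.appLE V P hpre.le r = 0 ↔ j.app V r = 0 := fun r => by
    refine ⟨fun h => ?_, fun h => ?_⟩
    · have := congrArg (Z.presheaf.map (homOfLE hpre.ge).op) h
      rw [Scheme.Hom.appLE, ConcreteCategory.comp_apply, map_zero, ← ConcreteCategory.comp_apply, ← Functor.map_comp] at this
      rw [← this]
      show _ = Z.presheaf.map (𝟙 _) _
      rw [CategoryTheory.Functor.map_id]
      rfl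
    · rw [Scheme.Hom.appLE, ConcreteCategory.comp_apply, h, map_zero]
  -- the generators of the source and their images
  let gen : Γ(Mj, V) → Γ(G, P) := fun k =>
    res G hpre.le (OmegaSh.pullSect (𝟙 Z) (Omega.conormal j) (j ⁻¹ᵁ V) (OmegaSh.conormalSect j V k))
  have hgen : ∀ k, ∃ t : Γ(Mi, W), OmegaSh.idealSect i.ker W t = ρ (OmegaSh.idealSect j.ker V k) ∧
      ψ.app P (gen k) = OmegaSh.conormalSect i W t := fun k => by
    obtain ⟨t, ht⟩ := exists_sect_of_app_eq_zero i (W := W) (ρ (OmegaSh.idealSect j.ker V k))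
      ((hπρ _).trans ((hjker _).2 (FlatMor67.app_idealSect j V k)))
    exact ⟨t, ht, (conormalMap_val hψ hle hpre.le le_rfl k t ht).trans (res_self (M := Ci) _)⟩
  have hGspan : ∀ y : Γ(G, P), y ∈ Submodule.span Γ(Z, P) (Set.range gen) := fun y => by
    haveI : (Omega.conormal j).IsQuasicoherent := QCPull72.isQuasicoherent_pullback _ _
    have hy : y ∈ Submodule.span Γ(Z, P) (Set.range fun z : Γ(Omega.conormal j, j ⁻¹ᵁ V) =>
        res G hpre.le (OmegaSh.pullSect (𝟙 Z) (Omega.conormal j) (j ⁻¹ᵁ V) z)) :=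
      (SchBasics.span_pullSect (𝟙 Z) (Omega.conormal j) hiW hjV hpre.le).ge trivial
    refine Submodule.span_mono ?_ hy
    rintro _ ⟨z, rfl⟩
    obtain ⟨k, rfl⟩ := conormalSect_surjective j hV hjV hjs z
    exact ⟨k, rfl⟩
  let ψL : Γ(G, P) →ₗ[Γ(Z, P)] Γ(Ci, P) :=
    { toFun := fun s => ψ.app P s, map_add' := fun a b => map_add _ a b,
      map_smul' := fun r s => Scheme.Modules.Hom.app_smul ψ r s }
  let φL : Γ(Ci, P) →ₗ[Γ(Z, P)] Γ(ΩZ, P) :=
    { toFun := fun s => φ.app P s, map_add' := fun a b => map_add _ a b,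
      map_smul' := fun r s => Scheme.Modules.Hom.app_smul φ r s }
  have hφs : ∀ s : Γ(Mi, W), φL (OmegaSh.conormalSect i W s) =
      OmegaSh.pullSect i Ω W (d.app W (OmegaSh.idealSect i.ker W s)) := fun s => hφ W s
  have hdρ : ∀ r, d.app W (ρ r) = 0 := fun r => Var76.OmegaUniv.Der.appLE d hle r
  have hzero : ∀ x, φL (ψL x) = 0 := fun x => by
    induction hGspan x using Submodule.span_induction with
    | mem y hy =>
      obtain ⟨k, rfl⟩ := hy
      obtain ⟨t, ht, ht'⟩ := hgen k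
      show φL (ψ.app P (gen k)) = 0
      rw [ht', hφs, ht, hdρ]
      exact map_zero _
    | zero => rw [map_zero, map_zero]
    | add y z _ _ hy hz => rw [map_add, map_add, hy, hz, add_zero]
    | smul r y _ hy => rw [map_smul, map_smul, hy, smul_zero]
  -- splitting a function into a constant and a function vanishing on the subscheme
  have hsplit : ∀ b : B, ∃ (r : R) (t : Γ(Mi, W)), b = ρ r + OmegaSh.idealSect i.ker W t := fun b => by
    obtain ⟨r, hr⟩ := hjsP (π b)
    obtain ⟨t, ht⟩ := exists_sect_of_app_eq_zero i (W := W) (b - ρ r) (by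
      show π (b - ρ r) = 0
      rw [map_sub, hπρ, hr, sub_self])
    exact ⟨r, t, by rw [ht, add_sub_cancel]⟩
  choose rc tc htc using hsplit
  obtain ⟨e, he⟩ := SchBasics.exists_chartEquiv hd hW hV hle
  have hsurjφ : Function.Surjective φL := fun x => by
    have hx : x ∈ Submodule.span Γ(Z, P) (Set.range fun m : Γ(Ω, W) => res ΩZ le_rfl (OmegaSh.pullSect i Ω W m)) :=
      (SchBasics.span_pullSect i Ω hiW hW le_rfl).ge trivial
    refine (Submodule.span_le.2 ?_ hx : x ∈ LinearMap.range φL)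
    rintro _ ⟨m, rfl⟩
    beta_reduce
    rw [res_self (M := ΩZ)]
    letI := (p.appLE V W hle).hom.toAlgebra
    obtain ⟨z, rfl⟩ := e.surjective m
    have hz : z ∈ Submodule.span B (Set.range (KaehlerDifferential.D R B)) := by
      rw [KaehlerDifferential.span_range_derivation]; trivial
    induction hz using Submodule.span_induction with
    | mem y hy =>
      obtain ⟨b, rfl⟩ := hy
      refine ⟨OmegaSh.conormalSect i W (tc b), ?_⟩
      rw [hφs, he]
      conv_rhs => rw [htc b, map_add, hdρ, zero_add]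
    | zero => rw [map_zero, map_zero]; exact zero_mem _
    | add y z _ _ hy hz => rw [map_add, map_add]; exact add_mem hy hz
    | smul r y _ hy => rw [map_smul, OmegaSh.pullSect_smul]; exact Submodule.smul_mem _ _ hy
  have hexact : ∀ x, φL x = 0 → x ∈ LinearMap.range ψL := by
    let N := Γ(Ci, P) ⧸ LinearMap.range ψL
    let q : Γ(Ci, P) →ₗ[Γ(Z, P)] N := (LinearMap.range ψL).mkQ
    let δ : B → N := fun b => q (OmegaSh.conormalSect i W (tc b))
    have hkey : ∀ (b : B) (r : R) (t : Γ(Mi, W)), b = ρ r + OmegaSh.idealSect i.ker W t →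
        δ b = q (OmegaSh.conormalSect i W t) := fun b r t h => by
      have hjr : j.app V (rc b - r) = 0 := by
        refine (hjker _).1 ?_
        rw [map_sub, ← hπρ, ← hπρ, sub_eq_zero]
        have h0 : ∀ s, π (OmegaSh.idealSect i.ker W s) = 0 := fun s => FlatMor67.app_idealSect i W s
        have := congrArg π ((htc b).symm.trans h)
        rwa [map_add, map_add, h0, h0, add_zero, add_zero] at this
      obtain ⟨k, hk⟩ := exists_sect_of_app_eq_zero j (W := V) (rc b - r) hjr
      obtain ⟨t₀, ht₀, ht₀'⟩ := hgen k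
      have htt : t = tc b + t₀ := idealSect_injective _ _ (by
        rw [map_add, ht₀, hk, map_sub]
        linear_combination ((htc b).symm.trans h).symm)
      rw [htt, map_add, map_add, ← ht₀', show q (ψ.app P (gen k)) = 0 from
        (Submodule.Quotient.mk_eq_zero _).2 ⟨gen k, rfl⟩, add_zero]
    letI := (p.appLE V W hle).hom.toAlgebra
    letI : Module B N := Module.compHom _ π
    letI : Module R N := Module.compHom _ (π.comp ρ)
    haveI : IsScalarTower R B N := IsScalarTower.of_algebraMap_smul fun _ _ => rfl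
    have hadd : ∀ a b, δ (a + b) = δ a + δ b := fun a b => by
      rw [hkey (a + b) (rc a + rc b) (tc a + tc b) (by rw [map_add, map_add]; linear_combination (htc a) + (htc b)),
        map_add, map_add]
    have hmul : ∀ a b, δ (a * b) = a • δ b + b • δ a := fun a b => by
      obtain ⟨t, ht⟩ := exists_sect_of_app_eq_zero i (W := W)
        (OmegaSh.idealSect i.ker W (tc a) * OmegaSh.idealSect i.ker W (tc b))
        (by rw [map_mul, FlatMor67.app_idealSect, zero_mul])
      have h0 : OmegaSh.conormalSect i W t = 0 := by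
        rw [conormalSect_eq_zero_iff i hW hiW his, ht, pow_two]
        exact Ideal.mul_mem_mul (FlatMor67.app_idealSect i W (tc a)) (FlatMor67.app_idealSect i W (tc b))
      have hab : ∀ b, π b = π (ρ (rc b)) := fun b => by
        conv_lhs => rw [htc b, map_add, show π (OmegaSh.idealSect i.ker W (tc b)) = 0 from
          FlatMor67.app_idealSect i W _, add_zero]
      show δ (a * b) = π a • δ b + π b • δ a
      rw [hkey (a * b) (rc a * rc b) (ρ (rc a) • tc b + ρ (rc b) • tc a + t) (by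
        rw [map_mul, map_add, map_add, idealSect_smul, idealSect_smul, ht]
        conv_lhs => rw [htc a, htc b]
        ring), map_add, map_add, map_add, map_add, h0, map_zero, add_zero, conormalSect_smul, conormalSect_smul,
        map_smul, map_smul, hab a, hab b]
    have hρ : ∀ r, δ (ρ r) = 0 := fun r => by
      rw [hkey (ρ r) r 0 (by rw [map_zero, add_zero]), map_zero, map_zero]
    let D : Derivation R B N := Derivation.mk'
      { toFun := δ, map_add' := hadd
        map_smul' := fun r b => by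
          show δ (ρ r * b) = π (ρ r) • δ b
          rw [hmul, hρ, smul_zero, add_zero]
          rfl }
      (fun a b => (hmul a b))
    let g₀ := D.liftKaehlerDifferential.comp e.symm.toLinearMap
    obtain ⟨l, hl⟩ := SchBasics.exists_linear_pullSect_module i Ω hiW hW le_rfl N
      (AddMonoidHom.mk' (fun m => g₀ m) fun a b => map_add g₀ a b) fun r m => by
        rw [← Scheme.Hom.app_eq_appLE]
        exact g₀.map_smul r m
    intro x hx
    obtain ⟨t, rfl⟩ := conormalSect_surjective i hW hiW his x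
    have h1 : l (φL (OmegaSh.conormalSect i W t)) = q (OmegaSh.conormalSect i W t) := by
      rw [hφs, ← res_self (M := ΩZ) (OmegaSh.pullSect i Ω W _), hl]
      show D.liftKaehlerDifferential (e.symm (d.app W _)) = _
      rw [← he, e.symm_apply_apply, Derivation.liftKaehlerDifferential_comp_D]
      exact hkey _ 0 t (by rw [map_zero, zero_add])
    rw [hx, map_zero] at h1
    exact (Submodule.Quotient.mk_eq_zero _).1 h1.symm
  refine ⟨hzero, hexact, hsurjφ, ?_⟩
  rintro ⟨σ, hσρ, hσπ⟩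
  have hlift : ∀ s : Γ(Mi, W), ∃ k : Γ(Mj, V),
      Ideal.Quotient.mk _ (OmegaSh.idealSect j.ker V k) = σ (OmegaSh.idealSect i.ker W s) := fun s => by
    obtain ⟨r, hr⟩ := Ideal.Quotient.mk_surjective (σ (OmegaSh.idealSect i.ker W s))
    obtain ⟨k, hk⟩ := exists_sect_of_app_eq_zero j (W := V) r ((hjker r).1
      ((hσπ _ r hr.symm).trans (FlatMor67.app_idealSect i W s)))
    exact ⟨k, by rw [hk, hr]⟩
  choose lk hlk using hlift
  have hclass : ∀ k k' : Γ(Mj, V),
      Ideal.Quotient.mk (RingHom.ker (j.app V).hom ^ 2) (OmegaSh.idealSect j.ker V k) =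
        Ideal.Quotient.mk _ (OmegaSh.idealSect j.ker V k') → gen k = gen k' := fun k k' h => by
    have h0 : OmegaSh.conormalSect j V (k - k') = 0 := by
      rw [conormalSect_eq_zero_iff j hV hjV hjs, map_sub]
      exact Ideal.Quotient.eq.1 h
    rw [map_sub, sub_eq_zero] at h0
    exact congrArg (fun z => res G hpre.le (OmegaSh.pullSect (𝟙 Z) (Omega.conormal j) (j ⁻¹ᵁ V) z)) h0
  have hgadd : ∀ a b, gen (a + b) = gen a + gen b := fun a b => by
    dsimp only [gen]
    rw [map_add, map_add, res_add]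
  have hgsmul : ∀ (r : R) k, gen (r • k) = j.appLE V P hpre.le r • gen k := fun r k => by
    dsimp only [gen]
    rw [conormalSect_smul, OmegaSh.pullSect_smul, res_smul]
    rfl
  obtain ⟨l, hl⟩ := SchBasics.exists_linear_pullSect i Mi G hiW hW le_rfl
    (AddMonoidHom.mk' (fun s => gen (lk s)) fun a b => by
      rw [← hgadd]
      exact hclass _ _ (by simp only [map_add, hlk]))
    fun b s => by
      obtain ⟨r, hr⟩ := Ideal.Quotient.mk_surjective (σ b)
      rw [← Scheme.Hom.app_eq_appLE, show i.app W b = j.appLE V P hpre.le r from (hσπ b r hr.symm).symm]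
      show gen (lk (b • s)) = _ • gen (lk s)
      rw [← hgsmul]
      refine hclass _ _ ?_
      rw [hlk, idealSect_smul, idealSect_smul, map_mul, map_mul, hlk, hr]
  refine ⟨l, fun x => ?_⟩
  show l (ψL x) = x
  induction hGspan x using Submodule.span_induction with
  | mem y hy =>
    obtain ⟨k, rfl⟩ := hy
    obtain ⟨t, ht, ht'⟩ := hgen k
    show l (ψ.app P (gen k)) = gen k
    rw [ht', ← res_self (M := Ci) (OmegaSh.conormalSect i W t)]
    refine (hl t).trans (hclass _ _ ?_)
    rw [hlk, ht, hσρ]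
  | zero => rw [map_zero, map_zero]
  | add y z _ _ hy hz => rw [map_add, map_add, hy, hz]
  | smul r y _ hy => rw [map_smul, map_smul, hy]

end Groth.Agent.Om3
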