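import Mathlib.RingTheory.Kaehler.JacobiZariski
import Mathlib.RingTheory.Smooth.Basic
import Mathlib.RingTheory.Etale.Basic
import Mathlib.RingTheory.Flat.Basic
import Mathlib.LinearAlgebra.ExteriorPower.Pairing
import Groth.Agent.Var76.KaehlerGen

/-! Differentials at a separable point. -/

set_option autoImplicit false

universe u

open TensorProduct KaehlerDifferential

noncomputable section

namespace Groth.Agent.Om3.GenDiff

open Groth.Agent

theorem mapBaseChange_injective (R B L : Type u) [CommRing R] [CommRing B] [CommRing L] [Algebra R B]
    [Algebra R L] [Algebra B L] [IsScalarTower R B L] [Algebra.FormallySmooth B L] :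
    Function.Injective (mapBaseChange R B L) := by
  haveI : Subsingleton (Algebra.H1Cotangent B L) := Algebra.FormallySmooth.subsingleton_h1Cotangent
  refine (injective_iff_map_eq_zero _).2 fun x hx => ?_
  obtain ⟨y, rfl⟩ := (Algebra.H1Cotangent.exact_δ_mapBaseChange R B L x).1 hx
  rw [Subsingleton.elim y 0, map_zero]

theorem span_range_D_map (R B L : Type u) [CommRing R] [CommRing B] [CommRing L] [Algebra R B]
    [Algebra R L] [Algebra B L] [IsScalarTower R B L] :
    LinearMap.range (mapBaseChange R B L) =
      Submodule.span L (Set.range fun b : B => D R L (algebraMap B L b)) := by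
  refine le_antisymm ?_ (Submodule.span_le.2 ?_)
  · rintro _ ⟨x, rfl⟩
    induction x with
    | zero => rw [map_zero]; exact zero_mem _
    | add a b ha hb => rw [map_add]; exact add_mem ha hb
    | tmul l m =>
      rw [mapBaseChange_tmul]
      refine Submodule.smul_mem _ _ ?_
      have hm : m ∈ Submodule.span B (Set.range (D R B)) := by
        rw [span_range_derivation]; trivial
      induction hm using Submodule.span_induction with
      | mem y hy => obtain ⟨b, rfl⟩ := hy; rw [map_D]; exact Submodule.subset_span ⟨b, rfl⟩
      | zero => rw [map_zero]; exact zero_mem _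
      | add a b _ _ ha hb => rw [map_add]; exact add_mem ha hb
      | smul a m' _ h => rw [map_smul, ← algebraMap_smul L a]; exact Submodule.smul_mem _ _ h
  · rintro _ ⟨b, rfl⟩
    exact ⟨(1 : L) ⊗ₜ D R B b, by rw [mapBaseChange_tmul, one_smul, map_D]⟩

/-- The differentials coming from an affine chart span a space of dimension at least the
transcendence degree of the residue field of the image point. -/
theorem trdeg_le_finrank_span (R B κ L : Type u) [Field R] [CommRing B] [Field κ] [Field L]
    [Algebra R B] [Algebra R κ] [Algebra R L] [Algebra B κ] [Algebra B L] [Algebra κ L]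
    [IsScalarTower R B κ] [IsScalarTower R B L] [IsScalarTower R κ L] [IsScalarTower B κ L]
    [Algebra.EssFiniteType R κ] [Algebra.FormallySmooth κ L]
    (hfrac : ∀ z : κ, ∃ a b : B, algebraMap B κ b ≠ 0 ∧ z = algebraMap B κ a / algebraMap B κ b) :
    Algebra.trdeg R κ ≤
      Module.finrank L (Submodule.span L (Set.range fun b : B => D R L (algebraMap B L b))) := by
  refine (Var76.KaehlerGen.trdeg_le_finrank R κ).trans (Nat.cast_le.2 ?_)
  have heq : Submodule.span L (Set.range fun b : B => D R L (algebraMap B L b)) =
      LinearMap.range (mapBaseChange R κ L) := by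
    rw [span_range_D_map]
    refine le_antisymm (Submodule.span_mono ?_) (Submodule.span_le.2 ?_)
    · rintro _ ⟨b, rfl⟩
      exact ⟨algebraMap B κ b, by simp only [← IsScalarTower.algebraMap_apply]⟩
    · rintro _ ⟨z, rfl⟩
      obtain ⟨a, b, hb, rfl⟩ := hfrac z
      have hbL : algebraMap κ L (algebraMap B κ b) ≠ 0 := (map_ne_zero _).2 hb
      show D R L (algebraMap κ L (algebraMap B κ a / algebraMap B κ b)) ∈ _
      rw [map_div₀, Derivation.leibniz_div]
      simp only [← IsScalarTower.algebraMap_apply]
      refine Submodule.smul_mem _ _ (sub_mem ?_ ?_) <;>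
        exact Submodule.smul_mem _ _ (Submodule.subset_span ⟨_, rfl⟩)
  rw [heq, LinearMap.finrank_range_of_inj (mapBaseChange_injective R κ L), Module.finrank_baseChange]

/-- From a spanning family of a subspace of dimension at least `m`, pick `m` independent members. -/
theorem exists_independent_subfamily {L W : Type u} [Field L] [AddCommGroup W] [Module L W] {d m : ℕ}
    (v : Fin d → W) (S : Submodule L W) (hS : S ≤ Submodule.span L (Set.range v)) (hm : m ≤ Module.finrank L S) :
    ∃ σ : Fin m → Fin d, LinearIndependent L (v ∘ σ) := by
  classical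
  obtain ⟨κ, a, ha, hspan, hli⟩ := exists_linearIndependent' L v
  haveI : Finite κ := Finite.of_injective a ha
  haveI := Fintype.ofFinite κ
  haveI : FiniteDimensional L (Submodule.span L (Set.range v)) := FiniteDimensional.span_of_finite L (Set.finite_range v)
  have hcard : m ≤ Fintype.card κ := by
    refine hm.trans ((Submodule.finrank_mono hS).trans ?_)
    rw [← hspan]
    exact finrank_range_le_card _
  let e : Fin m ↪ κ := (Fin.castLEEmb hcard).trans (Fintype.equivFin κ).symm.toEmbedding
  exact ⟨a ∘ e, hli.comp e e.injective⟩

/-- Independent vectors have nonzero exterior product. -/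
theorem ιMulti_ne_zero {L W : Type u} [Field L] [AddCommGroup W] [Module L W] {m : ℕ} {v : Fin m → W}
    (hv : LinearIndependent L v) : exteriorPower.ιMulti L m v ≠ 0 := by
  classical
  obtain ⟨P, hP⟩ := LinearMap.exists_leftInverse_of_injective (Fintype.linearCombination L v)
    (LinearMap.ker_eq_bot.2 (linearIndependent_iff_injective_fintypeLinearCombination.1 hv))
  intro h
  have h1 := congrArg (exteriorPower.alternatingMapLinearEquiv
    ((Pi.basisFun L (Fin m)).det.compLinearMap P)) h
  rw [exteriorPower.alternatingMapLinearEquiv_apply_ιMulti, map_zero, AlternatingMap.compLinearMap_apply] at h1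
  have h2 : (fun i => P (v i)) = Pi.basisFun L (Fin m) := by
    funext i
    have := LinearMap.congr_fun hP (Pi.single i 1)
    rw [LinearMap.comp_apply, Fintype.linearCombination_apply_single, one_smul] at this
    rw [this, Pi.basisFun_apply]
    rfl
  rw [h2, Module.Basis.det_self] at h1
  exact one_ne_zero h1

theorem baseChange_injective {B A L M : Type u} [CommRing B] [CommRing A] [CommRing L] [Algebra B A] [Algebra B L]
    [AddCommGroup M] [Module B M] [Module.Flat B M] (φ : A →ₗ[B] L) (hφ : Function.Injective φ) :
    Function.Injective (φ.rTensor M) :=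
  Module.Flat.rTensor_preserves_injective_linearMap φ hφ

end Groth.Agent.Om3.GenDiff
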