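import Groth.Agent.Om3.GenDiff
import Groth.Agent.Props58.LocFree.Basis
import Groth.Agent.FBase64.PointCmp
import Groth.Agent.FlatMor67.SmoothGeneric
import Groth.Agent.Om3.ExtPowPull
import Groth.Agent.E4O.OpenDim
import Groth.Prelude.Def_Pi1

/-! Independent differential forms coming from the image of a separable map. -/

set_option autoImplicit false
set_option backward.isDefEq.respectTransparency false

universe u

open CategoryTheory CategoryTheory.Limits AlgebraicGeometry TopologicalSpace Opposite TensorProduct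

noncomputable section

namespace Groth.Agent.Om3.GenDiff

open Groth.Agent QC70 Var76.OmegaUniv Props58.LocFree

variable {k : Type u} [Field k] {X Z : Scheme.{u}}

theorem exists_frame {M : X.Modules} {d : ℕ} (i : M ≅ FlatMod.freeMod X d) :
    ∃ e : Fin d → Γ(M, ⊤), ∀ (W : X.Opens) (z : Γ(M, W)),
      ∃ a : Fin d → Γ(X, W), ∑ j, a j • res M le_top (e j) = z := by
  refine ⟨fun j => i.inv.app ⊤ (unitVec X d j), fun W z => ?_⟩
  obtain ⟨a, ha⟩ := free_exists_comb (i.hom.app W z)
  refine ⟨a, ?_⟩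
  have h := congrArg (fun y => i.inv.app W y) ha
  simp only at h
  rw [map_sum] at h
  refine Eq.trans (Finset.sum_congr rfl fun j _ => ?_)
    (h.trans (congr($(congrArg (fun t => Scheme.Modules.Hom.app t W) i.hom_inv_id) z)))
  refine Eq.trans ?_ (Scheme.Modules.Hom.app_smul i.inv _ _).symm
  exact congrArg (a j • ·) (app_res i.inv le_top _).symm

theorem trdeg_toRes {pZ : Z ⟶ Spec (CommRingCat.of k)} {V : Z.Opens} (hV : IsAffineOpen V) (η : Z) (hη : η ∈ V) :
    letI := (toRes pZ η hη).toAlgebra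
    Algebra.trdeg (R0 k) (Z.residueField η) = WC97.tdeg pZ η := by
  letI := (toRes pZ η hη).toAlgebra
  unfold WC97.tdeg
  letI := (WC97.kStr pZ η).toAlgebra
  refine E4O.trdeg_eq_of_ringEquiv (Scheme.ΓSpecIso (CommRingCat.of k)).commRingCatIsoToRingEquiv
    (RingEquiv.refl _) ?_
  have h : CommRingCat.ofHom (WC97.kSec pZ hV) = (Scheme.ΓSpecIso (CommRingCat.of k)).inv ≫ pZ.appLE ⊤ V le_top := by
    apply Spec.map_injective
    rw [Spec.map_comp]
    have h2 := (isAffineOpen_top (Spec (CommRingCat.of k))).SpecMap_appLE_fromSpec pZ hV (le_top : V ≤ pZ ⁻¹ᵁ ⊤)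
    rw [IsAffineOpen.fromSpec_top, Scheme.isoSpec_Spec_inv] at h2
    rw [h2]
    exact Spec.map_preimage _
  refine RingHom.ext fun r => ?_
  show WC97.kStr pZ η ((Scheme.ΓSpecIso (CommRingCat.of k)).hom r) = Z.evaluation V η hη (pZ.appLE ⊤ V le_top r)
  rw [WC97.kStr_eq pZ hV hη, RingHom.comp_apply]
  refine congrArg (Z.evaluation V η hη) ?_
  have h3 := congr($h ((Scheme.ΓSpecIso (CommRingCat.of k)).hom r))
  refine h3.trans ?_
  rw [CategoryTheory.comp_apply, Iso.hom_inv_id_apply]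

theorem essFiniteType_toRes {pZ : Z ⟶ Spec (CommRingCat.of k)} [LocallyOfFiniteType pZ] {V : Z.Opens}
    (hV : IsAffineOpen V) (η : Z) (hη : η ∈ V) :
    letI := (toRes pZ η hη).toAlgebra
    Algebra.EssFiniteType (R0 k) (Z.residueField η) := by
  letI := (toRes pZ η hη).toAlgebra
  letI : Algebra (R0 k) Γ(Z, V) := (pZ.appLE ⊤ V le_top).hom.toAlgebra
  haveI : Algebra.FiniteType (R0 k) Γ(Z, V) := pZ.finiteType_appLE (isAffineOpen_top _) hV le_top
  let φ : Γ(Z, V) →ₐ[R0 k] Z.residueField η := ⟨(Z.evaluation V η hη).hom, fun _ => rfl⟩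
  classical
  obtain ⟨s, hs⟩ := Algebra.FiniteType.out (R := R0 k) (A := Γ(Z, V))
  rw [Algebra.essFiniteType_iff]
  refine ⟨s.image φ, fun z => ?_⟩
  have hmem : ∀ a, φ a ∈ Algebra.adjoin (R0 k) ((s.image φ : Finset _) : Set (Z.residueField η)) := by
    intro a
    rw [Finset.coe_image, ← AlgHom.map_adjoin, hs]
    exact ⟨a, trivial, rfl⟩
  obtain ⟨a, b, hb, rfl⟩ := WC97.evaluation_div hV hη z
  exact ⟨φ b, hmem b, isUnit_iff_ne_zero.2 hb, by
    show φ a / φ b * φ b ∈ _
    rw [div_mul_cancel₀ _ (show φ b ≠ 0 from hb)]; exact hmem a⟩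

variable {pX : X ⟶ Spec (CommRingCat.of k)} {pZ : Z ⟶ Spec (CommRingCat.of k)}

theorem exists_chart_forms [IsIntegral X] [LocallyOfFiniteType pZ] (f : X ⟶ Z) (w : f ≫ pZ = pX)
    [LocallyOfFiniteType f] (m : ℕ) (hm : WC97.tdeg pZ (f (genericPoint X)) = (m : Cardinal.{u}))
    (hsep : GeometricallyReduced (f.fiberToSpecResidueField (f (genericPoint X))))
    {ΩZ : Z.Modules} {dZ : OmegaSh.Der pZ ΩZ}
    {ΩX : X.Modules} {dX : OmegaSh.Der pX ΩX} (hX : OmegaSh.IsUniversal dX)
    {c : (Scheme.Modules.pullback f).obj ΩZ ⟶ ΩX} (hc : OmegaSh.IsDiffCompat f dZ dX c)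
    (hfree : ∃ d : ℕ, Nonempty ((Scheme.Modules.pullback f).obj ΩZ ≅ FlatMod.freeMod X d))
    (U : X.Opens) (hU : genericPoint X ∈ U) :
    ∃ (s : Fin m → Γ(ΩX, U)) (A : X.Opens) (hA : IsAffineOpen A) (hAU : A ≤ U) (hx : genericPoint X ∈ A),
      letI := (toRes pX (genericPoint X) hx).toAlgebra
      ∃ θ : Γ(ΩX, A) →+ Ω[X.residueField (genericPoint X)⁄R0 k],
        (∀ a m, θ (a • m) = X.evaluation A (genericPoint X) hx a • θ m) ∧
        LinearIndependent (X.residueField (genericPoint X)) fun j => θ (res ΩX hAU (s j)) := by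
  obtain ⟨d, ⟨i⟩⟩ := hfree
  let M := (Scheme.Modules.pullback f).obj ΩZ
  obtain ⟨e, he⟩ := exists_frame i
  let x := genericPoint X
  obtain ⟨V, hV, hxV, -⟩ := exists_isAffineOpen_mem_and_subset (x := f x) (U := ⊤) trivial
  obtain ⟨A, hA, hx, hAle⟩ := exists_isAffineOpen_mem_and_subset (x := x) (U := U ⊓ f ⁻¹ᵁ V) ⟨hU, hxV⟩
  have hAU : A ≤ U := fun a ha => (hAle ha).1
  have eAV : A ≤ f ⁻¹ᵁ V := fun a ha => (hAle ha).2
  letI : Algebra (R0 k) (X.residueField x) := (toRes pX x hx).toAlgebra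
  obtain ⟨θ, hθ, hθd⟩ := exists_theta hX hA x hx
  letI : Algebra (R0 k) Γ(Z, V) := (pZ.appLE ⊤ V le_top).hom.toAlgebra
  letI : Algebra (R0 k) (Z.residueField (f x)) := (toRes pZ (f x) hxV).toAlgebra
  letI : Algebra Γ(Z, V) (Z.residueField (f x)) := (Z.evaluation V (f x) hxV).hom.toAlgebra
  letI : Algebra (Z.residueField (f x)) (X.residueField x) := (f.residueFieldMap x).hom.toAlgebra
  letI : Algebra Γ(Z, V) (X.residueField x) := ((X.evaluation A x hx).hom.comp (f.appLE V A eAV).hom).toAlgebra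
  haveI : IsScalarTower (R0 k) Γ(Z, V) (Z.residueField (f x)) := IsScalarTower.of_algebraMap_eq fun _ => rfl
  haveI : IsScalarTower Γ(Z, V) (Z.residueField (f x)) (X.residueField x) :=
    IsScalarTower.of_algebraMap_eq fun b => (residueFieldMap_evaluation f eAV x hx b).symm
  haveI : IsScalarTower (R0 k) Γ(Z, V) (X.residueField x) :=
    IsScalarTower.of_algebraMap_eq fun r => congrArg (X.evaluation A x hx) (appLE_base f w eAV r).symm
  haveI : IsScalarTower (R0 k) (Z.residueField (f x)) (X.residueField x) :=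
    IsScalarTower.of_algebraMap_eq fun r =>
      ((residueFieldMap_evaluation f eAV x hx _).trans
        (congrArg (X.evaluation A x hx) (appLE_base f w eAV r))).symm
  haveI : Algebra.FormallySmooth (Z.residueField (f x)) (X.residueField x) :=
    formallySmooth_residueFieldMap f hsep
  haveI : Algebra.EssFiniteType (R0 k) (Z.residueField (f x)) := essFiniteType_toRes hV (f x) hxV
  have hdim := trdeg_le_finrank_span (R0 k) Γ(Z, V) (Z.residueField (f x)) (X.residueField x)
    (WC97.evaluation_div hV hxV)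
  rw [trdeg_toRes hV (f x) hxV, hm, Nat.cast_le] at hdim
  let v : Fin d → Ω[X.residueField x⁄R0 k] := fun j => θ (res ΩX le_top (c.app ⊤ (e j)))
  have hle : Submodule.span (X.residueField x) (Set.range fun b : Γ(Z, V) =>
      KaehlerDifferential.D (R0 k) (X.residueField x) (algebraMap Γ(Z, V) (X.residueField x) b)) ≤
      Submodule.span (X.residueField x) (Set.range v) := by
    refine Submodule.span_le.2 ?_
    rintro _ ⟨b, rfl⟩
    obtain ⟨a, ha⟩ := he A (res M eAV (OmegaSh.pullSect f ΩZ V (dZ.app V b)))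
    have h2 : θ (c.app A (res M eAV (OmegaSh.pullSect f ΩZ V (dZ.app V b)))) =
        KaehlerDifferential.D (R0 k) (X.residueField x) (algebraMap Γ(Z, V) (X.residueField x) b) := by
      rw [QC70.app_res, hc, ← Der.res]
      exact hθd _
    show KaehlerDifferential.D _ _ _ ∈ _
    rw [← h2, ← ha]
    rw [show c.app A (∑ j, a j • res M le_top (e j)) = ∑ j, a j • res ΩX le_top (c.app ⊤ (e j)) from
      (map_sum (c.app A).hom _ _).trans (Finset.sum_congr rfl fun j _ =>
        (Scheme.Modules.Hom.app_smul c _ _).trans (congrArg (a j • ·) (app_res c le_top (e j))))]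
    rw [map_sum]
    refine Submodule.sum_mem _ fun j _ => ?_
    rw [hθ]
    exact Submodule.smul_mem _ _ (Submodule.subset_span ⟨j, rfl⟩)
  obtain ⟨σ, hσ⟩ := exists_independent_subfamily v _ hle hdim
  refine ⟨fun j => res ΩX le_top (c.app ⊤ (e (σ j))), A, hA, hAU, hx, θ, hθ, ?_⟩
  simp only [res_res]
  exact hσ

theorem linearIndependent_sections [IsIntegral X] [IsProper pX] [IsProper pZ] (f : X ⟶ Z) (w : f ≫ pZ = pX)
    (η : Z) (hη : closure {η} = closure (Set.range f.base)) (m : ℕ)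
    (hm : topologicalKrullDim (closure (Set.range f.base)) = m)
    (hsep : GeometricallyReduced (pullback.snd f (Z.fromSpecResidueField η)))
    {ΩZ : Z.Modules} {dZ : OmegaSh.Der pZ ΩZ}
    {ΩX : X.Modules} {dX : OmegaSh.Der pX ΩX} (hX : OmegaSh.IsUniversal dX)
    {c : (Scheme.Modules.pullback f).obj ΩZ ⟶ ΩX} (hc : OmegaSh.IsDiffCompat f dZ dX c)
    (hfree : ∃ d : ℕ, Nonempty ((Scheme.Modules.pullback f).obj ΩZ ≅ FlatMod.freeMod X d))
    (U : X.Opens) (hU : genericPoint X ∈ U) :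
    ∃ (s : Fin m → Γ(ΩX, U)) (A : X.Opens) (hA : IsAffineOpen A) (hAU : A ≤ U) (hx : genericPoint X ∈ A),
      letI := (toRes pX (genericPoint X) hx).toAlgebra
      ∃ θ : Γ(ΩX, A) →+ Ω[X.residueField (genericPoint X)⁄R0 k],
        (∀ a m, θ (a • m) = X.evaluation A (genericPoint X) hx a • θ m) ∧
        LinearIndependent (X.residueField (genericPoint X)) fun j => θ (res ΩX hAU (s j)) := by
  haveI : LocallyOfFiniteType (f ≫ pZ) := by rw [w]; infer_instance
  haveI : LocallyOfFiniteType f := locallyOfFiniteType_of_comp f pZ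
  obtain rfl := eq_of_closure_eq f hη
  refine exists_chart_forms f w m ?_ hsep hX hc hfree U hU
  have h : topologicalKrullDim ↥(closure ({f (genericPoint X)} : Set Z)) = (m : WithBot ℕ∞) := by
    rw [hη]; exact hm
  rw [WC97.topologicalKrullDim_closure pZ] at h
  rw [WC97.tdeg_eq_natCast]
  exact_mod_cast h

end Groth.Agent.Om3.GenDiff

namespace Groth.Agent.Om3.GenDiff

open Groth.Agent QC70

theorem genericPoint_mem_maximal {k : Type u} [Field k] {X : Scheme.{u}} [IsIntegral X]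
    {pX : X ⟶ Spec (CommRingCat.of k)} [IsProper pX]
    (hgn : ∀ (K : Type u) [Field K] [Algebra k K] [IsAlgClosure k K],
      Pi1.IsNormalScheme (pullback pX (Spec.map (CommRingCat.ofHom (algebraMap k K)))))
    (U : X.Opens) (hUmax : ∀ V : X.Opens, Smooth (V.ι ≫ pX) → V ≤ U) : genericPoint X ∈ U := by
  haveI : AlgebraicGeometry.IsReduced (FBase.bc pX (AlgebraicClosure k)) := by
    haveI : ∀ y, _root_.IsReduced ((FBase.bc pX (AlgebraicClosure k)).presheaf.stalk y) := fun y => by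
      haveI h : IsDomain ((FBase.bc pX (AlgebraicClosure k)).presheaf.stalk y) := (hgn (AlgebraicClosure k) y).1
      exact ⟨fun a ha => ha.eq_zero⟩
    exact isReduced_of_isReduced_stalk _
  haveI : GeometricallyReduced pX := FBase64.geometricallyReduced_of_isReduced_perfect pX (AlgebraicClosure k)
  haveI : IsDominant pX := ⟨fun y => subset_closure ⟨genericPoint X, Subsingleton.elim _ _⟩⟩
  haveI : LocallyOfFinitePresentation pX := inferInstance
  refine hUmax pX.smoothLocus ?_ (FlatMor67.genericPoint_mem_smoothLocus pX inferInstance)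
  rw [← Scheme.Hom.smoothLocus_eq_top_iff, ← Scheme.Hom.preimage_smoothLocus_eq]
  exact Scheme.Opens.ι_preimage_self _

variable {k : Type u} [Field k] {X : Scheme.{u}} {pX : X ⟶ Spec (CommRingCat.of k)} [IsIntegral X]

theorem linearIndependent_of_chart {ΩX : X.Modules} {U A : X.Opens} (hAU : A ≤ U) (hx : genericPoint X ∈ A)
    {m : ℕ} (s : Fin m → Γ(ΩX, U)) :
    letI := (toRes pX (genericPoint X) hx).toAlgebra
    ∀ (θ : Γ(ΩX, A) →+ Ω[X.residueField (genericPoint X)⁄R0 k]),
      (∀ a m, θ (a • m) = X.evaluation A (genericPoint X) hx a • θ m) →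
      LinearIndependent (X.residueField (genericPoint X)) (fun j => θ (res ΩX hAU (s j))) →
      LinearIndependent Γ(X, U) s := by
  letI := (toRes pX (genericPoint X) hx).toAlgebra
  intro θ hθ hli
  rw [Fintype.linearIndependent_iff] at hli ⊢
  intro r hr j
  have h : ∑ j, X.evaluation A (genericPoint X) hx (resO X hAU (r j)) • θ (res ΩX hAU (s j)) = 0 := by
    have h0 := congrArg θ ((congrArg (res ΩX hAU) hr).trans (QC70.res_zero _))
    rw [map_zero, QC70.res_sum, map_sum] at h0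
    simp only [res_smul, hθ] at h0
    exact h0
  have h1 := hli _ h j
  refine evaluation_injective (A := U) (hAU hx) ?_
  rw [map_zero, ← h1]
  show X.residue _ (X.presheaf.germ U _ (hAU hx) (r j)) = X.residue _ (X.presheaf.germ A _ hx (resO X hAU (r j)))
  rw [germ_resO]

theorem exists_ne_zero_wedge {ΩX Ωm : X.Modules} {U A : X.Opens} (hA : IsAffineOpen A) (hAU : A ≤ U)
    (hx : genericPoint X ∈ A) {m : ℕ} (hΩm : ExtPow.IsExtPow m ΩX Ωm) (s : Fin m → Γ(ΩX, U)) :
    letI := (toRes pX (genericPoint X) hx).toAlgebra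
    ∀ (θ : Γ(ΩX, A) →+ Ω[X.residueField (genericPoint X)⁄R0 k]),
      (∀ a m, θ (a • m) = X.evaluation A (genericPoint X) hx a • θ m) →
      LinearIndependent (X.residueField (genericPoint X)) (fun j => θ (res ΩX hAU (s j))) →
      ∃ t : Γ(Ωm, U), t ≠ 0 := by
  letI := (toRes pX (genericPoint X) hx).toAlgebra
  intro θ hθ hli
  obtain ⟨ψ, hψ⟩ := exists_psi hΩm
  let ι := {W : X.affineOpens // W.1 ≤ U}
  have hcov : U ≤ ⨆ i : ι, i.1.1 := fun q hq => by
    obtain ⟨W, hW, hqW, hWU⟩ := exists_isAffineOpen_mem_and_subset (x := q) (U := U) hq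
    exact Opens.mem_iSup.2 ⟨⟨⟨W, hW⟩, hWU⟩, hqW⟩
  obtain ⟨t, ht⟩ := exists_glue Ωm (fun i : ι => i.1.1) (fun i => i.2) hcov
    (fun i => ψ i.1 (exteriorPower.ιMulti _ m fun j => res ΩX i.2 (s j))) fun i j => by
    refine section_ext _ _ _ fun q hq => ?_
    obtain ⟨W, hW, hqW, hWle⟩ := exists_isAffineOpen_mem_and_subset (x := q) (U := i.1.1 ⊓ j.1.1) hq
    have hi : W ≤ i.1.1 := fun a ha => (hWle ha).1
    have hj : W ≤ j.1.1 := fun a ha => (hWle ha).2
    refine ⟨W, le_inf hi hj, hqW, ?_⟩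
    rw [res_res, res_res, hψ i.1 ⟨W, hW⟩ hi, hψ j.1 ⟨W, hW⟩ hj, resExt_ιMulti, resExt_ιMulti]
    simp only [res_res]
  refine ⟨t, fun h0 => ?_⟩
  have h1 := ht ⟨⟨A, hA⟩, hAU⟩
  rw [h0, QC70.res_zero] at h1
  have h2 : exteriorPower.ιMulti Γ(X, A) m (fun j => res ΩX hAU (s j)) = 0 :=
    (ψ ⟨A, hA⟩).injective (h1.symm.trans (map_zero _).symm)
  letI : Algebra Γ(X, A) (X.residueField (genericPoint X)) := (X.evaluation A (genericPoint X) hx).hom.toAlgebra
  let l : Γ(ΩX, A) →ₗ[Γ(X, A)] Ω[X.residueField (genericPoint X)⁄R0 k] :=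
    { toFun := θ
      map_add' := map_add θ
      map_smul' := fun a y => (hθ a y).trans (algebraMap_smul (X.residueField (genericPoint X)) a (θ y)) }
  have h3 := congrArg (ExtPowAlg.extMap (S := X.residueField (genericPoint X)) l m) h2
  rw [ExtPowAlg.extMap_ιMulti, map_zero] at h3
  exact ιMulti_ne_zero hli h3

end Groth.Agent.Om3.GenDiff
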