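import Groth.Agent.DiffOpCalc.DeRham
import Groth.Agent.DR29.Variable

/-! The de Rham differential on the whole exterior algebra, and its degreewise restriction. -/

set_option autoImplicit false

universe u

open exteriorPower

namespace Groth.Agent.Om3

open DiffOpCalc.DeRham

variable {R A : Type u} [CommRing R] [CommRing A] [Algebra R A]

theorem ext_smul (r : R) (e : EA R A) : ext (r • e) = r • ext e := by
  have h0 : ext (algebraMap A (EA R A) (algebraMap R A r)) = 0 := by
    rw [ext_algebraMap, Derivation.map_algebraMap, map_zero]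
  rw [← algebraMap_smul A r e, ← algebraMap_smul A r (ext e), Algebra.smul_def, Algebra.smul_def, ext_mul, h0, zero_mul,
    add_zero, AlgHom.commutes]

/-- The differential as a linear map. -/
noncomputable def extLin : EA R A →ₗ[R] EA R A where
  toFun := ext
  map_add' := map_add ext
  map_smul' r e := ext_smul r e

theorem ι_mem_one (x : KaehlerDifferential R A) :
    ExteriorAlgebra.ι A x ∈ ExteriorAlgebra.exteriorPower A 1 (KaehlerDifferential R A) := by
  show _ ∈ LinearMap.range (ExteriorAlgebra.ι A) ^ 1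
  rw [pow_one]; exact ⟨x, rfl⟩

theorem algebraMap_mem_zero (a : A) :
    algebraMap A (EA R A) a ∈ ExteriorAlgebra.exteriorPower A 0 (KaehlerDifferential R A) := by
  show _ ∈ LinearMap.range (ExteriorAlgebra.ι A) ^ 0
  rw [pow_zero]; exact Submodule.mem_one.2 ⟨a, rfl⟩

theorem mul_mem_deg {p q : ℕ} {x y : EA R A} (hx : x ∈ ExteriorAlgebra.exteriorPower A p (KaehlerDifferential R A))
    (hy : y ∈ ExteriorAlgebra.exteriorPower A q (KaehlerDifferential R A)) :
    x * y ∈ ExteriorAlgebra.exteriorPower A (p + q) (KaehlerDifferential R A) := by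
  show _ ∈ LinearMap.range (ExteriorAlgebra.ι A) ^ (p + q)
  rw [pow_add]; exact Submodule.mul_mem_mul hx hy

theorem ext_ι_mem (v : KaehlerDifferential R A) :
    ext (ExteriorAlgebra.ι A v) ∈ ExteriorAlgebra.exteriorPower A 2 (KaehlerDifferential R A) := by
  have hv : v ∈ Submodule.span A (Set.range (KaehlerDifferential.D R A)) := by
    rw [KaehlerDifferential.span_range_derivation]; trivial
  induction hv using Submodule.span_induction with
  | mem v hv => obtain ⟨b, rfl⟩ := hv; rw [ext_ι_D]; exact zero_mem _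
  | zero => simp
  | add x z _ _ hx hz => rw [map_add, map_add]; exact add_mem hx hz
  | smul c x _ hx =>
    rw [map_smul, Algebra.smul_def, ext_mul, AlgHom.commutes, ext_algebraMap]
    exact add_mem (mul_mem_deg (p := 0) (algebraMap_mem_zero c) hx) (mul_mem_deg (p := 1) (ι_mem_one _) (ι_mem_one _))

theorem ext_mem {p : ℕ} {x : EA R A} (hx : x ∈ ExteriorAlgebra.exteriorPower A p (KaehlerDifferential R A)) :
    ext x ∈ ExteriorAlgebra.exteriorPower A (p + 1) (KaehlerDifferential R A) := by
  induction hx using Submodule.pow_induction_on_left' with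
  | algebraMap r => rw [ext_algebraMap]; exact ι_mem_one _
  | add x y i _ _ hx hy => rw [map_add]; exact add_mem hx hy
  | mem_mul m hm i x hxm hx =>
    obtain ⟨v, rfl⟩ := hm
    rw [ext_mul, sgn_ι]
    refine add_mem ?_ ?_
    · rw [neg_mul]
      have := mul_mem_deg (ι_mem_one v) hx
      rw [show 1 + (i + 1) = i + 1 + 1 by omega] at this
      exact neg_mem this
    · have := mul_mem_deg (ext_ι_mem v) hxm
      rwa [show 2 + i = i + 1 + 1 by omega] at this

theorem existsUnique_diff :
    ∃! d : EA R A →ₗ[R] EA R A,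
      (∀ a : A, d (algebraMap A (EA R A) a) = ExteriorAlgebra.ι A (KaehlerDifferential.D R A a)) ∧
      (∀ (p : ℕ) (x : EA R A), x ∈ ExteriorAlgebra.exteriorPower A p (KaehlerDifferential R A) →
        d x ∈ ExteriorAlgebra.exteriorPower A (p + 1) (KaehlerDifferential R A)) ∧
      (∀ (p : ℕ) (x y : EA R A), x ∈ ExteriorAlgebra.exteriorPower A p (KaehlerDifferential R A) →
        d (x * y) = d x * y + (-1) ^ p * x * d y) ∧
      (∀ x : EA R A, d (d x) = 0) := by
  refine ⟨extLin, ⟨ext_algebraMap, fun p x hx => ext_mem hx, fun p x y hx => ?_, fun x => (ext_sgn_and_ext x).2⟩,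
    fun d ⟨hD, _, hmul, hdd⟩ => ?_⟩
  · show ext (x * y) = ext x * y + _
    rw [ext_graded hx, zsmul_eq_mul, mul_assoc]
    push_cast
    rfl
  · have h : d.toAddMonoidHom = ext := eq_of_properties d.toAddMonoidHom hdd hD fun p q ω η hω _ => by
      show d (ω * η) = _
      rw [hmul p ω η hω, zsmul_eq_mul, mul_assoc]
      push_cast
      rfl
    exact LinearMap.ext fun x => DFunLike.congr_fun h x

section Restrict

variable (d : EA R A →ₗ[R] EA R A)
  (hdeg : ∀ (p : ℕ) (ω : EA R A), ω ∈ ExteriorAlgebra.exteriorPower A p (KaehlerDifferential R A) →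
    d ω ∈ ExteriorAlgebra.exteriorPower A (p + 1) (KaehlerDifferential R A))

/-- The degreewise differential. -/
noncomputable def restr (p : ℕ) :
    ↥(⋀[A]^p (KaehlerDifferential R A)) →ₗ[R] ↥(⋀[A]^(p + 1) (KaehlerDifferential R A)) where
  toFun x := ⟨d x, hdeg p x x.2⟩
  map_add' x y := Subtype.ext (by simp)
  map_smul' r x := Subtype.ext (by simp)

theorem restr_coe (p : ℕ) (x : ↥(⋀[A]^p (KaehlerDifferential R A))) : (restr d hdeg p x : EA R A) = d x := rfl

variable (h0 : ∀ a : A, d (algebraMap A (EA R A) a) = ExteriorAlgebra.ι A (KaehlerDifferential.D R A a))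
  (hder : ∀ (p : ℕ) (ω η : EA R A), ω ∈ ExteriorAlgebra.exteriorPower A p (KaehlerDifferential R A) →
    d (ω * η) = d ω * η + (-1) ^ p * ω * d η)
  (hdd : ∀ ω, d (d ω) = 0)

include h0 hder hdd

theorem d_iMulti_D (p : ℕ) (b : Fin p → A) :
    d (ιMulti A p (fun i => KaehlerDifferential.D R A (b i)) : EA R A) = 0 := by
  induction p with
  | zero =>
    rw [ιMulti_apply_coe, ExteriorAlgebra.ιMulti_zero_apply, ← map_one (algebraMap A (EA R A)), h0,
      Derivation.map_one_eq_zero, map_zero]
  | succ p ih =>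
    rw [← Fin.cons_self_tail (fun i => KaehlerDifferential.D R A (b i)), DR29.coe_cons]
    rw [hder 1 _ _ (ι_mem_one _), ← h0 (b 0), hdd, zero_mul, zero_add]
    have := ih (fun i => b i.succ)
    change d (ιMulti A p (Fin.tail fun i => KaehlerDifferential.D R A (b i)) : EA R A) = 0 at this
    rw [this, mul_zero]

theorem isDiff_restr : DeRham.IsDiff (KaehlerDifferential.D R A) (restr d hdeg) := by
  refine ⟨fun p b₀ b => Subtype.ext ?_, fun p => LinearMap.ext fun x => Subtype.ext (hdd _)⟩
  rw [restr_coe, DeRham.gen, SetLike.val_smul, Algebra.smul_def, hder 0 _ _ (algebraMap_mem_zero b₀),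
    d_iMulti_D d h0 hder hdd, mul_zero, add_zero, h0, DR29.coe_cons]

end Restrict

end Groth.Agent.Om3
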