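import Groth.Agent.Om3.Compat
import Groth.Agent.Om3.Chart

/-! The conormal sequence of an immersion with a left inverse is split exact. -/

set_option autoImplicit false
set_option backward.isDefEq.respectTransparency false

universe u

open CategoryTheory CategoryTheory.Limits AlgebraicGeometry TopologicalSpace Opposite

noncomputable section

namespace Groth.Agent.Om3

open Groth.Agent QC70 Omega57 Var76.OmegaUniv

namespace LeftInv

variable {Z X S : Scheme.{u}} (f : X ⟶ S) (i : Z ⟶ X) [QuasiCompact i] (g : X ⟶ Z) (hgi : i ≫ g = 𝟙 Z)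

/-- The part of `U` sent by `g` into the trace of `U` on the subscheme. -/
def shrink (U : X.Opens) : X.Opens := U ⊓ g ⁻¹ᵁ (i ⁻¹ᵁ U)

omit [QuasiCompact i] in
theorem shrink_le (U : X.Opens) : shrink i g U ≤ U := inf_le_left

omit [QuasiCompact i] in
theorem shrink_le' (U : X.Opens) : shrink i g U ≤ g ⁻¹ᵁ (i ⁻¹ᵁ U) := inf_le_right

include hgi in
omit [QuasiCompact i] in
theorem preimage_shrink (U : X.Opens) : i ⁻¹ᵁ shrink i g U = i ⁻¹ᵁ U := by
  show i ⁻¹ᵁ U ⊓ i ⁻¹ᵁ (g ⁻¹ᵁ (i ⁻¹ᵁ U)) = _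
  rw [← Scheme.Hom.comp_preimage, hgi]
  exact inf_idem _

/-- A function minus the constant function with the same trace. -/
def eps (U : X.Opens) (a : Γ(X, U)) : Γ(X, shrink i g U) :=
  resO X (shrink_le i g U) a - g.appLE (i ⁻¹ᵁ U) (shrink i g U) (shrink_le' i g U) (i.app U a)

include hgi in
omit [QuasiCompact i] in
theorem app_eps (U : X.Opens) (a : Γ(X, U)) : i.app (shrink i g U) (eps i g U a) = 0 := by
  have key : ∀ (q : Z ⟶ Z) (e : i ⁻¹ᵁ shrink i g U ≤ q ⁻¹ᵁ (i ⁻¹ᵁ U)), q = i ≫ g → ∀ b,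
      i.app (shrink i g U) (g.appLE (i ⁻¹ᵁ U) (shrink i g U) (shrink_le' i g U) b) = q.appLE (i ⁻¹ᵁ U) _ e b := by
    rintro q e rfl b
    rw [← ConcreteCategory.comp_apply, Scheme.Hom.app_eq_appLE, Scheme.Hom.appLE_comp_appLE]
  rw [eps, map_sub, key (𝟙 Z) (i.preimage_mono (shrink_le i g U)) hgi.symm, sub_eq_zero]
  refine (congr($(Scheme.Hom.naturality i (homOfLE (shrink_le i g U)).op) a)).trans ?_
  rw [Scheme.Hom.appLE, Scheme.Hom.id_app, Category.id_comp]
  rfl

/-- The class of the difference in the conormal sheaf. -/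
def cls (U : X.Opens) (a : Γ(X, U)) : Γ(Omega.conormal i, i ⁻¹ᵁ U) :=
  res (Omega.conormal i) (preimage_shrink i g hgi U).ge
    (OmegaSh.conormalSect i (shrink i g U) (exists_sect_of_app_eq_zero i _ (app_eps i g hgi U a)).choose)

theorem cls_eq (U : X.Opens) (a : Γ(X, U)) (t : Γ(ClSub.idealMod i.ker, shrink i g U))
    (h : OmegaSh.idealSect i.ker _ t = eps i g U a) :
    cls i g hgi U a = res (Omega.conormal i) (preimage_shrink i g hgi U).ge (OmegaSh.conormalSect i _ t) := by
  rw [cls, show (exists_sect_of_app_eq_zero i _ (app_eps i g hgi U a)).choose = t from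
    idealSect_injective _ _ ((exists_sect_of_app_eq_zero i _ (app_eps i g hgi U a)).choose_spec.trans h.symm)]

omit [QuasiCompact i] in
theorem eps_add (U : X.Opens) (a b : Γ(X, U)) : eps i g U (a + b) = eps i g U a + eps i g U b := by
  simp only [eps, map_add, resO]
  abel

theorem cls_add (U : X.Opens) (a b : Γ(X, U)) : cls i g hgi U (a + b) = cls i g hgi U a + cls i g hgi U b := by
  obtain ⟨s, hs⟩ := exists_sect_of_app_eq_zero i _ (app_eps i g hgi U a)
  obtain ⟨t, ht⟩ := exists_sect_of_app_eq_zero i _ (app_eps i g hgi U b)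
  rw [cls_eq i g hgi U (a + b) (s + t) (by rw [map_add, hs, ht, eps_add]), cls_eq i g hgi U a s hs,
    cls_eq i g hgi U b t ht, map_add, res_add]

omit [QuasiCompact i] in
theorem eps_mul (U : X.Opens) (a b : Γ(X, U)) : eps i g U (a * b) =
    resO X (shrink_le i g U) a * eps i g U b + resO X (shrink_le i g U) b * eps i g U a - eps i g U a * eps i g U b := by
  simp only [eps, map_mul, resO]
  ring

theorem cls_mul (U : X.Opens) (a b : Γ(X, U)) :
    cls i g hgi U (a * b) = i.app U a • cls i g hgi U b + i.app U b • cls i g hgi U a := by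
  obtain ⟨s, hs⟩ := exists_sect_of_app_eq_zero i _ (app_eps i g hgi U a)
  obtain ⟨t, ht⟩ := exists_sect_of_app_eq_zero i _ (app_eps i g hgi U b)
  have hr : ∀ (r : Γ(X, U)) (m : Γ(ClSub.idealMod i.ker, shrink i g U)),
      res (Omega.conormal i) (preimage_shrink i g hgi U).ge
          (OmegaSh.conormalSect i _ (resO X (shrink_le i g U) r • m)) =
        i.app U r • res (Omega.conormal i) (preimage_shrink i g hgi U).ge (OmegaSh.conormalSect i _ m) := fun r m => by
    rw [conormalSect_smul, res_smul]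
    refine congrArg₂ (· • ·) ?_ rfl
    show Z.presheaf.map _ (i.app _ (resO X (shrink_le i g U) r)) = _
    rw [show i.app (shrink i g U) (resO X (shrink_le i g U) r) = resO Z (i.preimage_mono (shrink_le i g U)) (i.app U r) from
      congr($(Scheme.Hom.naturality i (homOfLE (shrink_le i g U)).op) r)]
    exact (resO_resO _ _ _).trans (resO_self _)
  rw [cls_eq i g hgi U (a * b) (resO X (shrink_le i g U) a • t + resO X (shrink_le i g U) b • s - eps i g U a • t) (by
      rw [map_sub, map_add, idealSect_smul, idealSect_smul, idealSect_smul, hs, ht, eps_mul]),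
    cls_eq i g hgi U a s hs, cls_eq i g hgi U b t ht, map_sub, map_add, conormalSect_smul i _ (eps i g U a),
    app_eps i g hgi, zero_smul, sub_zero, res_add, hr, hr]

/-- The derivation into the conormal sheaf. -/
def der (hgS : g ≫ i ≫ f = f) : OmegaSh.Der f ((Scheme.Modules.pushforward i).obj (Omega.conormal i)) where
  d {W} := AddMonoidHom.mk' (cls i g hgi W.unop) (cls_add i g hgi W.unop)
  d_mul {W} a b := cls_mul i g hgi W.unop a b
  d_map {W W'} h a := by
    show cls i g hgi W'.unop (resO X h.unop.le a) = res (Omega.conormal i) (i.preimage_mono h.unop.le) (cls i g hgi W.unop a)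
    have hle : shrink i g W'.unop ≤ shrink i g W.unop :=
      inf_le_inf h.unop.le (g.preimage_mono (i.preimage_mono h.unop.le))
    obtain ⟨t, ht⟩ := exists_sect_of_app_eq_zero i _ (app_eps i g hgi W.unop a)
    rw [cls_eq i g hgi W.unop a t ht,
      cls_eq i g hgi W'.unop (resO X h.unop.le a) (res (ClSub.idealMod i.ker) hle t) (by
        rw [idealSect_res, ht]
        show resO X hle (eps i g W.unop a) = _
        simp only [eps, resO, map_sub]
        refine congrArg₂ (· - ·) ?_ ?_
        · exact (resO_resO _ _ _).trans (resO_resO _ _ _).symm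
        · rw [show i.app W'.unop (X.presheaf.map (homOfLE h.unop.le).op a) =
            Z.presheaf.map ((Opens.map i.base).map (homOfLE h.unop.le)).op (i.app W.unop a) from
              congr($(Scheme.Hom.naturality i (homOfLE h.unop.le).op) a)]
          simp only [← ConcreteCategory.comp_apply, Category.assoc, Scheme.Hom.map_appLE, Scheme.Hom.appLE_map]),
      res_res]
    rw [OmegaSh.conormalSect_eq]
    exact (congrArg (res (Omega.conormal i) _) (OmegaSh.pullSect_map i _ hle t)).trans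
      (res_res (M := Omega.conormal i) _ _ _)
  d_app {V} c := by
    show cls i g hgi (f ⁻¹ᵁ V.unop) (f.app V.unop c) = 0
    have h0 : eps i g (f ⁻¹ᵁ V.unop) (f.app V.unop c) = 0 := by
      have key : ∀ (q : X ⟶ S) (e : shrink i g (f ⁻¹ᵁ V.unop) ≤ q ⁻¹ᵁ V.unop), q = g ≫ i ≫ f →
          g.appLE (i ⁻¹ᵁ (f ⁻¹ᵁ V.unop)) _ (shrink_le' i g _) (i.app _ (f.app V.unop c)) = q.appLE V.unop _ e c := by
        rintro q e rfl
        rw [Scheme.Hom.comp_appLE]
        rfl
      rw [eps, key f (shrink_le i g _) hgS.symm, sub_eq_zero]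
      rfl
    rw [cls_eq i g hgi _ _ 0 (by rw [map_zero, h0]), map_zero, QC70.res_zero]

end LeftInv

set_option maxHeartbeats 1000000 in
theorem split_of_leftInverse {Z X S : Scheme.{u}} {f : X ⟶ S} {i : Z ⟶ X} [QuasiCompact i]
    {g : X ⟶ Z} (hgi : i ≫ g = 𝟙 Z) (hgS : g ≫ i ≫ f = f)
    {ΩX : X.Modules} {dX : OmegaSh.Der f ΩX} (hX : OmegaSh.IsUniversal dX)
    {ΩZ : Z.Modules} {dZ : OmegaSh.Der (i ≫ f) ΩZ} (hZ : OmegaSh.IsUniversal dZ)
    {φ : Omega.conormal i ⟶ (Scheme.Modules.pullback i).obj ΩX} (hφ : OmegaSh.IsConormalDiff i dX φ)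
    {c : (Scheme.Modules.pullback i).obj ΩX ⟶ ΩZ} (hc : OmegaSh.IsDiffCompat i dX dZ c) :
    ∃ w : φ ≫ c = 0, (ShortComplex.mk φ c w).Exact ∧
      (∃ r : (Scheme.Modules.pullback i).obj ΩX ⟶ Omega.conormal i, φ ≫ r = 𝟙 _) ∧
      ∃ σ : ΩZ ⟶ (Scheme.Modules.pullback i).obj ΩX, σ ≫ c = 𝟙 _ := by
  let G := (Scheme.Modules.pullback i).obj ΩX
  let adj := Scheme.Modules.pullbackPushforwardAdjunction i
  -- maps out of the conormal sheaf and out of the pullback are determined on classes
  have hextC : ∀ {M : Z.Modules} (u v : Omega.conormal i ⟶ M),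
      (∀ W s, u.app (i ⁻¹ᵁ W) (OmegaSh.conormalSect i W s) = v.app (i ⁻¹ᵁ W) (OmegaSh.conormalSect i W s)) → u = v := by
    intro M u v h
    refine (adj.homEquiv (ClSub.idealMod i.ker) M).injective (Scheme.Modules.hom_ext _ _ fun W => ?_)
    ext s
    rw [Adjunction.homEquiv_unit, Adjunction.homEquiv_unit]
    exact h W s
  have hextG : ∀ {M : Z.Modules} (u v : G ⟶ M), (∀ W a, u.app (i ⁻¹ᵁ W) (OmegaSh.pullSect i ΩX W (dX.app W a)) =
      v.app (i ⁻¹ᵁ W) (OmegaSh.pullSect i ΩX W (dX.app W a))) → u = v := by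
    intro M u v h
    refine (adj.homEquiv ΩX M).injective ?_
    obtain ⟨α, -, hu⟩ := hX _ (dX.postcomp (adj.homEquiv ΩX M u).val)
    refine (hu _ rfl).trans (hu _ ?_).symm
    refine PresheafOfModules.Derivation.ext (funext fun W => AddMonoidHom.ext fun a => ?_)
    show (adj.homEquiv ΩX M v).app W.unop (dX.app W.unop a) = (adj.homEquiv ΩX M u).app W.unop (dX.app W.unop a)
    rw [Adjunction.homEquiv_unit, Adjunction.homEquiv_unit]
    exact (h W.unop a).symm
  have happ0 : ∀ {U : Z.Opens} {M N : Z.Modules} (x : Γ(M, U)), (0 : M ⟶ N).app U x = 0 := fun x => rfl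
  have w : φ ≫ c = 0 := hextC _ _ fun W s => by
    show c.app _ (φ.app _ _) = _
    rw [hφ W s, hc, FlatMor67.app_idealSect, map_zero]
    exact (happ0 _).symm
  -- the retraction
  obtain ⟨α, hα, -⟩ := hX _ (LeftInv.der f i g hgi hgS)
  let r : G ⟶ Omega.conormal i := (adj.homEquiv _ _).symm α
  have hr : ∀ W a, r.app (i ⁻¹ᵁ W) (OmegaSh.pullSect i ΩX W (dX.app W a)) = LeftInv.cls i g hgi W a := fun W a => by
    have h : (adj.homEquiv ΩX (Omega.conormal i) r).app W (dX.app W a) = LeftInv.cls i g hgi W a := by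
      rw [show adj.homEquiv ΩX (Omega.conormal i) r = α from Equiv.apply_symm_apply _ _]
      exact congrArg (fun D : OmegaSh.Der f _ => D.app W a) hα
    rw [Adjunction.homEquiv_unit] at h
    exact h
  have hφr : φ ≫ r = 𝟙 _ := hextC _ _ fun W s => by
    show r.app _ (φ.app _ _) = OmegaSh.conormalSect i W s
    rw [hφ W s, hr]
    have hle : LeftInv.shrink i g W ≤ W := LeftInv.shrink_le i g W
    rw [LeftInv.cls_eq i g hgi W _ (res (ClSub.idealMod i.ker) hle s) (by
      rw [idealSect_res, LeftInv.eps, FlatMor67.app_idealSect, map_zero, sub_zero]), OmegaSh.conormalSect_eq]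
    refine (congrArg (res (Omega.conormal i) _) (OmegaSh.pullSect_map i _ hle s)).trans ?_
    exact (res_res (M := Omega.conormal i) _ _ _).trans (res_self (M := Omega.conormal i) _)
  -- the section
  have hle : ∀ V : Z.Opens, V ≤ i ⁻¹ᵁ (g ⁻¹ᵁ V) := fun V => by rw [← Scheme.Hom.comp_preimage, hgi]; rfl
  let D : OmegaSh.Der (i ≫ f) G :=
    { d := fun {V} => AddMonoidHom.mk' (fun t => res G (hle V.unop)
          (OmegaSh.pullSect i ΩX (g ⁻¹ᵁ V.unop) (dX.app _ (g.app V.unop t))))
        fun a b => by rw [map_add, map_add, map_add, res_add]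
      d_mul := fun {V} a b => by
        have key : ∀ x, resO Z (hle V.unop) (i.app (g ⁻¹ᵁ V.unop) (g.app V.unop x)) = x := fun x => by
          have : ∀ (q : Z ⟶ Z) (e : V.unop ≤ q ⁻¹ᵁ V.unop), q = i ≫ g →
              resO Z (hle V.unop) (i.app (g ⁻¹ᵁ V.unop) (g.app V.unop x)) = q.appLE V.unop V.unop e x := by
            rintro q e rfl
            rw [Scheme.Hom.appLE, Scheme.Hom.comp_app]
            rfl
          rw [this (𝟙 Z) le_rfl hgi.symm, Scheme.Hom.appLE, Scheme.Hom.id_app, Category.id_comp]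
          exact resO_self x
        show res G _ (OmegaSh.pullSect i ΩX _ (dX.app _ (g.app V.unop (a * b)))) = _
        rw [map_mul, Der.map_mul, map_add, OmegaSh.pullSect_smul, OmegaSh.pullSect_smul, res_add, res_smul, res_smul]
        exact congrArg₂ (· + ·) (congrArg₂ (· • ·) (key a) rfl) (congrArg₂ (· • ·) (key b) rfl)
      d_map := fun {V V'} h a => by
        show res G _ (OmegaSh.pullSect i ΩX _ (dX.app _ (g.app V'.unop (Z.presheaf.map h a)))) =
          res G h.unop.le (res G (hle V.unop) _)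
        rw [show g.app V'.unop (Z.presheaf.map h a) = resO X (g.preimage_mono h.unop.le) (g.app V.unop a) from
          congr($(Scheme.Hom.naturality g h) a), Der.res]
        refine (congrArg (res G _) (OmegaSh.pullSect_map i ΩX _ _)).trans ?_
        exact (res_res (M := G) _ _ _).trans (res_res (M := G) _ _ _).symm
      d_app := fun {V} a => by
        show res G _ (OmegaSh.pullSect i ΩX _ (dX.app _ (g.app _ ((i ≫ f).app V.unop a)))) = 0
        have key : ∀ (q : X ⟶ S) (e : g ⁻¹ᵁ ((i ≫ f) ⁻¹ᵁ V.unop) ≤ q ⁻¹ᵁ V.unop), q = g ≫ i ≫ f →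
            g.app _ ((i ≫ f).app V.unop a) = q.appLE V.unop _ e a := by
          rintro q e rfl
          rw [Scheme.Hom.appLE, Scheme.Hom.comp_app]
          show _ = X.presheaf.map (𝟙 _) _
          rw [CategoryTheory.Functor.map_id]
          rfl
        rw [key f (fun x hx => by
          show f x ∈ V.unop
          rw [← hgS]; exact hx) hgS.symm, Der.appLE, map_zero, QC70.res_zero] }
  obtain ⟨σ, hσ, -⟩ := hZ _ D
  have hσv : ∀ V t, σ.app V (dZ.app V t) =
      res G (hle V) (OmegaSh.pullSect i ΩX (g ⁻¹ᵁ V) (dX.app _ (g.app V t))) := fun V t =>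
    congrArg (fun E : OmegaSh.Der (i ≫ f) G => E.app V t) hσ
  have hσc : σ ≫ c = 𝟙 _ := by
    obtain ⟨β, -, hu⟩ := hZ _ dZ
    refine (hu _ ?_).trans (hu _ ?_).symm
    · refine PresheafOfModules.Derivation.ext (funext fun V => AddMonoidHom.ext fun t => ?_)
      show c.app V.unop (σ.app V.unop (dZ.app V.unop t)) = dZ.app V.unop t
      rw [hσv, app_res, hc, ← Der.res]
      have : ∀ (q : Z ⟶ Z) (e : V.unop ≤ q ⁻¹ᵁ V.unop), q = i ≫ g →
          resO Z (hle V.unop) (i.app (g ⁻¹ᵁ V.unop) (g.app V.unop t)) = q.appLE V.unop V.unop e t := by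
        rintro q e rfl
        rw [Scheme.Hom.appLE, Scheme.Hom.comp_app]
        rfl
      rw [this (𝟙 Z) le_rfl hgi.symm, Scheme.Hom.appLE, Scheme.Hom.id_app, Category.id_comp]
      exact congrArg _ (resO_self t)
    · refine PresheafOfModules.Derivation.ext (funext fun V => AddMonoidHom.ext fun t => ?_)
      rfl
  -- they decompose the identity
  have hsum : r ≫ φ + c ≫ σ = 𝟙 G := hextG _ _ fun W a => by
    show φ.app (i ⁻¹ᵁ W) (r.app (i ⁻¹ᵁ W) (OmegaSh.pullSect i ΩX W (dX.app W a))) +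
      σ.app (i ⁻¹ᵁ W) (c.app (i ⁻¹ᵁ W) (OmegaSh.pullSect i ΩX W (dX.app W a))) = OmegaSh.pullSect i ΩX W (dX.app W a)
    rw [hr, hc W a, hσv]
    obtain ⟨t, ht⟩ := exists_sect_of_app_eq_zero i _ (LeftInv.app_eps i g hgi W a)
    rw [LeftInv.cls_eq i g hgi W a t ht, app_res φ, hφ, ht]
    have h1 : res G (LeftInv.preimage_shrink i g hgi W).ge
        (OmegaSh.pullSect i ΩX _ (dX.app _ (resO X (LeftInv.shrink_le i g W) a))) =
          OmegaSh.pullSect i ΩX W (dX.app W a) := by
      rw [Der.res]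
      refine (congrArg (res G _) (OmegaSh.pullSect_map i ΩX _ _)).trans ?_
      exact (res_res (M := G) _ _ _).trans (res_self (M := G) _)
    have h2 : res G (LeftInv.preimage_shrink i g hgi W).ge
        (OmegaSh.pullSect i ΩX _ (dX.app _ (g.appLE (i ⁻¹ᵁ W) (LeftInv.shrink i g W) (LeftInv.shrink_le' i g W) (i.app W a)))) =
          res G (hle (i ⁻¹ᵁ W)) (OmegaSh.pullSect i ΩX (g ⁻¹ᵁ (i ⁻¹ᵁ W)) (dX.app _ (g.app _ (i.app W a)))) := by
      rw [Scheme.Hom.appLE, ConcreteCategory.comp_apply]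
      show res G _ (OmegaSh.pullSect i ΩX _ (dX.app _ (resO X (LeftInv.shrink_le' i g W) _))) = _
      rw [Der.res]
      refine (congrArg (res G _) (OmegaSh.pullSect_map i ΩX _ _)).trans ?_
      exact res_res (M := G) _ _ _
    rw [LeftInv.eps, map_sub, map_sub, QC70.res_sub, h1, h2, sub_add_cancel]
  exact ⟨w, exact_of_basis (ShortComplex.mk φ c w) fun O p hp => ⟨O, hp, le_rfl, fun x hx => ⟨r.app O x, by
    have h : φ.app O (r.app O x) + σ.app O (c.app O x) = x :=
      congr($(congrArg (fun u => Scheme.Modules.Hom.app u O) hsum) x)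
    rwa [show c.app O x = 0 from hx, map_zero, add_zero] at h⟩⟩, ⟨r, hφr⟩, σ, hσc⟩

end Groth.Agent.Om3
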