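import Groth.Prelude.Def_Omega3
import Mathlib.RingTheory.Localization.Basic
import Mathlib.RingTheory.Nilpotent.Lemmas

/-! Localisation of ring level universal first order thickenings. -/

set_option autoImplicit false
universe u

namespace Groth.Agent.Om3

theorem isUnit_of_mk_isUnit {C : Type u} [CommRing C] (I : Ideal C) (hI : I ^ 2 = ⊥) {x : C}
    (hx : IsUnit (Ideal.Quotient.mk I x)) : IsUnit x := by
  obtain ⟨y, hy⟩ := hx.exists_right_inv
  obtain ⟨z, rfl⟩ := Ideal.Quotient.mk_surjective y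
  rw [← map_mul, ← map_one (Ideal.Quotient.mk I), Ideal.Quotient.eq] at hy
  have h2 : (x * z - 1) * (x * z - 1) ∈ I ^ 2 := pow_two I ▸ Ideal.mul_mem_mul hy hy
  rw [hI, Ideal.mem_bot] at h2
  exact IsUnit.of_mul_eq_one (z * (2 - x * z)) (by linear_combination -h2)

variable {A B B' AS BS B'S : Type u} [CommRing A] [CommRing B] [CommRing B'] [CommRing AS] [CommRing BS]
  [CommRing B'S] [Algebra A B] [Algebra A B'] [Algebra A AS] [Algebra A BS] [Algebra A B'S]
  [Algebra B BS] [Algebra B' B'S] [Algebra AS BS] [Algebra AS B'S] [IsScalarTower A AS BS]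
  [IsScalarTower A AS B'S] [IsScalarTower A B BS] [IsScalarTower A B' B'S]

theorem isUniv_localization (π : B' →ₐ[A] B) (hπ : OmegaSh.IsUnivThickeningRing A B B' π)
    (hAS : ∀ (C : Type u) [CommRing C] (f g : AS →+* C),
      f.comp (algebraMap A AS) = g.comp (algebraMap A AS) → f = g)
    (N : Submonoid B) (M : Submonoid B') [IsLocalization N BS] [IsLocalization M B'S]
    (hMN : ∀ m ∈ M, π m ∈ N) (hNM : ∀ n ∈ N, ∃ m ∈ M, π m = n)
    (πS : B'S →ₐ[AS] BS) (hπS : ∀ x : B', πS (algebraMap B' B'S x) = algebraMap B BS (π x)) :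
    OmegaSh.IsUnivThickeningRing AS BS B'S πS := by
  refine ⟨fun y => ?_, ?_, fun C _ _ I hI a => ?_⟩
  · obtain ⟨b, n, rfl⟩ := IsLocalization.exists_mk'_eq N y
    obtain ⟨m, hm, hmn⟩ := hNM n n.2
    obtain ⟨b', hb'⟩ := hπ.1 b
    refine ⟨IsLocalization.mk' B'S b' ⟨m, hm⟩, ?_⟩
    rw [IsLocalization.eq_mk'_iff_mul_eq, ← hmn, ← hπS, ← map_mul,
      show IsLocalization.mk' B'S b' (⟨m, hm⟩ : M) * algebraMap B' B'S m = algebraMap B' B'S b' from
        IsLocalization.mk'_spec B'S b' ⟨m, hm⟩, hπS, hb']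
  · have hk : RingHom.ker πS.toRingHom ≤ (RingHom.ker π.toRingHom).map (algebraMap B' B'S) := by
      intro x hx
      obtain ⟨b, m, rfl⟩ := IsLocalization.exists_mk'_eq M x
      have h1 : algebraMap B BS (π b) = 0 := by
        rw [← hπS, ← IsLocalization.mk'_spec B'S b m, map_mul, show πS _ = 0 from hx, zero_mul]
      obtain ⟨t, ht⟩ := (IsLocalization.map_eq_zero_iff N BS _).1 h1
      obtain ⟨t', ht', htt⟩ := hNM t t.2
      have hmem : t' * b ∈ RingHom.ker π.toRingHom := by
        show π (t' * b) = 0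
        rw [map_mul, htt, ht]
      have : IsLocalization.mk' B'S b m =
          IsLocalization.mk' B'S (t' * b) (⟨t', ht'⟩ * m) := by
        rw [IsLocalization.mk'_eq_iff_eq]
        simp only [Submonoid.coe_mul]
        congr 1; ring
      rw [this, IsLocalization.mem_map_algebraMap_iff M]
      exact ⟨⟨⟨_, hmem⟩, ⟨t', ht'⟩ * m⟩, IsLocalization.mk'_spec _ _ _⟩
    refine le_bot_iff.1 ((Ideal.pow_right_mono hk 2).trans ?_)
    rw [← Ideal.map_pow, hπ.2.1, Ideal.map_bot]
  · letI : Algebra A C := ((algebraMap AS C).comp (algebraMap A AS)).toAlgebra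
    haveI : IsScalarTower A AS C := IsScalarTower.of_algebraMap_eq fun _ => rfl
    let a0 : B →ₐ[A] C ⧸ I := (a.restrictScalars A).comp (IsScalarTower.toAlgHom A B BS)
    obtain ⟨f, hf, hfu⟩ := hπ.2.2 C I hI a0
    have hf' : ∀ x, Ideal.Quotient.mk I (f x) = a (algebraMap B BS (π x)) := fun x => AlgHom.congr_fun hf x
    have hu : ∀ m : M, IsUnit (f m) := fun m => isUnit_of_mk_isUnit I hI (by
      rw [hf']; exact (IsLocalization.map_units BS (⟨_, hMN m m.2⟩ : N)).map a)
    let g : B'S →+* C := IsLocalization.lift (g := f.toRingHom) hu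
    have hg : ∀ x, g (algebraMap B' B'S x) = f x := fun x => IsLocalization.lift_eq hu x
    have hgA : g.comp (algebraMap AS B'S) = algebraMap AS C := hAS C _ _ (RingHom.ext fun r => by
      simp only [RingHom.comp_apply]
      rw [← IsScalarTower.algebraMap_apply A AS B'S, ← IsScalarTower.algebraMap_apply A AS C,
        IsScalarTower.algebraMap_apply A B' B'S, hg, f.commutes])
    let G : B'S →ₐ[AS] C := { g with commutes' := fun r => RingHom.congr_fun hgA r }
    refine ⟨G, ?_, fun G' hG' => ?_⟩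
    · refine AlgHom.coe_ringHom_injective (IsLocalization.ringHom_ext M (RingHom.ext fun x => ?_))
      show Ideal.Quotient.mk I (g _) = a (πS _)
      rw [hg, hf', hπS]
    · refine AlgHom.coe_ringHom_injective (IsLocalization.ringHom_ext M (RingHom.ext fun x => ?_))
      show G' _ = g _
      rw [hg]
      have := hfu ((G'.restrictScalars A).comp (IsScalarTower.toAlgHom A B' B'S)) (AlgHom.ext fun x => by
        show Ideal.Quotient.mk I (G' (algebraMap B' B'S x)) = a (algebraMap B BS (π x))
        rw [← hπS]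
        exact AlgHom.congr_fun hG' _)
      exact AlgHom.congr_fun this x

end Groth.Agent.Om3
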