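import Groth.Agent.LimTop61.SteinFinite
import Groth.Agent.SchBasics.OmegaChart
import Groth.Agent.SpFP87.Reduced
import Mathlib.RingTheory.Etale.Field
import Mathlib.RingTheory.Kaehler.TensorProduct
import Mathlib.AlgebraicGeometry.Morphisms.Flat

/-! Derivations vanish on global functions of proper smooth schemes over a field. -/

set_option autoImplicit false
set_option backward.isDefEq.respectTransparency false

universe u

open CategoryTheory CategoryTheory.Limits AlgebraicGeometry TopologicalSpace TensorProduct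

noncomputable section

namespace Groth.Agent.Om3

open Groth.Agent

theorem subsingleton_kaehler_of_isReduced_tensor {k K A P : Type u} [Field k] [Field K] [IsAlgClosed K]
    [CommRing A] [CommRing P] [Algebra k K] [Algebra k A] [Algebra k P] [Algebra K P] [Algebra A P]
    [IsScalarTower k K P] [IsScalarTower k A P] [Algebra.IsPushout k K A P] [Module.Finite k A] [IsReduced P] :
    Subsingleton Ω[A⁄k] := by
  let e : K ⊗[k] A ≃ₐ[K] P := (Algebra.IsPushout.equiv k K A P)
  haveI : IsReduced (K ⊗[k] A) := isReduced_of_injective e e.injective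
  haveI : Module.Finite K P := Module.Finite.equiv e.toLinearEquiv
  haveI : IsArtinianRing P := IsArtinianRing.of_finite K P
  haveI : Algebra.FormallyEtale K P := by
    letI (m : MaximalSpectrum P) : Field (P ⧸ m.asIdeal) := Ideal.Quotient.field m.asIdeal
    refine (Algebra.FormallyEtale.iff_exists_algEquiv_prod K P).2 ⟨MaximalSpectrum P, inferInstance,
      fun m => P ⧸ m.asIdeal, inferInstance, inferInstance, (IsArtinianRing.equivPi P).restrictScalars K,
      fun m => ?_⟩
    infer_instance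
  haveI : Subsingleton (P ⊗[A] Ω[A⁄k]) :=
    (KaehlerDifferential.tensorKaehlerEquiv k K A P).toEquiv.subsingleton
  haveI : Algebra.IsPushout k A K P := .symm inferInstance
  haveI : Module.FaithfullyFlat A P :=
    Module.FaithfullyFlat.of_linearEquiv A (A ⊗[k] K) (Algebra.IsPushout.equiv k A K P).toLinearEquiv.symm
  exact Module.FaithfullyFlat.lTensor_reflects_triviality A P Ω[A⁄k]

theorem app_top_eq_zero_of_smooth_proper {k : Type u} [Field k] {X : Scheme.{u}}
    (f : X ⟶ Spec (CommRingCat.of k)) [IsProper f] [Smooth f] {Ω : X.Modules} (d : OmegaSh.Der f Ω)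
    (s : Γ(X, ⊤)) : d.app ⊤ s = 0 := by
  let K : Type u := AlgebraicClosure k
  let g : Spec (CommRingCat.of K) ⟶ Spec (CommRingCat.of k) := Spec.map (CommRingCat.ofHom (algebraMap k K))
  haveI : Flat g := by
    rw [HasRingHomProperty.Spec_iff (P := @Flat)]
    exact (RingHom.flat_algebraMap_iff (R := k) (S := K)).2 inferInstance
  haveI : IsReduced (pullback f g) := SpFP87.isReduced_of_smooth (pullback.snd f g)
  have e₁ : (⊤ : (pullback f g).Opens) = pullback.fst f g ⁻¹ᵁ ⊤ ⊓ pullback.snd f g ⁻¹ᵁ ⊤ := rfl.trans (inf_top_eq _).symm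
  haveI := QuasiCompact.compactSpace_of_compactSpace f
  haveI : QuasiSeparatedSpace X := quasiSeparatedSpace_of_quasiSeparated f
  have hp := (isIso_pushoutSection_iff (IsPullback.of_hasPullback f g) (US := ⊤) (UT := ⊤) (UX := ⊤) le_top le_top e₁).1
    (isIso_pushoutSection_of_isQuasiSeparated_of_flat_right _ le_top le_top e₁ (isAffineOpen_top _)
      (isAffineOpen_top _) isCompact_univ isQuasiSeparated_univ)
  let φ : CommRingCat.of k ⟶ Γ(X, ⊤) := (Scheme.ΓSpecIso (CommRingCat.of k)).inv ≫ f.appLE ⊤ ⊤ le_top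
  let ψ : CommRingCat.of k ⟶ CommRingCat.of K := CommRingCat.ofHom (algebraMap k K)
  let ρ : CommRingCat.of K ⟶ Γ(pullback f g, ⊤) :=
    (Scheme.ΓSpecIso (CommRingCat.of K)).inv ≫ (pullback.snd f g).appLE ⊤ ⊤ le_top
  let σ : Γ(X, ⊤) ⟶ Γ(pullback f g, ⊤) := (pullback.fst f g).appLE ⊤ ⊤ le_top
  have hg : g.appLE ⊤ ⊤ le_top ≫ (Scheme.ΓSpecIso (CommRingCat.of K)).hom =
      (Scheme.ΓSpecIso (CommRingCat.of k)).hom ≫ ψ := by
    rw [show g.appLE ⊤ ⊤ le_top = g.appTop from (Scheme.Hom.app_eq_appLE g (U := ⊤)).symm]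
    exact Scheme.ΓSpecIso_naturality _
  have hpush : IsPushout ψ φ ρ σ := by
    refine IsPushout.of_iso hp.flip (Scheme.ΓSpecIso (CommRingCat.of k)) (Scheme.ΓSpecIso (CommRingCat.of K))
      (Iso.refl _) (Iso.refl _) hg ?_ ?_ ?_
    · simp only [φ, Iso.refl_hom, Category.comp_id, Iso.hom_inv_id_assoc]
    · simp only [ρ, Iso.refl_hom, Category.comp_id, Iso.hom_inv_id_assoc]
    · simp only [σ, Iso.refl_hom, Category.comp_id, Category.id_comp]
  algebraize [φ.hom, ρ.hom, σ.hom, (ψ ≫ ρ).hom]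
  haveI : IsScalarTower k K Γ(pullback f g, ⊤) := IsScalarTower.of_algebraMap_eq fun _ => rfl
  haveI : IsScalarTower k Γ(X, ⊤) Γ(pullback f g, ⊤) :=
    IsScalarTower.of_algebraMap_eq fun r => congr($(hpush.w) r)
  haveI : Algebra.IsPushout k K Γ(X, ⊤) Γ(pullback f g, ⊤) := CommRingCat.isPushout_iff_isPushout.mp hpush
  haveI : Module.Finite k Γ(X, ⊤) := by
    have h := LimTop61.finite_appTop_of_isProper (CommRingCat.of k) f
    rw [show f.appTop = f.appLE ⊤ ⊤ le_top from Scheme.Hom.app_eq_appLE f (U := ⊤)] at h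
    exact RingHom.finite_algebraMap.1 h
  have hsub := subsingleton_kaehler_of_isReduced_tensor (k := k) (K := K) (A := Γ(X, ⊤)) (P := Γ(pullback f g, ⊤))
  let D := SchBasics.derOf d (W := ⊤) φ fun c => Var76.OmegaUniv.Der.appLE d (le_top : (⊤ : X.Opens) ≤ f ⁻¹ᵁ ⊤) ((Scheme.ΓSpecIso (CommRingCat.of k)).inv c)
  refine (ModuleCat.Derivation.desc_d D s).symm.trans ?_
  have h0 : CommRingCat.KaehlerDifferential.d (f := φ) s = 0 := Subsingleton.elim (α := Ω[Γ(X, ⊤)⁄k]) _ _
  rw [h0, map_zero]

end Groth.Agent.Om3
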