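import Groth.Agent.Om3.Chart
import Groth.Agent.Om3.RingTrans
import Groth.Agent.Om3.BaseChange
import Groth.Agent.UnivTh94.Etale

/-! Differentials of a universal first order thickening, pulled back to the source. -/

set_option autoImplicit false
set_option backward.isDefEq.respectTransparency false

universe u

open CategoryTheory CategoryTheory.Limits AlgebraicGeometry TopologicalSpace TensorProduct

noncomputable section

namespace Groth.Agent.Om3

open Groth.Agent QC70 Var76.OmegaUniv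

theorem RingUniv.isUnivThickeningRing {A B B' : Type u} [CommRing A] [CommRing B] [CommRing B']
    [Algebra A B] [Algebra A B'] [Algebra B' B] [IsScalarTower A B' B]
    (h : RingUniv (algebraMap A B) (algebraMap A B') (algebraMap B' B)) :
    OmegaSh.IsUnivThickeningRing A B B' (IsScalarTower.toAlgHom A B' B) := by
  refine ⟨h.surj, h.sq, fun C _ _ I hI a => ?_⟩
  obtain ⟨F, ⟨hF1, hF2⟩, hFu⟩ := h.lift C (C ⧸ I) (Ideal.Quotient.mk I) Ideal.Quotient.mk_surjective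
    (by rwa [Ideal.mk_ker]) (algebraMap A C) a.toRingHom (RingHom.ext fun r => a.commutes r)
  refine ⟨{ F with commutes' := fun r => RingHom.congr_fun hF2 r }, AlgHom.ext fun x => RingHom.congr_fun hF1 x,
    fun G hG => AlgHom.ext fun x => RingHom.congr_fun
      (hFu G.toRingHom ⟨RingHom.ext fun y => AlgHom.congr_fun hG y, RingHom.ext fun r => G.commutes r⟩) x⟩

theorem bijective_pullback_diffCompat {Z X S Z' : Scheme.{u}} {h : Z ⟶ X} {q : X ⟶ S} {i : Z ⟶ Z'} {h' : Z' ⟶ X}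
    (hu : OmegaSh.IsUnivThickening h i h')
    {ΩX : X.Modules} {dX : OmegaSh.Der q ΩX} (hdX : OmegaSh.IsUniversal dX)
    {Ω' : Z'.Modules} {d' : OmegaSh.Der (h' ≫ q) Ω'} (hd' : OmegaSh.IsUniversal d')
    {c : (Scheme.Modules.pullback h').obj ΩX ⟶ Ω'} (hc : OmegaSh.IsDiffCompat h' dX d' c)
    {T : S.Opens} (hT : IsAffineOpen T) {U : X.Opens} (hU : IsAffineOpen U) (hUT : U ≤ q ⁻¹ᵁ T)
    {W' : Z'.Opens} (hW' : IsAffineOpen W') (hW : IsAffineOpen (i ⁻¹ᵁ W')) (hWU : W' ≤ h' ⁻¹ᵁ U) :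
    Function.Bijective (((Scheme.Modules.pullback i).map c).app (i ⁻¹ᵁ W')) := by
  have hZU : i ⁻¹ᵁ W' ≤ h ⁻¹ᵁ U := by rw [← hu.2.1]; exact i.preimage_mono hWU
  have hr := ringUniv_chart hu hU hW hZU hW' rfl hWU
  haveI := SchBasics.isQuasicoherent_of_isUniversal hdX
  haveI := SchBasics.isQuasicoherent_of_isUniversal hd'
  let G := (Scheme.Modules.pullback h').obj ΩX
  haveI : G.IsQuasicoherent := QCPull72.isQuasicoherent_pullback h' ΩX
  have hWT : W' ≤ (h' ≫ q) ⁻¹ᵁ T := hWU.trans (h'.preimage_mono hUT)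
  algebraize [(q.appLE T U hUT).hom, (h'.appLE U W' hWU).hom, ((h' ≫ q).appLE T W' hWT).hom,
    (h.appLE U (i ⁻¹ᵁ W') hZU).hom, (i.appLE W' (i ⁻¹ᵁ W') le_rfl).hom]
  haveI : IsScalarTower Γ(S, T) Γ(X, U) Γ(Z', W') := IsScalarTower.of_algebraMap_eq fun r =>
    (congr($(Scheme.Hom.appLE_comp_appLE h' q T U W' hUT hWU) r)).symm
  haveI : IsScalarTower Γ(X, U) Γ(Z', W') Γ(Z, i ⁻¹ᵁ W') :=
    IsScalarTower.of_algebraMap_eq fun r => (RingHom.congr_fun hr.comp r).symm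
  have huniv : OmegaSh.IsUnivThickeningRing Γ(X, U) Γ(Z, i ⁻¹ᵁ W') Γ(Z', W')
      (IsScalarTower.toAlgHom Γ(X, U) Γ(Z', W') Γ(Z, i ⁻¹ᵁ W')) := RingUniv.isUnivThickeningRing hr
  obtain ⟨e, he⟩ := SchBasics.exists_chartEquiv hdX hU hT hUT
  obtain ⟨e', he'⟩ := SchBasics.exists_chartEquiv hd' hW' hT hWT
  let pz : Γ(ΩX, U) → Γ(G, W') := fun m => res G hWU (OmegaSh.pullSect h' ΩX U m)
  have hpzs : ∀ r m, pz (r • m) = algebraMap Γ(X, U) Γ(Z', W') r • pz m := fun r m => by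
    show res G hWU (OmegaSh.pullSect h' ΩX U (r • m)) = _
    rw [OmegaSh.pullSect_smul, res_smul]
    rfl
  letI : Module Γ(X, U) Γ(G, W') := Module.compHom _ (algebraMap Γ(X, U) Γ(Z', W'))
  haveI : IsScalarTower Γ(X, U) Γ(Z', W') Γ(G, W') := IsScalarTower.of_algebraMap_smul fun _ _ => rfl
  let pzL : Ω[Γ(X, U)⁄Γ(S, T)] →ₗ[Γ(X, U)] Γ(G, W') :=
    { toFun := fun z => pz (e z)
      map_add' := fun a b => by
        show res G hWU (OmegaSh.pullSect h' ΩX U (e (a + b))) = _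
        rw [map_add, map_add, res_add]
      map_smul' := fun r a => by
        rw [map_smul]
        exact hpzs r (e a) }
  let Ψ := pzL.liftBaseChange Γ(Z', W')
  let cL : Γ(G, W') →ₗ[Γ(Z', W')] Γ(Ω', W') :=
    { toFun := fun s => c.app W' s, map_add' := fun a b => map_add _ a b,
      map_smul' := fun r s => Scheme.Modules.Hom.app_smul c r s }
  let mbc := KaehlerDifferential.mapBaseChange Γ(S, T) Γ(X, U) Γ(Z', W')
  have hcΨ : cL ∘ₗ Ψ = e'.toLinearMap ∘ₗ mbc := by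
    letI : Module Γ(X, U) Γ(Ω', W') := Module.compHom _ (algebraMap Γ(X, U) Γ(Z', W'))
    haveI : IsScalarTower Γ(X, U) Γ(Z', W') Γ(Ω', W') := IsScalarTower.of_algebraMap_smul fun _ _ => rfl
    refine TensorProduct.AlgebraTensorModule.curry_injective (LinearMap.ext_ring ?_)
    refine LinearMap.ext_on_range (KaehlerDifferential.span_range_derivation Γ(S, T) Γ(X, U)) fun a => ?_
    show c.app W' (Ψ ((1 : Γ(Z', W')) ⊗ₜ KaehlerDifferential.D Γ(S, T) Γ(X, U) a)) = e' (mbc (1 ⊗ₜ KaehlerDifferential.D Γ(S, T) Γ(X, U) a))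
    rw [LinearMap.liftBaseChange_tmul, one_smul, KaehlerDifferential.mapBaseChange_tmul, one_smul,
      KaehlerDifferential.map_D, he']
    show c.app W' (res G hWU _) = _
    rw [he, QC70.app_res, hc, ← Der.res]
    rfl
  have hmbc : Function.Surjective mbc := by
    haveI := UnivTh94.formallyUnramified_of_univ huniv
    exact fun x => (KaehlerDifferential.exact_mapBaseChange_map Γ(S, T) Γ(X, U) Γ(Z', W') x).1 (Subsingleton.elim _ _)
  have hΨ : Function.Surjective Ψ := fun s => by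
    have hs : s ∈ Submodule.span Γ(Z', W') (Set.range pz) := by
      rw [SchBasics.span_pullSect h' ΩX hW' hU hWU]; trivial
    refine (Submodule.span_le.2 ?_ hs : s ∈ LinearMap.range Ψ)
    rintro _ ⟨m, rfl⟩
    obtain ⟨z, rfl⟩ := e.surjective m
    exact ⟨1 ⊗ₜ z, by rw [LinearMap.liftBaseChange_tmul, one_smul]; rfl⟩
  let GZ := (Scheme.Modules.pullback i).obj G
  let ΩZ := (Scheme.Modules.pullback i).obj Ω'
  letI : Module Γ(Z', W') Γ(GZ, i ⁻¹ᵁ W') := Module.compHom _ (algebraMap Γ(Z', W') Γ(Z, i ⁻¹ᵁ W'))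
  haveI : IsScalarTower Γ(Z', W') Γ(Z, i ⁻¹ᵁ W') Γ(GZ, i ⁻¹ᵁ W') := IsScalarTower.of_algebraMap_smul fun _ _ => rfl
  let Φ : Γ(Z', W') ⊗[Γ(X, U)] Ω[Γ(X, U)⁄Γ(S, T)] →ₗ[Γ(Z', W')] Γ(GZ, i ⁻¹ᵁ W') :=
    { toFun := fun v => OmegaSh.pullSect i G W' (Ψ v)
      map_add' := fun a b => by rw [map_add, map_add]
      map_smul' := fun r a => by
        rw [map_smul, OmegaSh.pullSect_smul, Scheme.Hom.app_eq_appLE]
        rfl }
  let Θ := LinearEquiv.ofBijective (mbc.baseChange Γ(Z, i ⁻¹ᵁ W'))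
    (UnivTh94.bijective_baseChange_of_univ (R := Γ(S, T)) huniv)
  let L := (Φ.liftBaseChange Γ(Z, i ⁻¹ᵁ W')) ∘ₗ Θ.symm.toLinearMap
  let g : Γ(Ω', W') →+ Γ(GZ, i ⁻¹ᵁ W') := AddMonoidHom.mk' (fun m => L ((1 : Γ(Z, i ⁻¹ᵁ W')) ⊗ₜ e'.symm m))
    fun a b => by rw [map_add, TensorProduct.tmul_add, map_add]
  have hg : ∀ r m, g (r • m) = i.appLE W' (i ⁻¹ᵁ W') le_rfl r • g m := fun r m => by
    show L (1 ⊗ₜ e'.symm (r • m)) = _
    rw [map_smul, TensorProduct.tmul_smul, ← algebraMap_smul Γ(Z, i ⁻¹ᵁ W') r, map_smul]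
    rfl
  obtain ⟨l, hl⟩ := SchBasics.exists_linear_pullSect i Ω' GZ hW hW' le_rfl g hg
  haveI : GZ.IsQuasicoherent := QCPull72.isQuasicoherent_pullback i G
  let C : Γ(GZ, i ⁻¹ᵁ W') →ₗ[Γ(Z, i ⁻¹ᵁ W')] Γ(ΩZ, i ⁻¹ᵁ W') :=
    { toFun := fun s => ((Scheme.Modules.pullback i).map c).app (i ⁻¹ᵁ W') s
      map_add' := fun a b => map_add _ a b
      map_smul' := fun r s => Scheme.Modules.Hom.app_smul _ r s }
  have hC : ∀ v, C (OmegaSh.pullSect i G W' (Ψ v)) = OmegaSh.pullSect i Ω' W' (e' (mbc v)) := fun v =>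
    (map_app_pullSect i c W' (Ψ v)).trans (congrArg _ (LinearMap.congr_fun hcΨ v))
  refine ⟨Function.LeftInverse.injective (g := l) fun s => ?_, fun s => ?_⟩
  · have hs : s ∈ Submodule.span Γ(Z, i ⁻¹ᵁ W')
        (Set.range fun x : Γ(G, W') => res GZ le_rfl (OmegaSh.pullSect i G W' x)) :=
      (SchBasics.span_pullSect i G hW hW' le_rfl).ge trivial
    show l (C s) = s
    induction hs using Submodule.span_induction with
    | mem y hy =>
      obtain ⟨x, rfl⟩ := hy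
      obtain ⟨v, rfl⟩ := hΨ x
      have h1 : res GZ le_rfl (OmegaSh.pullSect i G W' (Ψ v)) = OmegaSh.pullSect i G W' (Ψ v) :=
        res_self (M := GZ) _
      beta_reduce
      rw [h1, hC, ← res_self (M := ΩZ) (OmegaSh.pullSect i Ω' W' (e' (mbc v))), hl]
      show Φ.liftBaseChange _ (Θ.symm (1 ⊗ₜ e'.symm (e' (mbc v)))) = _
      rw [e'.symm_apply_apply, (Θ.symm_apply_eq.2 (LinearMap.baseChange_tmul (f := mbc) (1 : Γ(Z, i ⁻¹ᵁ W')) v).symm),
        LinearMap.liftBaseChange_tmul, one_smul]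
      rfl
    | zero => rw [map_zero, map_zero]
    | add y z _ _ hy hz => rw [map_add, map_add, hy, hz]
    | smul r y _ hy => rw [map_smul, map_smul, hy]
  · have hs : s ∈ Submodule.span Γ(Z, i ⁻¹ᵁ W')
        (Set.range fun m : Γ(Ω', W') => res ΩZ le_rfl (OmegaSh.pullSect i Ω' W' m)) :=
      (SchBasics.span_pullSect i Ω' hW hW' le_rfl).ge trivial
    refine (Submodule.span_le.2 ?_ hs : s ∈ LinearMap.range C)
    rintro _ ⟨m, rfl⟩
    obtain ⟨v, hv⟩ := hmbc (e'.symm m)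
    refine ⟨OmegaSh.pullSect i G W' (Ψ v), ?_⟩
    rw [hC, hv, e'.apply_symm_apply]
    exact (res_self (M := ΩZ) _).symm

theorem isIso_pullback_diffCompat_univ {Z X S Z' : Scheme.{u}} {h : Z ⟶ X} {q : X ⟶ S} {i : Z ⟶ Z'} {h' : Z' ⟶ X}
    (hu : OmegaSh.IsUnivThickening h i h')
    {ΩX : X.Modules} {dX : OmegaSh.Der q ΩX} (hdX : OmegaSh.IsUniversal dX)
    {Ω' : Z'.Modules} {d' : OmegaSh.Der (h' ≫ q) Ω'} (hd' : OmegaSh.IsUniversal d')
    {c : (Scheme.Modules.pullback h').obj ΩX ⟶ Ω'} (hc : OmegaSh.IsDiffCompat h' dX d' c) :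
    IsIso ((Scheme.Modules.pullback i).map c) := by
  haveI := SchBasics.isQuasicoherent_of_isUniversal hdX
  haveI := SchBasics.isQuasicoherent_of_isUniversal hd'
  haveI : ((Scheme.Modules.pullback h').obj ΩX).IsQuasicoherent := QCPull72.isQuasicoherent_pullback h' ΩX
  haveI := QCPull72.isQuasicoherent_pullback i ((Scheme.Modules.pullback h').obj ΩX)
  haveI := QCPull72.isQuasicoherent_pullback i Ω'
  have hex : ∀ z : Z, ∃ (T : S.Opens) (U : X.Opens) (W' : Z'.Opens), IsAffineOpen T ∧ IsAffineOpen U ∧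
      U ≤ q ⁻¹ᵁ T ∧ IsAffineOpen W' ∧ IsAffineOpen (i ⁻¹ᵁ W') ∧ W' ≤ h' ⁻¹ᵁ U ∧ z ∈ i ⁻¹ᵁ W' := fun z => by
    obtain ⟨T, hT, hzT, -⟩ := exists_isAffineOpen_mem_and_subset (x := q (h' (i z))) (U := ⊤) trivial
    obtain ⟨U, hU, hzU, hUT⟩ := exists_isAffineOpen_mem_and_subset (x := h' (i z)) (U := q ⁻¹ᵁ T) hzT
    obtain ⟨W', hW', hzW, hWU⟩ := exists_isAffineOpen_mem_and_subset (x := i z) (U := h' ⁻¹ᵁ U) hzU
    haveI := hu.1.1.1
    exact ⟨T, U, W', hT, hU, hUT, hW', hW'.preimage i, hWU, hzW⟩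
  choose T U W' hT hU hUT hW' hW hWU hz using hex
  exact EGA73.isIso_of_bijective_cover _ (fun z => i ⁻¹ᵁ W' z) hW (fun z => ⟨z, hz z⟩)
    fun z => bijective_pullback_diffCompat hu hdX hd' hc (hT z) (hU z) (hUT z) (hW' z) (hW z) (hWU z)

end Groth.Agent.Om3
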