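import Groth.Agent.Om3.Intersection
import Groth.Agent.Unr55.Coordinates
import Groth.Agent.FlatMor66.SliceAlg
import Groth.Agent.CAlg7.EtaleOfRank
import Groth.Agent.SchBasics.ConormalSplit
import Groth.Agent.Koszul19.Seq
import Groth.Agent.S1488
import Groth.Prelude.Def_RegImm
import Mathlib.RingTheory.Regular.Flat
import Mathlib.RingTheory.RingHom.Etale

/-! A closed subscheme, smooth over the base, of a smooth scheme: regular sequences and ranks. -/

set_option autoImplicit false
set_option backward.isDefEq.respectTransparency false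

universe u

open CategoryTheory CategoryTheory.Limits AlgebraicGeometry TopologicalSpace Opposite TensorProduct RingTheory.Sequence

noncomputable section

namespace Groth.Agent.Om3.SmoothPair

open Groth.Agent

/-- The polynomial ring in more variables is flat. -/
theorem flat_rename_inl (A : Type u) [CommRing A] (r m : ℕ) :
    letI : Algebra (MvPolynomial (Fin r) A) (MvPolynomial (Fin r ⊕ Fin m) A) := (MvPolynomial.rename Sum.inl).toRingHom.toAlgebra
    Module.Flat (MvPolynomial (Fin r) A) (MvPolynomial (Fin r ⊕ Fin m) A) := by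
  letI : Algebra (MvPolynomial (Fin r) A) (MvPolynomial (Fin r ⊕ Fin m) A) := (MvPolynomial.rename Sum.inl).toRingHom.toAlgebra
  let e : MvPolynomial (Fin m) (MvPolynomial (Fin r) A) ≃ₐ[A] MvPolynomial (Fin r ⊕ Fin m) A :=
    (MvPolynomial.sumAlgEquiv A (Fin m) (Fin r)).symm.trans (MvPolynomial.renameEquiv A (Equiv.sumComm _ _))
  have he : (e.toAlgHom.comp (IsScalarTower.toAlgHom A (MvPolynomial (Fin r) A) _)) = MvPolynomial.rename Sum.inl :=
    MvPolynomial.algHom_ext fun i => by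
      simp [e]
  exact Module.Flat.of_linearEquiv
    ({ e.symm.toAddEquiv with
        map_smul' := fun p x => by
          show e.symm (MvPolynomial.rename Sum.inl p * x) = p • e.symm x
          rw [map_mul, Algebra.smul_def, ← AlgHom.congr_fun he p]
          exact congrArg (· * e.symm x) (e.symm_apply_apply _) } :
      MvPolynomial (Fin r ⊕ Fin m) A ≃ₗ[MvPolynomial (Fin r) A] MvPolynomial (Fin m) (MvPolynomial (Fin r) A))

/-- A smooth quotient of a smooth algebra is cut out by a weakly regular sequence near each prime. -/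
theorem exists_regular {A B C : Type u} [CommRing A] [CommRing B] [CommRing C] [Algebra A B] [Algebra A C]
    [Algebra B C] [IsScalarTower A B C] [Algebra.Smooth A B] [Algebra.Smooth A C]
    (hs : Function.Surjective (algebraMap B C)) (Q : Ideal C) [Q.IsPrime] :
    ∃ f : B, f ∉ Q.comap (algebraMap B C) ∧ ∃ (r : ℕ) (g : Fin r → B), (∀ i, algebraMap B C (g i) = 0) ∧
      IsWeaklyRegular (Localization.Away f) (List.ofFn g) ∧
      (RingHom.ker (algebraMap B C)).map (algebraMap B (Localization.Away f)) =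
        Ideal.span (Set.range fun i => algebraMap B (Localization.Away f) (g i)) := by
  classical
  let q := Q.comap (algebraMap B C)
  have hfg : (RingHom.ker (algebraMap B C)).FG :=
    Algebra.FinitePresentation.ker_fG_of_surjective (R := A) (IsScalarTower.toAlgHom A B C) hs
  have hsm : Algebra.IsSmoothAt A q := inferInstance
  have hfg'' := hfg
  obtain ⟨s, hsJ⟩ := hfg
  have hgen : (RingHom.ker (algebraMap B C)).map (algebraMap B (Localization.AtPrime q)) =
      Ideal.span (Set.range fun x : ↥s => algebraMap B (Localization.AtPrime q) x.1) := by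
    rw [← hsJ, Ideal.map_span]
    congr 1
    ext x
    simp
  obtain ⟨t, ht, hli⟩ := (Unr55.Coord.isSmoothAt_iff A hs hfg'' Q hsm (fun x : ↥s => x.1) hgen).mp inferInstance
  let r := Fintype.card ↥t
  let e : Fin r ≃ ↥t := (Fintype.equivFin ↥t).symm
  let g : Fin r → B := fun i => (e i).1.1
  have hg : ∀ i, g i ∈ RingHom.ker (algebraMap B C) := fun i => hsJ ▸ Ideal.subset_span (e i).1.2
  have hgen' : (RingHom.ker (algebraMap B C)).map (algebraMap B (Localization.AtPrime q)) =
      (Ideal.span (Set.range g)).map (algebraMap B (Localization.AtPrime q)) := by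
    rw [ht, Ideal.map_span, ← Set.range_comp]
    congr 1
    ext x
    simp only [Set.mem_image, Finset.mem_coe, Set.mem_range, Function.comp_apply, g]
    exact ⟨fun ⟨b, hb, hx⟩ => ⟨e.symm ⟨b, hb⟩, by rw [e.apply_symm_apply]; exact hx⟩, fun ⟨i, hx⟩ => ⟨_, (e i).2, hx⟩⟩
  have hu : ∀ x : ↥s, ∃ u ∉ q, u * x.1 ∈ Ideal.span (Set.range g) := fun x => by
    have hx : algebraMap B (Localization.AtPrime q) x.1 ∈ (Ideal.span (Set.range g)).map (algebraMap B _) :=
      hgen' ▸ Ideal.mem_map_of_mem _ (hsJ ▸ Ideal.subset_span x.2)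
    obtain ⟨⟨a, u⟩, hau⟩ := (IsLocalization.mem_map_algebraMap_iff q.primeCompl _).mp hx
    rw [← map_mul] at hau
    obtain ⟨v, hv⟩ := (IsLocalization.eq_iff_exists q.primeCompl _).mp hau
    refine ⟨v * u, q.primeCompl.mul_mem v.2 u.2, ?_⟩
    rw [mul_assoc, mul_comm (u : B) x.1, hv]
    exact Ideal.mul_mem_left _ _ a.2
  choose u hu1 hu2 using hu
  have hli' : LinearIndependent (IsLocalRing.ResidueField (Localization.AtPrime q))
      (fun i => Unr55.Coord.δ A q (g i)) := hli.comp e e.injective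
  obtain ⟨m', g', hli2, hspan⟩ := Unr55.Coord.exists_extend A q g hli'
  obtain ⟨f₁, hf₁, hf₁e⟩ := Unr55.Coord.exists_etale_aeval A q hsm (Sum.elim g g') hli2 hspan
  have hf₂ : ∏ x, u x ∉ q := fun h => by
    obtain ⟨x, -, hx⟩ := Ideal.IsPrime.prod_mem_iff.mp h
    exact hu1 x hx
  let f := f₁ * ∏ x, u x
  let L := Localization.Away f
  have hfe := Unr55.Coord.etale_aeval_mul A (Sum.elim g g') f₁ (∏ x, u x) hf₁e
  refine ⟨f, fun h => (((inferInstance : q.IsPrime)).mem_or_mem h).elim hf₁ hf₂, r, g, hg, ?_, ?_⟩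
  · let P := MvPolynomial (Fin r) A
    let φ := (MvPolynomial.aeval (fun j => algebraMap B L (Sum.elim g g' j)) :
      MvPolynomial (Fin r ⊕ Fin m') A →ₐ[A] L)
    letI : Algebra P (MvPolynomial (Fin r ⊕ Fin m') A) := (MvPolynomial.rename Sum.inl).toRingHom.toAlgebra
    letI : Algebra (MvPolynomial (Fin r ⊕ Fin m') A) L := φ.toRingHom.toAlgebra
    letI : Algebra P L := (φ.comp (MvPolynomial.rename Sum.inl)).toRingHom.toAlgebra
    haveI : IsScalarTower P (MvPolynomial (Fin r ⊕ Fin m') A) L := .of_algebraMap_eq fun _ => rfl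
    haveI : Algebra.Etale (MvPolynomial (Fin r ⊕ Fin m') A) L := hfe
    haveI : Module.Flat P (MvPolynomial (Fin r ⊕ Fin m') A) := flat_rename_inl A r m'
    haveI : Module.Flat P L := Module.Flat.trans P (MvPolynomial (Fin r ⊕ Fin m') A) L
    have hwr := (FlatMor66.isWeaklyRegular_X (R := A) r).of_flat (S := L)
    have hl : (List.ofFn fun i : Fin r => (MvPolynomial.X i : P)).map (algebraMap P L) =
        (List.ofFn g).map (algebraMap B L) := by
      rw [List.map_ofFn, List.map_ofFn]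
      exact congrArg List.ofFn (funext fun i => by
        show φ (MvPolynomial.rename Sum.inl (MvPolynomial.X i)) = algebraMap B L (g i)
        simp [φ])
    rw [hl] at hwr
    exact (isWeaklyRegular_map_algebraMap_iff L L (List.ofFn g)).1 hwr
  · refine le_antisymm ?_ (Ideal.span_le.2 (by rintro _ ⟨i, rfl⟩; exact Ideal.mem_map_of_mem _ (hg i)))
    rw [← hsJ, Ideal.map_span, Ideal.span_le]
    rintro _ ⟨x, hx, rfl⟩
    have hu' : IsUnit (algebraMap B L (u ⟨x, hx⟩)) :=
      IsLocalization.Away.isUnit_of_dvd f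
        ((Finset.dvd_prod_of_mem u (Finset.mem_univ (⟨x, hx⟩ : ↥s))).trans (dvd_mul_left _ f₁))
    have h := Ideal.mem_map_of_mem (algebraMap B L) (hu2 ⟨x, hx⟩)
    rw [Ideal.map_span, ← Set.range_comp, map_mul] at h
    exact (Ideal.unit_mul_mem_iff_mem _ hu').mp h

theorem rankAtStalk_omega {X S : Scheme.{u}} (f : X ⟶ S) (n : ℕ) [SmoothOfRelativeDimension n f]
    {V : S.Opens} (hV : IsAffineOpen V) {W : X.Opens} (hW : IsAffineOpen W) (e : W ≤ f ⁻¹ᵁ V)
    (p : letI := (f.appLE V W e).hom.toAlgebra; PrimeSpectrum Γ(X, W)) :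
    letI := (f.appLE V W e).hom.toAlgebra
    Module.rankAtStalk (Ω[Γ(X, W)⁄Γ(S, V)]) p = n := by
  haveI := SmoothOfRelativeDimension.smooth n f
  letI := (f.appLE V W e).hom.toAlgebra
  haveI : Algebra.Smooth Γ(S, V) Γ(X, W) := f.smooth_appLE hV hW e
  have hl : RingHom.Locally (RingHom.IsStandardSmoothOfRelativeDimension n) (algebraMap Γ(S, V) Γ(X, W)) :=
    HasRingHomProperty.appLE (P := @SmoothOfRelativeDimension n) f inferInstance ⟨V, hV⟩ ⟨W, hW⟩ e
  exact CAlg7.rankAtStalk_kaehler_of_locally hl p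

set_option maxHeartbeats 400000 in
/-- Near each point, a closed subscheme smooth over the base is cut out of a smooth scheme by a regular sequence,
of length the difference of the relative dimensions. -/
theorem exists_chart {S X Y : Scheme.{u}} (f : X ⟶ S) (g : Y ⟶ S) (n m : ℕ)
    [SmoothOfRelativeDimension n f] [SmoothOfRelativeDimension m g] (i : Y ⟶ X) [IsClosedImmersion i]
    (hi : i ≫ f = g) (y : Y) :
    ∃ U : X.Opens, IsAffineOpen U ∧ i y ∈ U ∧ ∃ rs : Fin (n - m) → Γ(X, U),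
      IsRegular Γ(X, U) (List.ofFn rs) ∧ Ideal.span (Set.range rs) = RingHom.ker (i.app U).hom ∧
      Nonempty (Module.Basis (Fin (n - m)) Γ(Y, i ⁻¹ᵁ U) Γ(Omega.conormal i, i ⁻¹ᵁ U)) := by
  subst hi
  haveI := SmoothOfRelativeDimension.smooth n f
  haveI := SmoothOfRelativeDimension.smooth m (i ≫ f)
  obtain ⟨V, hV, hyV, -⟩ := exists_isAffineOpen_mem_and_subset (X := S) (x := f (i y)) (U := ⊤) trivial
  obtain ⟨W, hW, hyW, hWV⟩ := exists_isAffineOpen_mem_and_subset (X := X) (x := i y) (U := f ⁻¹ᵁ V) hyV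
  have eW : W ≤ f ⁻¹ᵁ V := hWV
  have hP : IsAffineOpen (i ⁻¹ᵁ W) := hW.preimage i
  have eP : i ⁻¹ᵁ W ≤ (i ≫ f) ⁻¹ᵁ V := fun x hx => eW hx
  letI := (f.appLE V W eW).hom.toAlgebra
  letI := ((i ≫ f).appLE V (i ⁻¹ᵁ W) eP).hom.toAlgebra
  letI := (i.app W).hom.toAlgebra
  haveI : IsScalarTower Γ(S, V) Γ(X, W) Γ(Y, i ⁻¹ᵁ W) := .of_algebraMap_eq fun r => by
    show (i ≫ f).appLE V (i ⁻¹ᵁ W) eP r = i.app W (f.appLE V W eW r)
    rw [Scheme.Hom.app_eq_appLE, ← ConcreteCategory.comp_apply, Scheme.Hom.appLE_comp_appLE]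
  haveI : Algebra.Smooth Γ(S, V) Γ(X, W) := f.smooth_appLE hV hW eW
  haveI : Algebra.Smooth Γ(S, V) Γ(Y, i ⁻¹ᵁ W) := (i ≫ f).smooth_appLE hV hP eP
  obtain ⟨a, ha, r, rs, hrs0, hwr, hspan⟩ := exists_regular (A := Γ(S, V)) (B := Γ(X, W)) (C := Γ(Y, i ⁻¹ᵁ W))
    (i.app_surjective W hW) (hP.primeIdealOf ⟨y, hyW⟩).asIdeal
  have hyU : i y ∈ X.basicOpen a := by
    have h1 : y ∈ Y.basicOpen (i.app W a) := by
      exact (QC70.mem_basicOpen_iff_primeCompl hP hyW _).2 ha
    rw [← Scheme.preimage_basicOpen] at h1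
    exact h1
  have hU : IsAffineOpen (X.basicOpen a) := hW.basicOpen a
  have hPU : IsAffineOpen (i ⁻¹ᵁ X.basicOpen a) := hU.preimage i
  have hle := X.basicOpen_le a
  haveI := hW.isLocalization_basicOpen a
  let rs' : Fin r → Γ(X, X.basicOpen a) := fun k => algebraMap Γ(X, W) Γ(X, X.basicOpen a) (rs k)
  have hwr' : IsWeaklyRegular Γ(X, X.basicOpen a) (List.ofFn rs') := by
    have e := (IsLocalization.algEquiv (Submonoid.powers a) (Localization.Away a) Γ(X, X.basicOpen a)).toLinearEquiv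
    have h1 : IsWeaklyRegular Γ(X, X.basicOpen a) (List.ofFn rs) := (e.isWeaklyRegular_congr (List.ofFn rs)).1 hwr
    rw [show List.ofFn rs' = (List.ofFn rs).map (algebraMap Γ(X, W) Γ(X, X.basicOpen a)) from
      (List.map_ofFn ..).symm]
    exact (isWeaklyRegular_map_algebraMap_iff _ _ _).2 h1
  have hI : Ideal.span (Set.range rs') = RingHom.ker (i.app (X.basicOpen a)).hom := by
    let σ : Localization.Away a →+* Γ(X, X.basicOpen a) :=
      (IsLocalization.algEquiv (Submonoid.powers a) (Localization.Away a) Γ(X, X.basicOpen a)).toRingEquiv.toRingHom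
    have hσ : σ.comp (algebraMap Γ(X, W) (Localization.Away a)) = algebraMap Γ(X, W) Γ(X, X.basicOpen a) :=
      RingHom.ext fun b => AlgEquiv.commutes (IsLocalization.algEquiv (Submonoid.powers a) (Localization.Away a) Γ(X, X.basicOpen a)) b
    have h1 : (RingHom.ker (i.app W).hom).map (algebraMap Γ(X, W) Γ(X, X.basicOpen a)) = Ideal.span (Set.range rs') := by
      rw [← hσ, ← Ideal.map_map]
      refine (congrArg (Ideal.map σ) hspan).trans ?_
      rw [Ideal.map_span, ← Set.range_comp]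
      exact congrArg Ideal.span (congrArg Set.range (funext fun k => congr($hσ (rs k))))
    rw [← h1, ← Scheme.Hom.ker_apply i ⟨_, hU⟩, ← Scheme.Hom.ker_apply i ⟨W, hW⟩]
    exact Scheme.IdealSheafData.map_ideal (U := ⟨_, hU⟩) (V := ⟨W, hW⟩) i.ker hle
  obtain ⟨bN⟩ := Om3.exists_basis_conormal i hU hPU (i.app_surjective _ hU) rs'
    (Koszul19.kR_of_isWeaklyRegular _ hwr') hI
  have hr : r = n - m := by
    have eU : X.basicOpen a ≤ f ⁻¹ᵁ V := hle.trans eW
    have eQ : i ⁻¹ᵁ X.basicOpen a ≤ (i ≫ f) ⁻¹ᵁ V := fun x hx => eU hx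
    have hfs : MoreMor.IsFormallySmoothHom (i ≫ f) := ((S1488.result (i ≫ f)).1 inferInstance).2
    obtain ⟨e⟩ := SchBasics.exists_conormal_split i hfs hU hPU (i.app_surjective _ hU) hV eU eQ
    letI := (f.appLE V (X.basicOpen a) eU).hom.toAlgebra
    letI := ((i ≫ f).appLE V (i ⁻¹ᵁ X.basicOpen a) eQ).hom.toAlgebra
    letI := (i.app (X.basicOpen a)).hom.toAlgebra
    haveI : Algebra.Smooth Γ(S, V) Γ(X, X.basicOpen a) := f.smooth_appLE hV hU eU
    haveI : Algebra.Smooth Γ(S, V) Γ(Y, i ⁻¹ᵁ X.basicOpen a) := (i ≫ f).smooth_appLE hV hPU eQ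
    haveI := Module.Free.of_basis bN
    haveI := Module.Finite.of_basis bN
    haveI : Nontrivial Γ(Y, i ⁻¹ᵁ X.basicOpen a) := (Y.presheaf.germ (i ⁻¹ᵁ X.basicOpen a) y hyU).hom.domain_nontrivial
    let p := hPU.primeIdealOf ⟨y, hyU⟩
    have h1 := congrFun (Module.rankAtStalk_eq_of_equiv e) p
    rw [Module.rankAtStalk_baseChange, rankAtStalk_omega f n hV hU eU, Module.rankAtStalk_prod, Pi.add_apply,
      rankAtStalk_omega (i ≫ f) m hV hPU eQ, Module.rankAtStalk_eq_finrank_of_free, Pi.natCast_apply,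
      Module.finrank_eq_card_basis bN, Fintype.card_fin] at h1
    simp only [Nat.cast_id] at h1
    omega
  subst hr
  refine ⟨X.basicOpen a, hU, hyU, rs', ⟨hwr', ?_⟩, hI, ⟨bN⟩⟩
  rw [Koszul19.ofList_ofFn, hI, Ne, eq_comm, Ideal.smul_eq_mul, Ideal.mul_top]
  haveI : Nontrivial Γ(Y, i ⁻¹ᵁ X.basicOpen a) := (Y.presheaf.germ (i ⁻¹ᵁ X.basicOpen a) y hyU).hom.domain_nontrivial
  exact RingHom.ker_ne_top _

end Groth.Agent.Om3.SmoothPair
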