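import Groth.Agent.Om3.RingTrans
import Groth.Agent.Om3.Chart
import Groth.Agent.FlatMor68.KoszulCalc
import Groth.Agent.FlatMor68.LocFree
import Groth.Agent.LCI19.ConormalLoc

/-! The conormal sheaf of the universal thickening of a formally unramified lci morphism. -/

set_option autoImplicit false
set_option backward.isDefEq.respectTransparency false

universe u

open CategoryTheory CategoryTheory.Limits AlgebraicGeometry TopologicalSpace TensorProduct

noncomputable section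

namespace Groth.Agent.Om3

open Groth.Agent QC70 Omega57

theorem RingUniv.exists_retract {A C C' : Type u} [CommRing A] [CommRing C] [CommRing C'] [Algebra A C]
    {δ' : A →+* C'} {π : C' →+* C} (h : RingUniv (algebraMap A C) δ' π) {P : Type u} [CommRing P] [Algebra A P]
    (θ : P →ₐ[A] C) (hθ : Function.Surjective θ) (Φ : P →+* C') (hΦ : π.comp Φ = θ.toRingHom)
    (hΦA : Φ.comp (algebraMap A P) = δ') :
    ∃ G : C' →+* P ⧸ RingHom.ker θ.toRingHom ^ 2,
      (∀ x, θ.toRingHom ((Ideal.Quotient.mk_surjective (G x)).choose) = π x) ∧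
      ∀ x p, Ideal.Quotient.mk (RingHom.ker θ.toRingHom ^ 2) p = G x → Φ p = x := by
  let J := RingHom.ker θ.toRingHom
  let q : P ⧸ J ^ 2 →+* C := Ideal.Quotient.lift _ θ.toRingHom fun a ha => Ideal.pow_le_self two_ne_zero ha
  have hq : Function.Surjective q := fun x => (hθ x).elim fun a ha => ⟨Ideal.Quotient.mk _ a, ha⟩
  have hq2 : RingHom.ker q ^ 2 = ⊥ := by
    have hle : RingHom.ker q ≤ J.map (Ideal.Quotient.mk (J ^ 2)) := fun x hx => by
      obtain ⟨x, rfl⟩ := Ideal.Quotient.mk_surjective x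
      exact Ideal.mem_map_of_mem _ hx
    refine le_bot_iff.1 ((Ideal.pow_right_mono hle 2).trans ?_)
    rw [← Ideal.map_pow, Ideal.map_quotient_self]
  obtain ⟨G, ⟨hG1, hG2⟩, -⟩ := h.lift _ C q hq hq2 ((Ideal.Quotient.mk (J ^ 2)).comp (algebraMap A P))
    (RingHom.id C) (RingHom.ext fun a => (θ.commutes a).symm)
  have hkill : J ^ 2 ≤ RingHom.ker Φ := by
    have h1 : J ≤ (RingHom.ker π).comap Φ := fun x hx => (RingHom.congr_fun hΦ x).trans hx
    refine (Ideal.pow_right_mono h1 2).trans ((Ideal.le_comap_pow _ _).trans ?_)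
    rw [h.sq]
    rfl
  let Φq : P ⧸ J ^ 2 →+* C' := Ideal.Quotient.lift _ Φ hkill
  have hid : Φq.comp G = RingHom.id C' := by
    refine h.ext π h.surj h.sq (RingHom.id C) ?_ rfl ?_
    · rw [← RingHom.comp_assoc, show π.comp Φq = q from Ideal.Quotient.ringHom_ext (by
        rw [RingHom.comp_assoc, Ideal.Quotient.lift_comp_mk, hΦ, Ideal.Quotient.lift_comp_mk]), hG1]
    · rw [RingHom.id_comp, RingHom.comp_assoc, hG2, ← RingHom.comp_assoc, Ideal.Quotient.lift_comp_mk, hΦA]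
  refine ⟨G, fun x => ?_, fun x p hp => ?_⟩
  · have := (Ideal.Quotient.mk_surjective (G x)).choose_spec
    show q (Ideal.Quotient.mk _ _) = _
    rw [this]
    exact RingHom.congr_fun hG1 x
  · rw [← RingHom.id_apply x, ← hid, RingHom.comp_apply, ← hp]
    rfl

theorem exists_cotangent_hull {P C : Type u} [CommRing P] [CommRing C] (θ : P →+* C) (hθ : Function.Surjective θ)
    (hJ : LCI.IsKoszulRegularIdeal (RingHom.ker θ)) :
    ∃ (T : Type u) (_ : AddCommGroup T) (_ : Module C T) (ι : RingHom.ker θ →+ T),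
      Module.Projective C T ∧ Module.Finite C T ∧ (∀ p a, ι (p • a) = θ p • ι a) ∧
      (∀ a b : RingHom.ker θ, Ideal.Quotient.mk (RingHom.ker θ ^ 2) (a : P) = Ideal.Quotient.mk _ (b : P) → ι a = ι b) ∧
      ∀ (N : Type u) [AddCommGroup N] [Module C N] (b : RingHom.ker θ →+ N),
        (∀ p a, b (p • a) = θ p • b a) → ∃ l : T →ₗ[C] N, ∀ a, l (ι a) = b a := by
  obtain ⟨hfin, hproj⟩ := LCI19.projective_cotangent hJ
  let e := RingHom.quotientKerEquivOfSurjective hθ
  letI : Algebra (P ⧸ RingHom.ker θ) C := e.toRingHom.toAlgebra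
  haveI := hfin
  haveI := hproj
  refine ⟨C ⊗[P ⧸ RingHom.ker θ] (RingHom.ker θ).Cotangent, inferInstance, inferInstance,
    AddMonoidHom.mk' (fun a => 1 ⊗ₜ (RingHom.ker θ).toCotangent a) (fun a b => by rw [map_add, TensorProduct.tmul_add]),
    inferInstance, inferInstance, fun p a => ?_, fun a b h => ?_, fun N _ _ b hb => ?_⟩
  · show (1 : C) ⊗ₜ[P ⧸ RingHom.ker θ] _ = θ p • ((1 : C) ⊗ₜ[P ⧸ RingHom.ker θ] _)
    rw [map_smul, show p • (RingHom.ker θ).toCotangent a = Ideal.Quotient.mk (RingHom.ker θ) p • (RingHom.ker θ).toCotangent a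
      from rfl, TensorProduct.tmul_smul, ← algebraMap_smul C (Ideal.Quotient.mk (RingHom.ker θ) p)]
    rfl
  · exact congrArg ((1 : C) ⊗ₜ[P ⧸ RingHom.ker θ] ·) ((RingHom.ker θ).toCotangent_eq.2 (Ideal.Quotient.eq.1 h))
  letI : Module (P ⧸ RingHom.ker θ) N := Module.compHom N e.toRingHom
  haveI : IsScalarTower (P ⧸ RingHom.ker θ) C N := IsScalarTower.of_algebraMap_smul fun _ _ => rfl
  have hkill : ∀ a b' : RingHom.ker θ, (RingHom.ker θ).toCotangent a = (RingHom.ker θ).toCotangent b' → b a = b b' := by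
    intro a b' h
    rw [Ideal.toCotangent_eq, pow_two] at h
    rw [← sub_eq_zero, ← map_sub]
    obtain ⟨hmem, h0⟩ : ∃ hz : (a : P) - b' ∈ RingHom.ker θ, b ⟨_, hz⟩ = 0 := by
      generalize (a : P) - b' = z at h
      induction h using Submodule.mul_induction_on' with
      | mem_mul_mem u hu v hv =>
        refine ⟨Ideal.mul_mem_left _ u hv, (congrArg b (Subtype.ext rfl : (⟨u * v, _⟩ : RingHom.ker θ) = u • ⟨v, hv⟩)).trans ?_⟩
        rw [hb, RingHom.mem_ker.1 hu, zero_smul]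
      | add u _ v _ hu hv =>
        obtain ⟨hu', hu⟩ := hu
        obtain ⟨hv', hv⟩ := hv
        refine ⟨add_mem hu' hv', (congrArg b (Subtype.ext rfl : (⟨u + v, _⟩ : RingHom.ker θ) = ⟨u, hu'⟩ + ⟨v, hv'⟩)).trans ?_⟩
        rw [map_add, hu, hv, add_zero]
    exact (congrArg b (Subtype.ext rfl)).trans h0
  choose sec hsec using (RingHom.ker θ).toCotangent_surjective
  let b₁ : (RingHom.ker θ).Cotangent →ₗ[P ⧸ RingHom.ker θ] N :=
    { toFun := fun x => b (sec x)
      map_add' := fun x y => by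
        rw [← map_add]
        exact hkill _ _ (by rw [map_add, hsec, hsec, hsec])
      map_smul' := fun r x => by
        obtain ⟨p, rfl⟩ := Ideal.Quotient.mk_surjective r
        show b (sec _) = θ p • b (sec x)
        rw [← hb]
        refine hkill _ _ ?_
        rw [map_smul, hsec, hsec]
        rfl }
  refine ⟨b₁.liftBaseChange C, fun a => ?_⟩
  show b₁.liftBaseChange C ((1 : C) ⊗ₜ (RingHom.ker θ).toCotangent a) = b a
  rw [LinearMap.liftBaseChange_tmul, one_smul]
  exact hkill _ _ (hsec _)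

set_option maxHeartbeats 800000 in
theorem isFinLocFree_conormal_univThickening {X Y X' : Scheme.{u}} {f : X ⟶ Y} (hf : ∀ x : X, Synt.IsKoszulAt f x)
    {i : X ⟶ X'} {h' : X' ⟶ Y} (hu : OmegaSh.IsUnivThickening f i h') :
    FlatMod.IsFinLocFree (Omega.conormal i) := by
  haveI := hu.1.1.1
  haveI : (ClSub.idealMod i.ker).IsQuasicoherent := Omega57.isQuasicoherent_idealMod _
  haveI : (Omega.conormal i).IsQuasicoherent := QCPull72.isQuasicoherent_pullback _ _
  refine FlatMor68.LocFree.isFinLocFree_of_projective_sections _ fun x => ?_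
  obtain ⟨U, hU, hxU, -⟩ := exists_isAffineOpen_mem_and_subset (x := f x) (U := ⊤) trivial
  obtain ⟨V, hV, hxV, hVU⟩ := exists_isAffineOpen_mem_and_subset (x := x) (U := f ⁻¹ᵁ U) hxU
  obtain ⟨V', rfl, hV', hsi, hsq⟩ := exists_thickening_opens hu.1 hV
  have hV'U : V' ≤ h' ⁻¹ᵁ U := le_preimage_of_thickening hu.1 (by rw [hu.2.1]; exact hVU)
  have hr := ringUniv_chart hu hU hV hVU hV' rfl hV'U
  obtain ⟨-, n, θ, hθ, hJ⟩ := FlatMor68.KoszulCalc.lci_appLE ((FlatMor68.KoszulCalc.forall_isKoszulAt_iff f).1 hf) hV hU hVU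
  refine ⟨_, hV, hxV, ?_⟩
  letI := (f.appLE U (i ⁻¹ᵁ V') hVU).hom.toAlgebra
  letI algC' : Algebra Γ(Y, U) Γ(X', V') := (h'.appLE U V' hV'U).hom.toAlgebra
  let π : Γ(X', V') →ₐ[Γ(Y, U)] Γ(X, i ⁻¹ᵁ V') :=
    ⟨(i.appLE V' (i ⁻¹ᵁ V') le_rfl).hom, fun a => RingHom.congr_fun hr.comp a⟩
  choose v hv using fun k => hr.surj (θ (MvPolynomial.X k))
  let Φ : MvPolynomial (Fin n) Γ(Y, U) →ₐ[Γ(Y, U)] Γ(X', V') := MvPolynomial.aeval v
  have hΦ : π.comp Φ = θ := MvPolynomial.algHom_ext fun k => by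
    show π (Φ (MvPolynomial.X k)) = _
    rw [MvPolynomial.aeval_X]
    exact hv k
  have hr' : RingUniv (algebraMap Γ(Y, U) Γ(X, i ⁻¹ᵁ V')) (h'.appLE U V' hV'U).hom (i.appLE V' (i ⁻¹ᵁ V') le_rfl).hom := hr
  obtain ⟨G, hG, hGΦ⟩ := RingUniv.exists_retract hr' θ hθ Φ.toRingHom
    (congrArg AlgHom.toRingHom hΦ) Φ.comp_algebraMap
  let J := RingHom.ker θ.toRingHom
  obtain ⟨T, _, _, ι, hTp, hTf, hιs, hιe, hιu⟩ := exists_cotangent_hull θ.toRingHom hθ hJ
  let C := Γ(X, i ⁻¹ᵁ V')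
  let N := Γ(Omega.conormal i, i ⁻¹ᵁ V')
  -- lift of a section of the ideal to the presentation
  have hkey : ∀ x, θ.toRingHom ((Ideal.Quotient.mk_surjective (G x)).choose) = i.app V' x := fun x =>
    (hG x).trans (by rw [Scheme.Hom.app_eq_appLE])
  let L : Γ(ClSub.idealMod i.ker, V') → J := fun s =>
    ⟨(Ideal.Quotient.mk_surjective (G (OmegaSh.idealSect i.ker V' s))).choose,
      (hkey _).trans (FlatMor67.app_idealSect i V' s)⟩
  have hL : ∀ s, Ideal.Quotient.mk (RingHom.ker θ.toRingHom ^ 2) (L s).1 = G (OmegaSh.idealSect i.ker V' s) :=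
    fun s => (Ideal.Quotient.mk_surjective (G (OmegaSh.idealSect i.ker V' s))).choose_spec
  obtain ⟨l₁, hl₁⟩ := SchBasics.exists_linear_pullSect_module i (ClSub.idealMod i.ker) hV hV' le_rfl T
    (AddMonoidHom.mk' (fun s => ι (L s)) fun a b => by
      rw [← map_add]
      exact hιe _ _ (by rw [hL, map_add, map_add, ← hL, ← hL, ← map_add]; rfl))
    fun r s => by
      obtain ⟨p, hp⟩ := Ideal.Quotient.mk_surjective (G r)
      show ι (L (r • s)) = i.appLE V' (i ⁻¹ᵁ V') le_rfl r • ι (L s)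
      rw [show ι (L (r • s)) = ι (p • L s) from hιe _ _ (by rw [hL, idealSect_smul, map_mul, ← hp, ← hL]; rfl), hιs]
      refine congrArg (· • ι (L s)) ?_
      exact (RingHom.congr_fun (congrArg AlgHom.toRingHom hΦ) p).symm.trans (congrArg (fun y => i.appLE V' (i ⁻¹ᵁ V') le_rfl y) (hGΦ r p hp))
  -- back
  have hΦe : ∀ p, i.app V' (Φ p) = θ.toRingHom p := fun p => by
    rw [Scheme.Hom.app_eq_appLE]
    exact RingHom.congr_fun (congrArg AlgHom.toRingHom hΦ) p
  choose κ hκ using fun a : J => exists_sect_of_app_eq_zero i (Φ a.1) ((hΦe a.1).trans a.2)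
  let b₀ : J →+ N := AddMonoidHom.mk' (fun a => OmegaSh.conormalSect i V' (κ a)) fun a b => by
    rw [← map_add]
    exact congrArg _ (idealSect_injective _ _ (by rw [map_add, hκ, hκ, hκ, Submodule.coe_add, map_add]))
  obtain ⟨l₂, hl₂⟩ := hιu N b₀ fun p a => by
    show OmegaSh.conormalSect i V' (κ (p • a)) = θ.toRingHom p • OmegaSh.conormalSect i V' (κ a)
    rw [← hΦe p, ← conormalSect_smul]
    exact congrArg _ (idealSect_injective _ _ (by rw [hκ, idealSect_smul, hκ, ← map_mul]; rfl))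
  have hretr : l₂ ∘ₗ l₁ = LinearMap.id := LinearMap.ext fun y => by
    obtain ⟨s, rfl⟩ := conormalSect_surjective i hV' hV hsi y
    show l₂ (l₁ (OmegaSh.conormalSect i V' s)) = OmegaSh.conormalSect i V' s
    rw [← res_self (M := Omega.conormal i) (OmegaSh.conormalSect i V' s)]
    refine (congrArg l₂ (hl₁ s)).trans ((hl₂ _).trans ?_)
    rw [res_self (M := Omega.conormal i)]
    refine congrArg (OmegaSh.conormalSect i V') (idealSect_injective _ _ ?_)
    rw [hκ]
    exact hGΦ _ _ (hL s)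
  haveI := hTp
  haveI := hTf
  exact ⟨Module.Projective.of_split l₁ l₂ hretr, Module.Finite.of_surjective l₂ fun y => ⟨l₁ y, LinearMap.congr_fun hretr y⟩⟩

end Groth.Agent.Om3
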