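import Groth.Agent.Om3.ConormalSeq
import Groth.Agent.Om3.RingTrans

/-! The split conormal sequence of universal thickenings along a formally smooth morphism. -/

set_option autoImplicit false
set_option backward.isDefEq.respectTransparency false

universe u

open CategoryTheory CategoryTheory.Limits AlgebraicGeometry TopologicalSpace MoreMor

noncomputable section

namespace Groth.Agent.Om3

open Groth.Agent QC70

theorem isNilpotent_ker_of_fot {Z Z' : Scheme.{u}} {t : Z ⟶ Z'} (ht : IsFirstOrderThickening t) :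
    IsNilpotent t.ker :=
  ⟨2, by rw [pow_two]; exact ht.2⟩

/-- Restriction of a left inverse on sections over an affine open to the sheaves over it. -/
theorem exists_restrict_retraction {Z : Scheme.{u}} {M N : Z.Modules} [M.IsQuasicoherent] [N.IsQuasicoherent]
    (ψ : M ⟶ N) {U : Z.Opens} (hU : IsAffineOpen U) (l : Γ(N, U) →ₗ[Γ(Z, U)] Γ(M, U))
    (hl : ∀ x, l (ψ.app U x) = x) :
    ∃ r : (Scheme.Modules.restrictFunctor U.ι).obj N ⟶ (Scheme.Modules.restrictFunctor U.ι).obj M,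
      (Scheme.Modules.restrictFunctor U.ι).map ψ ≫ r = 𝟙 _ := by
  refine ⟨(HomOn.ofLinear hU l).toRestrictHom, Scheme.Modules.hom_ext _ _ fun O => ?_⟩
  ext s
  refine (M.restrictAppIso U.ι O).addCommGroupIsoToAddEquiv.injective ?_
  show (M.restrictAppIso U.ι O).hom ((HomOn.ofLinear hU l).toRestrictHom.app O
    (((Scheme.Modules.restrictFunctor U.ι).map ψ).app O s)) = (M.restrictAppIso U.ι O).hom s
  rw [HomOn.toRestrictHom_app]
  refine HomOn.ext_of_affine hU (isLocAt_of_isQuasicoherent M hU)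
    ((HomOn.ofHom ψ U).comp (HomOn.ofLinear hU l)) (HomOn.ofHom (𝟙 M) U) ?_ (HomOn.range_le O) _
  refine LinearMap.ext fun x => ?_
  show (HomOn.ofLinear hU l).app U le_rfl (ψ.app U x) = x
  rw [HomOn.ofLinear_app_self, hl]

theorem thickening_split {Z X Y Z' Z'' : Scheme.{u}} {i : Z ⟶ X} {p : X ⟶ Y} (hp : IsFormallySmoothHom p)
    {i' : Z ⟶ Z'} {a : Z' ⟶ X} (hZ' : OmegaSh.IsUnivThickening i i' a)
    {i'' : Z ⟶ Z''} {b : Z'' ⟶ Y} (hZ'' : OmegaSh.IsUnivThickening (i ≫ p) i'' b)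
    {k : Z' ⟶ Z''} (hk₁ : i' ≫ k = i'') (hk₂ : k ≫ b = a ≫ p)
    {Ω : Z'.Modules} {d : OmegaSh.Der k Ω} (hd : OmegaSh.IsUniversal d)
    {ψ : (Scheme.Modules.pullback (𝟙 Z)).obj (Omega.conormal i'') ⟶ Omega.conormal i'}
    (hψ : OmegaSh.IsConormalMap i' i'' k (𝟙 Z) ψ)
    {φ : Omega.conormal i' ⟶ (Scheme.Modules.pullback i').obj Ω} (hφ : OmegaSh.IsConormalDiff i' d φ) :
    ∃ w : ψ ≫ φ = 0, (ShortComplex.mk ψ φ w).ShortExact ∧
      ∀ z : Z, ∃ (U : Z.Opens) (r : (Scheme.Modules.restrictFunctor U.ι).obj (Omega.conormal i') ⟶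
          (Scheme.Modules.restrictFunctor U.ι).obj ((Scheme.Modules.pullback (𝟙 Z)).obj (Omega.conormal i''))),
        z ∈ U ∧ (Scheme.Modules.restrictFunctor U.ι).map ψ ≫ r = 𝟙 _ := by
  haveI := hZ'.1.1.1; haveI := hZ''.1.1.1; haveI := hZ''.1.1.2
  obtain ⟨w, hex, hepi⟩ := conormal_omega_exact hd hψ hφ
  have chart : ∀ (O : Z.Opens) (z : Z), z ∈ O → ∃ P : Z.Opens, z ∈ P ∧ P ≤ O ∧ IsAffineOpen P ∧
      ∃ l : Γ(Omega.conormal i', P) →ₗ[Γ(Z, P)]
          Γ((Scheme.Modules.pullback (𝟙 Z)).obj (Omega.conormal i''), P), ∀ x, l (ψ.app P x) = x := by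
    intro O z hz
    obtain ⟨U, Y₀, W, hU, hY₀, hW, hUY, hzW, hWU, hWY⟩ :=
      FlatMor67.exists_charts (t := i'') (a := i) (b := b) (f := p) hZ''.2.1 (i'' z)
    obtain ⟨L, hL₁, hL₂⟩ := FlatMor67.exists_local_lift (isNilpotent_ker_of_fot hZ''.1) hZ''.2.1 hU hY₀ hUY
      (FlatMor67.formallySmooth_appLE hU hY₀ hUY hp) hW hWU hWY
    obtain ⟨V, W', hVW, hV, hW', hle, hjV, hjs, his, hpre, hzP, hPO⟩ :=
      exists_compatible_chart k i' i'' hk₁ hz hzW
    obtain ⟨-, -, -, h4⟩ := chart_seq hd hψ hφ hV hW' hle hjV hjs his hpre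
    refine ⟨_, hzP, hPO, by rw [hpre]; exact hjV, h4 ?_⟩
    let l : (V : Scheme.{u}) ⟶ X := Z''.homOfLE hVW ≫ L
    have ht := fot_of_isPullback (isPullback_morphismRestrict i'' V) hZ''.1
    have hl : (i'' ∣_ V) ≫ l = (i'' ⁻¹ᵁ V).ι ≫ i := by
      have h0 : (i'' ∣_ V) ≫ Z''.homOfLE hVW = Z.homOfLE (i''.preimage_mono hVW) ≫ (i'' ∣_ W) := by
        rw [← cancel_mono W.ι]
        simp [morphismRestrict_ι]
      rw [show l = Z''.homOfLE hVW ≫ L from rfl, reassoc_of% h0, hL₂, Scheme.homOfLE_ι_assoc]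
    obtain ⟨a', ⟨ha₁, ha₂⟩, -⟩ := hZ'.2.2 _ _ (i'' ∣_ V) l (i'' ⁻¹ᵁ V).ι ht hl
    have hak : a' ≫ k = V.ι := by
      refine (hZ''.2.2 _ _ (i'' ∣_ V) (V.ι ≫ b) (i'' ⁻¹ᵁ V).ι ht (by
        rw [morphismRestrict_ι_assoc, hZ''.2.1])).unique ⟨?_, ?_⟩ ⟨morphismRestrict_ι i'' V, rfl⟩
      · rw [← Category.assoc, ha₁, Category.assoc, hk₁]
      · rw [Category.assoc, hk₂, ← Category.assoc, ha₂, show l = Z''.homOfLE hVW ≫ L from rfl, Category.assoc,
          hL₁, Scheme.homOfLE_ι_assoc]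
    have hrange : (⊤ : (V : Scheme.{u}).Opens) ≤ a' ⁻¹ᵁ W' := fun x _ => by
      obtain ⟨y, rfl⟩ := ht.1.2.surj x
      show a' ((i'' ∣_ V) y) ∈ W'
      rw [← Scheme.Hom.comp_apply, ha₁, Scheme.Hom.comp_apply]
      exact hpre.ge y.2
    let s : Γ(Z', W') →+* Γ(Z'', V) := (a'.appLE W' ⊤ hrange ≫ V.topIso.hom).hom
    have key : ∀ {P Q : Scheme.{u}} (f : P ⟶ Q) (A : Q.Opens) (B : P.Opens) (e : B ≤ f ⁻¹ᵁ A) (x : Γ(A, ⊤)),
        f.appLE A B e (A.topIso.hom x) = B.topIso.hom ((f.resLE A B e).appTop x) := fun f A B e x =>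
      congr($((arrowResLEAppIso f A B e).hom.w) x)
    have htop : ∀ {P : Scheme.{u}} (A : P.Opens) (e : (⊤ : (A : Scheme.{u}).Opens) ≤ A.ι ⁻¹ᵁ A) (r : Γ(P, A)),
        A.topIso.hom (A.ι.appLE A ⊤ e r) = r := fun A e r => by
      have h : A.ι.appLE A ⊤ e ≫ A.topIso.hom = 𝟙 _ := by
        simp [Scheme.Opens.ι_appLE, ← Functor.map_comp]
      exact congr($h r)
    refine ⟨(Ideal.Quotient.mk _).comp s, fun r => congrArg (Ideal.Quotient.mk (RingHom.ker (i''.app V).hom ^ 2)) ?_, fun x r hr => ?_⟩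
    · show V.topIso.hom ((k.appLE V W' hle ≫ a'.appLE W' ⊤ hrange) r) = r
      rw [Scheme.Hom.appLE_comp_appLE]
      have : ∀ (q : (V : Scheme.{u}) ⟶ Z'') (e : ⊤ ≤ q ⁻¹ᵁ V), q = V.ι → V.topIso.hom (q.appLE V ⊤ e r) = r := by
        rintro q e rfl; exact htop V e r
      exact this _ _ hak
    · have hjr : i''.app V r = i''.app V (s x) := by
        have h0 := Ideal.Quotient.eq.1 hr.symm
        rw [← sub_eq_zero, ← map_sub]
        exact RingHom.mem_ker.1 (Ideal.pow_le_self two_ne_zero h0)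
      rw [Scheme.Hom.appLE, ConcreteCategory.comp_apply, hjr]
      have h1 : i''.app V (s x) = i'.appLE W' (i'' ⁻¹ᵁ V) hpre.ge x := by
        rw [Scheme.Hom.app_eq_appLE]
        show i''.appLE V _ _ (V.topIso.hom (a'.appLE W' ⊤ hrange x)) = _
        rw [key, Scheme.Hom.resLE_eq_morphismRestrict]
        have h2 : ∀ (q : ((i'' ⁻¹ᵁ V : Z.Opens) : Scheme.{u}) ⟶ Z') (e : ⊤ ≤ q ⁻¹ᵁ W'),
            q = (i'' ⁻¹ᵁ V).ι ≫ i' → (i'' ⁻¹ᵁ V).topIso.hom (q.appLE W' ⊤ e x) =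
              i'.appLE W' (i'' ⁻¹ᵁ V) hpre.ge x := by
          rintro q e rfl
          rw [← Scheme.Hom.appLE_comp_appLE _ i' W' (i'' ⁻¹ᵁ V) ⊤ hpre.ge (Scheme.Opens.ι_preimage_self (i'' ⁻¹ᵁ V)).ge, ConcreteCategory.comp_apply]
          exact htop _ _ _
        have h3 : (i'' ∣_ V).appTop (a'.appLE W' ⊤ hrange x) =
            ((i'' ∣_ V) ≫ a').appLE W' ⊤ (fun y _ => hrange trivial) x := by
          rw [show (i'' ∣_ V).appTop = (i'' ∣_ V).appLE ⊤ ⊤ le_top from Scheme.Hom.app_eq_appLE _, ← ConcreteCategory.comp_apply,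
            Scheme.Hom.appLE_comp_appLE]
        rw [h3]
        exact h2 _ _ ha₁
      rw [h1, ← ConcreteCategory.comp_apply, Scheme.Hom.appLE_map, Scheme.Hom.app_eq_appLE]
  have hmono : Mono ψ := mono_of_basis ψ fun O z hz => by
    obtain ⟨P, h1, h2, -, l, hl⟩ := chart O z hz
    exact ⟨P, h1, h2, fun x y hxy => by rw [← hl x, ← hl y, hxy]⟩
  refine ⟨w, { exact := hex, mono_f := hmono, epi_g := hepi }, fun z => ?_⟩
  obtain ⟨P, hzP, -, hP, l, hl⟩ := chart ⊤ z trivial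
  haveI : (ClSub.idealMod i'.ker).IsQuasicoherent := Omega57.isQuasicoherent_idealMod _
  haveI : (ClSub.idealMod i''.ker).IsQuasicoherent := Omega57.isQuasicoherent_idealMod _
  haveI : (Omega.conormal i').IsQuasicoherent := QCPull72.isQuasicoherent_pullback _ _
  haveI : (Omega.conormal i'').IsQuasicoherent := QCPull72.isQuasicoherent_pullback _ _
  haveI : ((Scheme.Modules.pullback (𝟙 Z)).obj (Omega.conormal i'')).IsQuasicoherent :=
    QCPull72.isQuasicoherent_pullback _ _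
  obtain ⟨r, hr⟩ := exists_restrict_retraction ψ hP l hl
  exact ⟨P, r, hzP, hr⟩

end Groth.Agent.Om3
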