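import Groth.Agent.Om3.ConormalCart
import Groth.Prelude.Def_NonAbH2
import Groth.Prelude.Def_Red

/-! The diagonal of a torsor is a base change of the unit section. -/

set_option autoImplicit false
set_option backward.isDefEq.respectTransparency false

universe u

open CategoryTheory MonoidalCategory CartesianMonoidalCategory MonObj AlgebraicGeometry Limits

noncomputable section

namespace Groth.Agent.Om3

open Groth.Agent

theorem torsor_diagonal {K : Type u} [Field K] {G Y : Over (Spec (CommRingCat.of K))} [GrpObj G]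
    [IsAffine G.left] {X : Over Y.left} (a : AlgGrp.Action (Red.bc Y.hom G) X)
    (hX : IsIso (lift a.act (snd (Red.bc Y.hom G) X)))
    (g : pullback X.hom X.hom ⟶ G.left)
    (hg : (lift a.act (snd (Red.bc Y.hom G) X)).left ≫ g =
      (fst (Red.bc Y.hom G) X).left ≫ pullback.fst G.hom Y.hom) :
    IsPullback (pullback.diagonal X.hom) (toUnit (Over.mk (X.hom ≫ Y.hom) : Over (Spec (CommRingCat.of K)))).left
      g (η[G]).left ∧ Flat g := by
  let GY := Red.bc Y.hom G
  let e := lift a.act (snd GY X)
  haveI : IsIso e := hX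
  haveI : IsIso e.left := inferInstanceAs (IsIso ((Over.forget _).map e))
  let P := pullback GY.hom X.hom
  let g' : P ⟶ G.left := pullback.fst GY.hom X.hom ≫ pullback.fst G.hom Y.hom
  have hXY : (X.hom ≫ Y.hom) ≫ 𝟙 _ = X.hom ≫ Y.hom := Category.comp_id _
  have hη : (η[G]).left ≫ G.hom = 𝟙 (Spec (CommRingCat.of K)) := Over.w η[G]
  have hflat : Flat g' := by
    have h : IsPullback g' (pullback.snd GY.hom X.hom) G.hom (X.hom ≫ Y.hom) :=
      ((IsPullback.of_hasPullback GY.hom X.hom).flip.paste_vert
        (IsPullback.of_hasPullback G.hom Y.hom).flip).flip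
    exact MorphismProperty.of_isPullback h.flip inferInstance
  let s : X ⟶ GY ⊗ X := lift (toUnit X ≫ η[GY]) (𝟙 X)
  have hse : s.left ≫ e.left = pullback.diagonal X.hom := by
    rw [← Over.comp_left]
    have : s ≫ e = lift (𝟙 X) (𝟙 X) := by
      rw [comp_lift, lift_snd]
      congr 1
      have h := a.one_act
      have h2 : s = lift (toUnit X) (𝟙 X) ≫ (η[GY] ▷ X) := by
        rw [lift_whiskerRight]
      rw [h2, Category.assoc, h]
      simp
    rw [this]
    apply pullback.hom_ext
    · rw [pullback.diagonal_fst]; exact congr(CommaMorphism.left $(lift_fst (𝟙 X) (𝟙 X)))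
    · rw [pullback.diagonal_snd]; exact congr(CommaMorphism.left $(lift_snd (𝟙 X) (𝟙 X)))
  have hηY : (η[GY]).left ≫ pullback.fst G.hom Y.hom = Y.hom ≫ (η[G]).left := by
    simp [GY, Red.bc]
  have hP : pullback.fst GY.hom X.hom ≫ pullback.snd G.hom Y.hom = pullback.snd GY.hom X.hom ≫ X.hom :=
    pullback.condition
  have hs1 : s.left ≫ pullback.fst GY.hom X.hom = X.hom ≫ (η[GY]).left := by
    have h := congr(CommaMorphism.left $(lift_fst (toUnit X ≫ η[GY]) (𝟙 X)))
    exact h
  have hs2 : s.left ≫ pullback.snd GY.hom X.hom = 𝟙 X.left :=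
    congr(CommaMorphism.left $(lift_snd (toUnit X ≫ η[GY]) (𝟙 X)))
  have hsq : IsPullback s.left (X.hom ≫ Y.hom) g' (η[G]).left := by
    have hw : s.left ≫ g' = (X.hom ≫ Y.hom) ≫ (η[G]).left := by
      show s.left ≫ _ ≫ _ = _
      rw [← Category.assoc, hs1, Category.assoc, hηY, Category.assoc]
    refine ⟨⟨hw⟩, ⟨PullbackCone.IsLimit.mk _ (fun c => c.fst ≫ pullback.snd _ _) (fun c => ?_) (fun c => ?_)
      (fun c m h₁ h₂ => ?_)⟩⟩
    · have hb : c.snd = (c.fst ≫ pullback.snd GY.hom X.hom) ≫ X.hom ≫ Y.hom := by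
        have h := c.condition =≫ G.hom
        rw [Category.assoc, Category.assoc c.snd, hη, Category.comp_id] at h
        rw [← h]
        show _ ≫ g' ≫ G.hom = _
        simp only [g', Category.assoc]
        rw [pullback.condition, reassoc_of% hP]
      apply pullback.hom_ext
      · rw [Category.assoc, hs1]
        apply pullback.hom_ext
        · simp only [Category.assoc, hηY]
          rw [← Category.assoc, ← Category.assoc (c.fst ≫ _) X.hom, ← Category.assoc]
          refine Eq.trans ?_ c.condition.symm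
          rw [hb]
          simp
        · simp only [Category.assoc]
          rw [show (η[GY]).left ≫ pullback.snd G.hom Y.hom = 𝟙 Y.left from Over.w η[GY], Category.comp_id, hP]
      · rw [Category.assoc, hs2, Category.comp_id]
    · have h := c.condition =≫ G.hom
      rw [Category.assoc, Category.assoc c.snd, hη, Category.comp_id] at h
      rw [← h]
      show _ = _ ≫ g' ≫ G.hom
      simp only [g', Category.assoc]
      rw [pullback.condition, reassoc_of% hP]
    · rw [← h₁, Category.assoc, hs2, Category.comp_id]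
  have hg' : g = inv e.left ≫ g' := by
    rw [IsIso.eq_inv_comp]
    exact hg
  refine ⟨?_, by rw [hg']; infer_instance⟩
  refine hsq.of_iso (Iso.refl _) (asIso e.left) (Iso.refl _) (Iso.refl _) ?_ ?_ ?_ ?_
  · simpa using hse
  · simp
  · simp [hg']
  · simp

theorem torsor_conormal {K : Type u} [Field K] {G Y : Over (Spec (CommRingCat.of K))} [GrpObj G]
    [IsAffine G.left] {X : Over Y.left} (a : AlgGrp.Action (Red.bc Y.hom G) X)
    (hX : IsIso (lift a.act (snd (Red.bc Y.hom G) X)))
    (g : pullback X.hom X.hom ⟶ G.left)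
    (hg : (lift a.act (snd (Red.bc Y.hom G) X)).left ≫ g =
      (fst (Red.bc Y.hom G) X).left ≫ pullback.fst G.hom Y.hom) :
    ∃ φ : (Scheme.Modules.pullback (toUnit (Over.mk (X.hom ≫ Y.hom) : Over (Spec (CommRingCat.of K)))).left).obj
        (Omega.conormal (η[G]).left) ⟶ Omega.conormal (pullback.diagonal X.hom),
      OmegaSh.IsConormalMap (pullback.diagonal X.hom) (η[G]).left g
        (toUnit (Over.mk (X.hom ≫ Y.hom) : Over (Spec (CommRingCat.of K)))).left φ ∧ IsIso φ := by
  obtain ⟨hsq, hflat⟩ := torsor_diagonal a hX g hg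
  haveI : IsClosedImmersion (η[G]).left := by
    haveI : IsSeparated G.hom := inferInstance
    have h : IsClosedImmersion ((η[G]).left ≫ G.hom) := by
      rw [show (η[G]).left ≫ G.hom = 𝟙 _ from Over.w η[G]]; infer_instance
    exact IsClosedImmersion.of_comp _ G.hom
  haveI : IsClosedImmersion (pullback.diagonal X.hom) := MorphismProperty.of_isPullback hsq.flip inferInstance
  obtain ⟨φ, hφ, -⟩ := existsUnique_conormalMap (g := g) hsq.w.symm
  exact ⟨φ, hφ, (epi_and_isIso hsq hφ).2 hflat⟩

end Groth.Agent.Om3
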