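import Groth.Agent.Om3.RingTrans
import Groth.Agent.Om3.Chart

/-! Transitivity of conormal sheaves of formally unramified morphisms. -/

set_option autoImplicit false
set_option backward.isDefEq.respectTransparency false

universe u

open CategoryTheory CategoryTheory.Limits AlgebraicGeometry TopologicalSpace MoreMor

noncomputable section

namespace Groth.Agent.Om3

open Groth.Agent QC70 Omega57

theorem appLE_eq_zero_iff {Z X : Scheme.{u}} (i : Z ⟶ X) {V' : X.Opens} {V : Z.Opens} (h : i ⁻¹ᵁ V' = V)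
    (a : Γ(X, V')) : i.appLE V' V h.ge a = 0 ↔ i.app V' a = 0 := by
  subst h
  rw [← Scheme.Hom.app_eq_appLE]

section Setting

variable {Z Y Z' Y' Z'' : Scheme.{u}} {i : Z ⟶ Y} {i' : Z ⟶ Z'} {j : Y ⟶ Y'} {m : Z' ⟶ Y'}
  {i'' : Z ⟶ Z''} {n : Z'' ⟶ Z'}
  {ψ₁ : (Scheme.Modules.pullback i).obj (Omega.conormal j) ⟶ Omega.conormal i'}
  {ψ₂ : (Scheme.Modules.pullback (𝟙 Z)).obj (Omega.conormal i') ⟶ Omega.conormal i''}

/-- The image of the map of conormal sheaves on sections over an affine chart. -/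
theorem range_conormalMap_chart [QuasiCompact i'] [QuasiCompact j] (hψ₁ : OmegaSh.IsConormalMap i' j m i ψ₁)
    {V' : Y'.Opens} (hV' : IsAffineOpen V') (hV : IsAffineOpen (j ⁻¹ᵁ V')) (hj : Function.Surjective (j.app V'))
    {W' : Z'.Opens} (hW : IsAffineOpen (i' ⁻¹ᵁ W')) (hsurj : Function.Surjective (i'.app W'))
    (hmW : W' ≤ m ⁻¹ᵁ V') (hiW : i' ⁻¹ᵁ W' ≤ i ⁻¹ᵁ (j ⁻¹ᵁ V')) :
    (∀ y, ∃ s, ψ₁.app (i' ⁻¹ᵁ W') y = OmegaSh.conormalSect i' W' s ∧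
      OmegaSh.idealSect i'.ker W' s ∈
        (RingHom.ker (j.appLE V' (j ⁻¹ᵁ V') le_rfl).hom).map (m.appLE V' W' hmW).hom) ∧
    ∀ a ∈ (RingHom.ker (j.appLE V' (j ⁻¹ᵁ V') le_rfl).hom).map (m.appLE V' W' hmW).hom,
      ∃ s y, OmegaSh.idealSect i'.ker W' s = a ∧ ψ₁.app (i' ⁻¹ᵁ W') y = OmegaSh.conormalSect i' W' s := by
  let P := (Scheme.Modules.pullback i).obj (Omega.conormal j)
  haveI : (ClSub.idealMod j.ker).IsQuasicoherent := Omega57.isQuasicoherent_idealMod _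
  haveI : (Omega.conormal j).IsQuasicoherent := QCPull72.isQuasicoherent_pullback _ _
  let gen : Γ(ClSub.idealMod j.ker, V') → Γ(P, i' ⁻¹ᵁ W') := fun k =>
    res P hiW (OmegaSh.pullSect i (Omega.conormal j) (j ⁻¹ᵁ V') (OmegaSh.conormalSect j V' k))
  have hgen : ∀ k, ∃ t, OmegaSh.idealSect i'.ker W' t = m.appLE V' W' hmW (OmegaSh.idealSect j.ker V' k) ∧
      ψ₁.app (i' ⁻¹ᵁ W') (gen k) = OmegaSh.conormalSect i' W' t := fun k => by
    obtain ⟨t, ht⟩ := exists_sect_of_app_eq_zero i' (W := W') (m.appLE V' W' hmW (OmegaSh.idealSect j.ker V' k)) (by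
      have key : ∀ (q : Z ⟶ Y') (h : i' ⁻¹ᵁ W' ≤ q ⁻¹ᵁ V'), q = i' ≫ m → ∀ x,
          i'.app W' (m.appLE V' W' hmW x) = q.appLE V' (i' ⁻¹ᵁ W') h x := by
        rintro q h rfl x
        rw [← ConcreteCategory.comp_apply, Scheme.Hom.app_eq_appLE, Scheme.Hom.appLE_comp_appLE]
      rw [key (i ≫ j) hiW hψ₁.1, Scheme.Hom.comp_appLE, ConcreteCategory.comp_apply, FlatMor67.app_idealSect,
        map_zero])
    exact ⟨t, ht, (conormalMap_val hψ₁ hmW hiW le_rfl k t ht).trans (res_self (M := Omega.conormal i') _)⟩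
  constructor
  · intro y
    have hy : y ∈ Submodule.span Γ(Z, i' ⁻¹ᵁ W') (Set.range fun z : Γ(Omega.conormal j, j ⁻¹ᵁ V') =>
        res P hiW (OmegaSh.pullSect i (Omega.conormal j) (j ⁻¹ᵁ V') z)) :=
      (SchBasics.span_pullSect i (Omega.conormal j) hW hV hiW).ge trivial
    induction hy using Submodule.span_induction with
    | mem y hy =>
      obtain ⟨z, rfl⟩ := hy
      obtain ⟨k, rfl⟩ := conormalSect_surjective j hV' hV hj z
      obtain ⟨t, ht, ht'⟩ := hgen k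
      refine ⟨t, ht', ht ▸ Ideal.mem_map_of_mem _ ?_⟩
      rw [RingHom.mem_ker]
      exact (appLE_eq_zero_iff j rfl _).2 (FlatMor67.app_idealSect j V' k)
    | zero => exact ⟨0, by rw [map_zero, map_zero], by rw [map_zero]; exact zero_mem _⟩
    | add y z _ _ hy hz =>
      obtain ⟨s, hs, hs'⟩ := hy; obtain ⟨t, ht, ht'⟩ := hz
      exact ⟨s + t, by rw [map_add, map_add, hs, ht], by rw [map_add]; exact add_mem hs' ht'⟩
    | smul r y _ hy =>
      obtain ⟨s, hs, hs'⟩ := hy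
      obtain ⟨c, rfl⟩ := hsurj r
      exact ⟨c • s, by rw [Scheme.Modules.Hom.app_smul, hs, conormalSect_smul],
        by rw [Omega57.idealSect_smul]; exact Ideal.mul_mem_left _ _ hs'⟩
  · intro a ha
    induction ha using Submodule.span_induction with
    | mem a ha =>
      obtain ⟨x, hx, rfl⟩ := ha
      obtain ⟨k, hk⟩ := exists_sect_of_app_eq_zero j x ((appLE_eq_zero_iff j rfl _).1 hx)
      obtain ⟨t, ht, ht'⟩ := hgen k
      exact ⟨t, gen k, by rw [ht, hk], ht'⟩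
    | zero => exact ⟨0, 0, map_zero _, by rw [map_zero, map_zero]⟩
    | add a b _ _ ha hb =>
      obtain ⟨s, y, rfl, hs⟩ := ha; obtain ⟨t, z, rfl, ht⟩ := hb
      exact ⟨s + t, y + z, map_add _ _ _, by rw [map_add, map_add, hs, ht]⟩
    | smul c a _ ha =>
      obtain ⟨s, y, rfl, hs⟩ := ha
      exact ⟨c • s, i'.app W' c • y, Omega57.idealSect_smul _ _ _ _,
        by rw [Scheme.Modules.Hom.app_smul, hs, conormalSect_smul]⟩

/-- The map of conormal sheaves over a common source, on sections over an affine chart. -/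
theorem conormalMap_id_chart [QuasiCompact i''] (hψ₂ : OmegaSh.IsConormalMap i'' i' n (𝟙 Z) ψ₂)
    {W' : Z'.Opens} {W'' : Z''.Opens} (hW'' : IsAffineOpen W'') (hW : IsAffineOpen (i'' ⁻¹ᵁ W''))
    (hsurj : Function.Surjective (i''.app W'')) (hsq : RingHom.ker (i''.app W'').hom ^ 2 = ⊥)
    (hpre : i'' ⁻¹ᵁ W'' = i' ⁻¹ᵁ W') (hnW : W'' ≤ n ⁻¹ᵁ W') :
    (∀ s, ψ₂.app (i' ⁻¹ᵁ W') (OmegaSh.pullSect (𝟙 Z) (Omega.conormal i') (i' ⁻¹ᵁ W') (OmegaSh.conormalSect i' W' s)) = 0 ↔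
      n.appLE W' W'' hnW (OmegaSh.idealSect i'.ker W' s) = 0) ∧
    ∀ x, ∃ t, i''.app W'' (OmegaSh.idealSect i''.ker W'' t) = 0 ∧ ∀ s,
      n.appLE W' W'' hnW (OmegaSh.idealSect i'.ker W' s) = OmegaSh.idealSect i''.ker W'' t →
        ψ₂.app (i' ⁻¹ᵁ W') (OmegaSh.pullSect (𝟙 Z) (Omega.conormal i') (i' ⁻¹ᵁ W') (OmegaSh.conormalSect i' W' s)) = x := by
  have hval : ∀ s t, n.appLE W' W'' hnW (OmegaSh.idealSect i'.ker W' s) = OmegaSh.idealSect i''.ker W'' t →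
      ψ₂.app (i' ⁻¹ᵁ W') (OmegaSh.pullSect (𝟙 Z) (Omega.conormal i') (i' ⁻¹ᵁ W') (OmegaSh.conormalSect i' W' s)) =
        res (Omega.conormal i'') hpre.ge (OmegaSh.conormalSect i'' W'' t) := fun s t ht => by
    have := conormalMap_val hψ₂ hnW (le_refl (i' ⁻¹ᵁ W')) hpre.ge s t ht.symm
    refine Eq.trans (congrArg _ ?_) this
    exact (res_self (M := (Scheme.Modules.pullback (𝟙 Z)).obj (Omega.conormal i')) _).symm
  have hinj : ∀ z, res (Omega.conormal i'') hpre.ge z = 0 → z = 0 := fun z hz => by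
    have := congrArg (res (Omega.conormal i'') hpre.le) hz
    rw [res_res, QC70.res_zero] at this
    exact (res_self (M := Omega.conormal i'') z).symm.trans this
  refine ⟨fun s => ?_, fun x => ?_⟩
  · obtain ⟨t, ht⟩ := exists_sect_of_app_eq_zero i'' (W := W'') (n.appLE W' W'' hnW (OmegaSh.idealSect i'.ker W' s)) (by
      have key : ∀ (q : Z ⟶ Z') (h : i'' ⁻¹ᵁ W'' ≤ q ⁻¹ᵁ W'), q = i'' ≫ n → ∀ x,
          i''.app W'' (n.appLE W' W'' hnW x) = q.appLE W' (i'' ⁻¹ᵁ W'') h x := by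
        rintro q h rfl x
        rw [← ConcreteCategory.comp_apply, Scheme.Hom.app_eq_appLE, Scheme.Hom.appLE_comp_appLE]
      rw [key i' hpre.le ((Category.id_comp i').symm.trans hψ₂.1), Scheme.Hom.appLE, ConcreteCategory.comp_apply,
        FlatMor67.app_idealSect, map_zero])
    rw [hval s t ht.symm]
    refine ⟨fun h => ?_, fun h => ?_⟩
    · rw [← ht, (conormalSect_eq_zero_iff_of_sq i'' hW'' hW hsurj hsq t).1 (hinj _ h), map_zero]
    · rw [(conormalSect_eq_zero_iff_of_sq i'' hW'' hW hsurj hsq t).2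
        (Omega57.idealSect_injective _ _ (by rw [ht, h, map_zero])), QC70.res_zero]
  · obtain ⟨t, ht⟩ := conormalSect_surjective i'' hW'' hW hsurj (res (Omega.conormal i'') hpre.le x)
    refine ⟨t, FlatMor67.app_idealSect i'' W'' t, fun s hs => ?_⟩
    rw [hval s t hs, ht, res_res]
    exact res_self (M := Omega.conormal i'') x

end Setting

/-- The transitivity sequence of conormal sheaves of formally unramified morphisms. -/
theorem conormal_transitivity {Z Y X Z' Y' Z'' : Scheme.{u}} {i : Z ⟶ Y} {b : Y ⟶ X}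
    {i' : Z ⟶ Z'} {c : Z' ⟶ X} (hZ' : OmegaSh.IsUnivThickening (i ≫ b) i' c)
    {j : Y ⟶ Y'} {d : Y' ⟶ X} (hY' : OmegaSh.IsUnivThickening b j d)
    {m : Z' ⟶ Y'} (hm₁ : i' ≫ m = i ≫ j) (hm₂ : m ≫ d = c)
    {i'' : Z ⟶ Z''} {e : Z'' ⟶ Y} (hZ'' : OmegaSh.IsUnivThickening i i'' e)
    {n : Z'' ⟶ Z'} (hn₁ : i'' ≫ n = i') (hn₂ : n ≫ c = e ≫ b)
    {ψ₁ : (Scheme.Modules.pullback i).obj (Omega.conormal j) ⟶ Omega.conormal i'}
    (hψ₁ : OmegaSh.IsConormalMap i' j m i ψ₁)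
    {ψ₂ : (Scheme.Modules.pullback (𝟙 Z)).obj (Omega.conormal i') ⟶ Omega.conormal i''}
    (hψ₂ : OmegaSh.IsConormalMap i'' i' n (𝟙 Z) ψ₂) :
    ∃ w : (Scheme.Modules.pullback (𝟙 Z)).map ψ₁ ≫ ψ₂ = 0, (ShortComplex.mk _ _ w).Exact ∧ Epi ψ₂ := by
  haveI := hZ'.1.1.1; haveI := hY'.1.1.1; haveI := hZ''.1.1.1
  have chart : ∀ (O : Z.Opens) (p : Z), p ∈ O → ∃ W : Z.Opens, p ∈ W ∧ W ≤ O ∧
      (∀ x, ψ₂.app W (((Scheme.Modules.pullback (𝟙 Z)).map ψ₁).app W x) = 0) ∧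
      (∀ x, ψ₂.app W x = 0 → ∃ y, ((Scheme.Modules.pullback (𝟙 Z)).map ψ₁).app W y = x) ∧
      Function.Surjective (ψ₂.app W) := by
    intro O p hp
    obtain ⟨U, hU, hpU, -⟩ := exists_isAffineOpen_mem_and_subset (x := b (i p)) (U := ⊤) trivial
    obtain ⟨V, hV, hpV, hVU⟩ := exists_isAffineOpen_mem_and_subset (x := i p) (U := b ⁻¹ᵁ U) hpU
    obtain ⟨W, hW, hpW, hWO⟩ := exists_isAffineOpen_mem_and_subset (x := p) (U := O ⊓ i ⁻¹ᵁ V) ⟨hp, hpV⟩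
    obtain ⟨W', rfl, hW', hsi', -⟩ := exists_thickening_opens hZ'.1 hW
    obtain ⟨W'', hpre, hW'', hsi'', hqi''⟩ := exists_thickening_opens hZ''.1 hW
    obtain ⟨V', rfl, hV', hsj, -⟩ := exists_thickening_opens hY'.1 hV
    have hiW : i' ⁻¹ᵁ W' ≤ i ⁻¹ᵁ (j ⁻¹ᵁ V') := fun x hx => (hWO hx).2
    have hV'U : V' ≤ d ⁻¹ᵁ U := le_preimage_of_thickening hY'.1 (by rw [hY'.2.1]; exact hVU)
    have hW'U : W' ≤ c ⁻¹ᵁ U := le_preimage_of_thickening hZ'.1 (by rw [hZ'.2.1]; exact fun x hx => hVU (hiW hx))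
    have hW''V : W'' ≤ e ⁻¹ᵁ (j ⁻¹ᵁ V') := le_preimage_of_thickening hZ''.1 (by rw [hZ''.2.1, hpre]; exact hiW)
    have hmW : W' ≤ m ⁻¹ᵁ V' := le_preimage_of_thickening hZ'.1 (by rw [hm₁]; exact hiW)
    have hnW : W'' ≤ n ⁻¹ᵁ W' := le_preimage_of_thickening hZ''.1 (by rw [hn₁, hpre])
    have rB := ringUniv_chart hY' hU hV hVU hV' rfl hV'U
    have rC := ringUniv_chart hZ' hU hW (fun x hx => hVU (hiW hx)) hW' rfl hW'U
    have rC' := ringUniv_chart hZ'' hV hW hiW hW'' hpre hW''V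
    have key : ∀ {P Q R : Scheme.{u}} (f : P ⟶ Q) (g : Q ⟶ R) (q : P ⟶ R) {A : R.Opens} {B : Q.Opens} {C : P.Opens}
        (e₁ : B ≤ g ⁻¹ᵁ A) (e₂ : C ≤ f ⁻¹ᵁ B) (e₃ : C ≤ q ⁻¹ᵁ A), f ≫ g = q →
          (f.appLE B C e₂).hom.comp (g.appLE A B e₁).hom = (q.appLE A C e₃).hom := by
      intro P Q R f g q A B C e₁ e₂ e₃ h
      subst h
      rw [← CommRingCat.hom_comp, Scheme.Hom.appLE_comp_appLE]
    obtain ⟨hns, hker⟩ := tower_exact rB rC rC' (key i b _ hVU hiW _ rfl) (m.appLE V' W' hmW).hom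
      ((key i' m _ hmW le_rfl hiW hm₁).trans (key i j _ le_rfl hiW hiW rfl).symm)
      (key m d _ hV'U hmW hW'U hm₂) (n.appLE W' W'' hnW).hom
      (key i'' n _ hnW hpre.ge le_rfl hn₁)
      ((key n c _ hW'U hnW (hnW.trans (n.preimage_mono hW'U)) rfl).trans
        (by rw [key e b (n ≫ c) hVU hW''V (hnW.trans (n.preimage_mono hW'U)) hn₂.symm]))
    obtain ⟨hr₁, hr₂⟩ := range_conormalMap_chart hψ₁ hV' hV hsj hW hsi' hmW hiW
    have hW2 : IsAffineOpen (i'' ⁻¹ᵁ W'') := hpre ▸ hW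
    obtain ⟨hk, he⟩ := conormalMap_id_chart hψ₂ hW'' hW2 hsi'' hqi'' hpre hnW
    let P₁ := (Scheme.Modules.pullback i).obj (Omega.conormal j)
    refine ⟨i' ⁻¹ᵁ W', hpW, fun x hx => (hWO hx).1, fun x => ?_, fun x hx => ?_, fun x => ?_⟩
    · obtain ⟨y, rfl⟩ := (pullSect_id_bijective P₁ (i' ⁻¹ᵁ W')).2 x
      obtain ⟨s, hs, hs'⟩ := hr₁ y
      refine Eq.trans (congrArg _ ((map_app_pullSect (𝟙 Z) ψ₁ (i' ⁻¹ᵁ W') y).trans (congrArg _ hs))) ((hk s).2 ?_)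
      exact RingHom.mem_ker.1 (hker.ge hs')
    · obtain ⟨z, rfl⟩ := (pullSect_id_bijective (Omega.conormal i') (i' ⁻¹ᵁ W')).2 x
      obtain ⟨s, rfl⟩ := conormalSect_surjective i' hW' hW hsi' z
      obtain ⟨t, y, ht, hy⟩ := hr₂ _ (hker.le (RingHom.mem_ker.2 ((hk s).1 hx)))
      obtain rfl := Omega57.idealSect_injective _ _ ht
      exact ⟨_, (map_app_pullSect (𝟙 Z) ψ₁ (i' ⁻¹ᵁ W') y).trans (congrArg _ hy)⟩
    · obtain ⟨t, ht, h⟩ := he x
      obtain ⟨a, ha⟩ := hns (OmegaSh.idealSect i''.ker W'' t)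
      obtain ⟨s, hs⟩ := exists_sect_of_app_eq_zero i' (W := W') a (by
        rw [← appLE_eq_zero_iff i' (rfl : i' ⁻¹ᵁ W' = _)]
        show (i'.appLE W' (i' ⁻¹ᵁ W') le_rfl).hom a = 0
        rw [← key i'' n _ hnW hpre.ge le_rfl hn₁, RingHom.comp_apply, ha]
        exact (appLE_eq_zero_iff i'' hpre _).2 ht)
      exact ⟨_, h s (by rw [hs]; exact ha)⟩
  have w := comp_eq_zero_of_basis ((Scheme.Modules.pullback (𝟙 Z)).map ψ₁) ψ₂ fun O p hp => by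
    obtain ⟨W, h1, h2, h3, -, -⟩ := chart O p hp
    exact ⟨W, h1, h2, h3⟩
  exact ⟨w, exact_of_basis (ShortComplex.mk _ _ w) fun O p hp => by
      obtain ⟨W, h1, h2, -, h4, -⟩ := chart O p hp
      exact ⟨W, h1, h2, h4⟩,
    epi_of_basis ψ₂ fun O p hp => by
      obtain ⟨W, h1, h2, -, -, h5⟩ := chart O p hp
      exact ⟨W, h1, h2, h5⟩⟩

end Groth.Agent.Om3
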