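import Groth.Agent.Om3.Transitivity
import Groth.Agent.Om3.KoszulLift
import Groth.Agent.FlatMor68.KoszulCalc

/-! Left exactness of the transitivity sequence for an lci first morphism. -/

set_option autoImplicit false
set_option backward.isDefEq.respectTransparency false

universe u

open CategoryTheory CategoryTheory.Limits AlgebraicGeometry TopologicalSpace MoreMor

noncomputable section

namespace Groth.Agent.Om3

open Groth.Agent QC70 Omega57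

theorem conormalMap_injective_of_lci {Z Y X Z' Y' : Scheme.{u}} {i : Z ⟶ Y} {b : Y ⟶ X}
    {i' : Z ⟶ Z'} {c : Z' ⟶ X} (hZ' : OmegaSh.IsUnivThickening (i ≫ b) i' c)
    {j : Y ⟶ Y'} {d : Y' ⟶ X} (hY' : OmegaSh.IsUnivThickening b j d)
    {m : Z' ⟶ Y'} (hm₁ : i' ≫ m = i ≫ j) (hm₂ : m ≫ d = c)
    {ψ₁ : (Scheme.Modules.pullback i).obj (Omega.conormal j) ⟶ Omega.conormal i'}
    (hψ₁ : OmegaSh.IsConormalMap i' j m i ψ₁) (hlci : ∀ z : Z, Synt.IsKoszulAt i z)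
    (O : Z.Opens) (p : Z) (hp : p ∈ O) :
    ∃ W : Z.Opens, p ∈ W ∧ W ≤ O ∧ Function.Injective (ψ₁.app W) := by
  classical
  haveI := hZ'.1.1.1; haveI := hY'.1.1.1
  obtain ⟨U, hU, hpU, -⟩ := exists_isAffineOpen_mem_and_subset (x := b (i p)) (U := ⊤) trivial
  obtain ⟨V, hV, hpV, hVU⟩ := exists_isAffineOpen_mem_and_subset (x := i p) (U := b ⁻¹ᵁ U) hpU
  obtain ⟨W, hW, hpW, hWO⟩ := exists_isAffineOpen_mem_and_subset (x := p) (U := O ⊓ i ⁻¹ᵁ V) ⟨hp, hpV⟩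
  obtain ⟨W', rfl, hW', hsi', hqi'⟩ := exists_thickening_opens hZ'.1 hW
  obtain ⟨V', rfl, hV', hsj, -⟩ := exists_thickening_opens hY'.1 hV
  have hiW : i' ⁻¹ᵁ W' ≤ i ⁻¹ᵁ (j ⁻¹ᵁ V') := fun x hx => (hWO hx).2
  have hV'U : V' ≤ d ⁻¹ᵁ U := le_preimage_of_thickening hY'.1 (by rw [hY'.2.1]; exact hVU)
  have hW'U : W' ≤ c ⁻¹ᵁ U := le_preimage_of_thickening hZ'.1 (by rw [hZ'.2.1]; exact fun x hx => hVU (hiW hx))
  have hmW : W' ≤ m ⁻¹ᵁ V' := le_preimage_of_thickening hZ'.1 (by rw [hm₁]; exact hiW)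
  have rB := ringUniv_chart hY' hU hV hVU hV' rfl hV'U
  have rC := ringUniv_chart hZ' hU hW (fun x hx => hVU (hiW hx)) hW' rfl hW'U
  have key : ∀ {P Q R : Scheme.{u}} (f : P ⟶ Q) (g : Q ⟶ R) (q : P ⟶ R) {A : R.Opens} {B : Q.Opens} {C : P.Opens}
      (e₁ : B ≤ g ⁻¹ᵁ A) (e₂ : C ≤ f ⁻¹ᵁ B) (e₃ : C ≤ q ⁻¹ᵁ A), f ≫ g = q →
        (f.appLE B C e₂).hom.comp (g.appLE A B e₁).hom = (q.appLE A C e₃).hom := by
    intro P Q R f g q A B C e₁ e₂ e₃ h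
    subst h
    rw [← CommRingCat.hom_comp, Scheme.Hom.appLE_comp_appLE]
  let G := (Scheme.Modules.pullback i).obj (Omega.conormal j)
  let gen : Γ(ClSub.idealMod j.ker, V') → Γ(G, i' ⁻¹ᵁ W') := fun k =>
    res G hiW (OmegaSh.pullSect i (Omega.conormal j) (j ⁻¹ᵁ V') (OmegaSh.conormalSect j V' k))
  have hgadd : ∀ a b, gen (a + b) = gen a + gen b := fun a b => by
    dsimp only [gen]
    rw [map_add, map_add, res_add]
  have hgsmul : ∀ (r : Γ(Y', V')) k, gen (r • k) =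
      i.appLE (j ⁻¹ᵁ V') (i' ⁻¹ᵁ W') hiW (j.app V' r) • gen k := fun r k => by
    dsimp only [gen]
    rw [conormalSect_smul, OmegaSh.pullSect_smul, res_smul]
    rfl
  have hkj : ∀ x : Γ(Y', V'), j.appLE V' (j ⁻¹ᵁ V') le_rfl x = 0 ↔ j.app V' x = 0 := fun x => appLE_eq_zero_iff j rfl x
  let K := RingHom.ker (j.appLE V' (j ⁻¹ᵁ V') le_rfl).hom
  have hsect : ∀ k : K, ∃ t : Γ(ClSub.idealMod j.ker, V'), OmegaSh.idealSect j.ker V' t = k :=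
    fun k => exists_sect_of_app_eq_zero j (k : Γ(Y', V')) ((hkj _).1 k.2)
  choose κ hκ using hsect
  let ℓ : K →+ Γ(G, i' ⁻¹ᵁ W') := AddMonoidHom.mk' (fun k => gen (κ k)) fun a b => by
    rw [← hgadd]
    exact congrArg gen (idealSect_injective _ _ (by rw [map_add, hκ, hκ, hκ]; rfl))
  have hℓ : ∀ (r : Γ(Y', V')) (k : K), ℓ (r • k) =
      (i.appLE (j ⁻¹ᵁ V') (i' ⁻¹ᵁ W') hiW).hom ((j.appLE V' (j ⁻¹ᵁ V') le_rfl).hom r) • ℓ k := fun r k => by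
    show gen (κ (r • k)) = _ • gen (κ k)
    rw [show κ (r • k) = r • κ k from idealSect_injective _ _ (by rw [hκ, idealSect_smul, hκ]; rfl), hgsmul,
      Scheme.Hom.app_eq_appLE]
  have hκsurj : ∀ t : Γ(ClSub.idealMod j.ker, V'), ∃ k : K, κ k = t := fun t =>
    ⟨⟨_, (hkj _).2 (FlatMor67.app_idealSect j V' t)⟩, idealSect_injective _ _ (hκ _)⟩
  have hψgen : ∀ k : K, ∃ t, OmegaSh.idealSect i'.ker W' t = m.appLE V' W' hmW k ∧
      ψ₁.app (i' ⁻¹ᵁ W') (ℓ k) = OmegaSh.conormalSect i' W' t := fun k => by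
    have hk : i'.app W' (m.appLE V' W' hmW (k : Γ(Y', V'))) = 0 := by
      rw [Scheme.Hom.app_eq_appLE]
      show ((i'.appLE W' (i' ⁻¹ᵁ W') le_rfl).hom.comp (m.appLE V' W' hmW).hom) (k : Γ(Y', V')) = 0
      rw [key i' m _ hmW le_rfl hiW hm₁, ← key i j (i ≫ j) le_rfl hiW hiW rfl, RingHom.comp_apply, RingHom.mem_ker.1 k.2,
        map_zero]
    obtain ⟨t, ht⟩ := exists_sect_of_app_eq_zero i' _ hk
    refine ⟨t, ht, (conormalMap_val hψ₁ hmW hiW le_rfl (κ k) t ?_).trans (res_self (M := Omega.conormal i') _)⟩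
    rw [ht, hκ]
  choose τ hτ hτ' using hψgen
  let ψL : Γ(G, i' ⁻¹ᵁ W') →ₗ[Γ(Z, i' ⁻¹ᵁ W')] Γ(Omega.conormal i', i' ⁻¹ᵁ W') :=
    { toFun := fun s => ψ₁.app (i' ⁻¹ᵁ W') s, map_add' := fun a b => map_add _ a b,
      map_smul' := fun r s => Scheme.Modules.Hom.app_smul ψ₁ r s }
  refine ⟨i' ⁻¹ᵁ W', hpW, fun x hx => (hWO hx).1, (injective_iff_map_eq_zero ψL).2 fun y hy => ?_⟩
  haveI : (ClSub.idealMod j.ker).IsQuasicoherent := Omega57.isQuasicoherent_idealMod _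
  haveI : (Omega.conormal j).IsQuasicoherent := QCPull72.isQuasicoherent_pullback _ _
  have hspan : y ∈ Submodule.span Γ(Z, i' ⁻¹ᵁ W') (Set.range ℓ) := by
    have h : y ∈ Submodule.span Γ(Z, i' ⁻¹ᵁ W') (Set.range fun z : Γ(Omega.conormal j, j ⁻¹ᵁ V') =>
        res G hiW (OmegaSh.pullSect i (Omega.conormal j) (j ⁻¹ᵁ V') z)) :=
      (SchBasics.span_pullSect i (Omega.conormal j) hW hV hiW).ge trivial
    refine Submodule.span_mono ?_ h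
    rintro _ ⟨z, rfl⟩
    obtain ⟨t, rfl⟩ := conormalSect_surjective j hV' hV hsj z
    obtain ⟨k, rfl⟩ := hκsurj t
    exact ⟨k, rfl⟩
  obtain ⟨f, hf⟩ := Finsupp.mem_span_range_iff_exists_finsupp.1 hspan
  obtain ⟨s, r, hsr⟩ : ∃ (s : Finset K) (r : K → Γ(Z, i' ⁻¹ᵁ W')), ∑ k ∈ s, r k • ℓ k = y := ⟨f.support, f, hf⟩
  choose cl hcl using fun k => hsi' (r k)
  have h0 : ∑ k ∈ s, cl k * (m.appLE V' W' hmW).hom (k : Γ(Y', V')) = 0 := by
    have hval : OmegaSh.conormalSect i' W' (∑ k ∈ s, cl k • τ k) = 0 := by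
      rw [map_sum, ← hy, ← hsr, map_sum]
      refine Finset.sum_congr rfl fun k _ => ?_
      rw [conormalSect_smul, hcl, map_smul, ← hτ' k]
      rfl
    have := (conormalSect_eq_zero_iff_of_sq i' hW' hW hsi' hqi' _).1 hval
    have h' := congrArg (OmegaSh.idealSect i'.ker W') this
    rw [map_sum, map_zero] at h'
    rw [← h']
    exact Finset.sum_congr rfl fun k _ => by rw [idealSect_smul, hτ]
  have hlci' := FlatMor68.KoszulCalc.lci_appLE ((FlatMor68.KoszulCalc.forall_isKoszulAt_iff i).1 hlci) hW hV hiW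
  have := tower_injective rB rC (key i b _ hVU hiW _ rfl) (m.appLE V' W' hmW).hom
    ((key i' m _ hmW le_rfl hiW hm₁).trans (key i j _ le_rfl hiW hiW rfl).symm)
    (key m d _ hV'U hmW hW'U hm₂) hlci' s cl id h0 ℓ hℓ
  rw [← hsr, ← this]
  refine Finset.sum_congr rfl fun k _ => ?_
  rw [← Scheme.Hom.app_eq_appLE]
  exact congrArg (· • ℓ k) (hcl k).symm

theorem conormal_transitivity_shortExact {Z Y X Z' Y' Z'' : Scheme.{u}} {i : Z ⟶ Y} {b : Y ⟶ X}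
    {i' : Z ⟶ Z'} {c : Z' ⟶ X} (hZ' : OmegaSh.IsUnivThickening (i ≫ b) i' c)
    {j : Y ⟶ Y'} {d : Y' ⟶ X} (hY' : OmegaSh.IsUnivThickening b j d)
    {m : Z' ⟶ Y'} (hm₁ : i' ≫ m = i ≫ j) (hm₂ : m ≫ d = c)
    {i'' : Z ⟶ Z''} {e : Z'' ⟶ Y} (hZ'' : OmegaSh.IsUnivThickening i i'' e)
    {n : Z'' ⟶ Z'} (hn₁ : i'' ≫ n = i') (hn₂ : n ≫ c = e ≫ b)
    {ψ₁ : (Scheme.Modules.pullback i).obj (Omega.conormal j) ⟶ Omega.conormal i'}
    (hψ₁ : OmegaSh.IsConormalMap i' j m i ψ₁)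
    {ψ₂ : (Scheme.Modules.pullback (𝟙 Z)).obj (Omega.conormal i') ⟶ Omega.conormal i''}
    (hψ₂ : OmegaSh.IsConormalMap i'' i' n (𝟙 Z) ψ₂) (hlci : ∀ z : Z, Synt.IsKoszulAt i z) :
    ∃ w : (Scheme.Modules.pullback (𝟙 Z)).map ψ₁ ≫ ψ₂ = 0, (ShortComplex.mk _ _ w).ShortExact := by
  obtain ⟨w, hex, hepi⟩ := conormal_transitivity hZ' hY' hm₁ hm₂ hZ'' hn₁ hn₂ hψ₁ hψ₂
  refine ⟨w, { exact := hex, epi_g := hepi, mono_f := mono_of_basis _ fun O p hp => ?_ }⟩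
  obtain ⟨W, hpW, hWO, hinj⟩ := conormalMap_injective_of_lci hZ' hY' hm₁ hm₂ hψ₁ hlci O p hp
  let P₁ := (Scheme.Modules.pullback i).obj (Omega.conormal j)
  refine ⟨W, hpW, hWO, fun x y hxy => ?_⟩
  obtain ⟨x', rfl⟩ := (pullSect_id_bijective P₁ W).2 x
  obtain ⟨y', rfl⟩ := (pullSect_id_bijective P₁ W).2 y
  refine congrArg _ (hinj ((pullSect_id_bijective (Omega.conormal i') W).1 ?_))
  exact ((map_app_pullSect (𝟙 Z) ψ₁ W x').symm.trans hxy).trans (map_app_pullSect (𝟙 Z) ψ₁ W y')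

end Groth.Agent.Om3
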