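import Groth.Agent.Om3.UnivTh
import Groth.Agent.UnivTh94.Basic
import Groth.Agent.UnivTh94.Etale
import Groth.Agent.FlatMor67.LiftAffine
import Groth.Agent.VarGal.Thickening
import Mathlib.AlgebraicGeometry.Morphisms.FormallyUnramified

/-! Universal first order thickenings of affine schemes are the ring level ones. -/

set_option autoImplicit false
set_option backward.isDefEq.respectTransparency false

universe u

open CategoryTheory CategoryTheory.Limits AlgebraicGeometry TopologicalSpace MoreMor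

namespace Groth.Agent.Om3

open Groth.Agent

/-- Universal first order thickening, for ring homomorphisms. -/
structure RingUniv {A B B' : Type u} [CommRing A] [CommRing B] [CommRing B']
    (α : A →+* B) (α' : A →+* B') (π : B' →+* B) : Prop where
  comp : π.comp α' = α
  surj : Function.Surjective π
  sq : RingHom.ker π ^ 2 = ⊥
  lift : ∀ (C D : Type u) [CommRing C] [CommRing D] (q : C →+* D), Function.Surjective q →
    RingHom.ker q ^ 2 = ⊥ → ∀ (γ : A →+* C) (β : B →+* D), β.comp α = q.comp γ →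
      ∃! F : B' →+* C, q.comp F = β.comp π ∧ F.comp α' = γ

theorem ringUniv_thick (A B : Type u) [CommRing A] [CommRing B] [Algebra A B] [Algebra.FormallyUnramified A B] :
    RingUniv (algebraMap A B) (algebraMap A (UnivTh94.Thick A B)) (UnivTh94.proj A B).toRingHom where
  comp := (UnivTh94.proj A B).comp_algebraMap
  surj := UnivTh94.proj_surjective A B
  sq := UnivTh94.ker_proj_sq A B
  lift C D _ _ q hq hq2 γ β hβ := by
    letI : Algebra A C := γ.toAlgebra
    let I := RingHom.ker q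
    let e : C ⧸ I ≃+* D := RingHom.quotientKerEquivOfSurjective hq
    let a : B →ₐ[A] C ⧸ I :=
      { e.symm.toRingHom.comp β with
        commutes' := fun r => e.injective (by
          show e (e.symm (β (algebraMap A B r))) = e (Ideal.Quotient.mk I (γ r))
          rw [e.apply_symm_apply]
          exact RingHom.congr_fun hβ r) }
    obtain ⟨F, hF, hFu⟩ := UnivTh94.existsUnique_lift A B I hq2 a
    refine ⟨F.toRingHom, ⟨RingHom.ext fun x => ?_, F.comp_algebraMap⟩, fun G hG => ?_⟩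
    · have := congrArg e (AlgHom.congr_fun hF x)
      refine (show q (F x) = e (Ideal.Quotient.mk I (F x)) from rfl).trans (this.trans ?_)
      exact e.apply_symm_apply _
    · refine congrArg AlgHom.toRingHom (hFu { G with commutes' := fun r => RingHom.congr_fun hG.2 r } ?_)
      refine AlgHom.ext fun x => e.injective ?_
      show e (Ideal.Quotient.mk I (G x)) = e (e.symm (β (UnivTh94.proj A B x)))
      rw [e.apply_symm_apply]
      exact RingHom.congr_fun hG.1 x

theorem RingUniv.formallyUnramified {A B B' : Type u} [CommRing A] [CommRing B] [CommRing B']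
    {α : A →+* B} {α' : A →+* B'} {π : B' →+* B} (h : RingUniv α α' π) : α'.FormallyUnramified := by
  letI := α.toAlgebra
  letI := α'.toAlgebra
  letI := π.toAlgebra
  haveI : IsScalarTower A B' B := IsScalarTower.of_algebraMap_eq fun r => (RingHom.congr_fun h.comp r).symm
  refine UnivTh94.formallyUnramified_of_univ (A := A) (B := B) (B' := B') ⟨h.surj, h.sq, fun C _ _ I hI a => ?_⟩
  obtain ⟨F, ⟨hF1, hF2⟩, hFu⟩ := h.lift C (C ⧸ I) (Ideal.Quotient.mk I) Ideal.Quotient.mk_surjective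
    (by rwa [Ideal.mk_ker]) (algebraMap A C) a.toRingHom (RingHom.ext fun r => a.commutes r)
  refine ⟨{ F with commutes' := fun r => RingHom.congr_fun hF2 r }, AlgHom.ext fun x => RingHom.congr_fun hF1 x,
    fun G hG => ?_⟩
  exact AlgHom.coe_ringHom_injective (hFu G.toRingHom ⟨RingHom.ext fun x => AlgHom.congr_fun hG x,
    G.comp_algebraMap⟩)

/-- A morphism of affine schemes is a first order thickening exactly when it is a square zero surjection. -/
theorem fot_affine_iff {T T' : Scheme.{u}} [IsAffine T'] (j : T ⟶ T') :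
    IsFirstOrderThickening j ↔
      IsAffine T ∧ Function.Surjective j.appTop ∧ RingHom.ker j.appTop.hom ^ 2 = ⊥ := by
  constructor
  · intro hj
    haveI := hj.1.1
    have hc := IsClosedImmersion.isAffine_surjective_of_isAffine j
    refine ⟨hc.1, hc.2, ?_⟩
    have := congr($(hj.2).ideal ⟨⊤, isAffineOpen_top T'⟩)
    simp only [Scheme.IdealSheafData.ideal_mul, Pi.mul_apply, Scheme.Hom.ker_apply,
      Scheme.IdealSheafData.ideal_bot, Pi.bot_apply] at this
    rw [pow_two]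
    exact this
  · rintro ⟨hT, hs, hk⟩
    haveI : IsClosedImmersion j := IsClosedImmersion.of_surjective_of_isAffine j hs
    refine ⟨⟨inferInstance, ⟨fun p => ?_⟩⟩, ?_⟩
    · have h1 : Surjective (Spec.map j.appTop) := by
        refine ⟨fun q => ?_⟩
        have hq : q ∈ Set.range (PrimeSpectrum.comap j.appTop.hom) := by
          rw [range_comap_of_surjective _ _ hs, PrimeSpectrum.mem_zeroLocus]
          intro x hx
          refine q.isPrime.mem_of_pow_mem 2 ?_
          rw [show x ^ 2 = 0 from (Submodule.mem_bot _).1 (hk ▸ Ideal.pow_mem_pow hx 2)]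
          exact zero_mem _
        exact hq
      have h2 : j = T.isoSpec.hom ≫ Spec.map j.appTop ≫ T'.isoSpec.inv := by
        haveI := hT
        rw [← Category.assoc, Scheme.isoSpec_hom_naturality, Category.assoc, Iso.hom_inv_id, Category.comp_id]
      have : Surjective j := by rw [h2]; infer_instance
      exact this.surj p
    · refine Scheme.IdealSheafData.ext_of_isAffine ?_
      simp only [Scheme.IdealSheafData.ideal_mul, Pi.mul_apply, Scheme.Hom.ker_apply,
        Scheme.IdealSheafData.ideal_bot, Pi.bot_apply]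
      rw [← pow_two]
      exact hk

theorem exists_hom_appTop (T : Scheme.{u}) {X : Scheme.{u}} [IsAffine X] (φ : Γ(X, ⊤) ⟶ Γ(T, ⊤)) :
    ∃ f : T ⟶ X, f.appTop = φ := by
  refine ⟨T.toSpecΓ ≫ Spec.map φ ≫ X.isoSpec.inv, ?_⟩
  have h : X.isoSpec.inv.appTop = (Scheme.ΓSpecIso Γ(X, ⊤)).inv := by
    have h1 : X.isoSpec.inv.appTop ≫ X.isoSpec.hom.appTop = 𝟙 _ := by
      rw [← Scheme.Hom.comp_appTop, Iso.hom_inv_id, Scheme.Hom.id_appTop]
    rw [Scheme.isoSpec_hom, Scheme.toSpecΓ_appTop] at h1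
    exact (Iso.comp_hom_eq_id _).1 h1
  simp only [Scheme.Hom.comp_appTop, h, Scheme.toSpecΓ_appTop, Category.assoc]
  rw [Scheme.ΓSpecIso_naturality, Iso.inv_hom_id_assoc]

variable {Z Z' X : Scheme.{u}} {h : Z ⟶ X} {i : Z ⟶ Z'} {h' : Z' ⟶ X}

theorem ringUniv_of_univ [IsAffine Z] [IsAffine Z'] [IsAffine X] (hu : OmegaSh.IsUnivThickening h i h') :
    RingUniv h.appTop.hom h'.appTop.hom i.appTop.hom where
  comp := by rw [← CommRingCat.hom_comp, ← Scheme.Hom.comp_appTop, hu.2.1]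
  surj := ((fot_affine_iff i).1 hu.1).2.1
  sq := ((fot_affine_iff i).1 hu.1).2.2
  lift C D _ _ q hq hq2 γ β hβ := by
    let T' := Spec (CommRingCat.of C)
    let T := Spec (CommRingCat.of D)
    let eC := Scheme.ΓSpecIso (CommRingCat.of C)
    let eD := Scheme.ΓSpecIso (CommRingCat.of D)
    let j : T ⟶ T' := Spec.map (CommRingCat.ofHom q)
    have hjapp : j.appTop = eC.hom ≫ CommRingCat.ofHom q ≫ eD.inv := by
      rw [← Scheme.ΓSpecIso_naturality_assoc, Iso.hom_inv_id, Category.comp_id]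
    have happ : ∀ x, j.appTop x = eD.inv (q (eC.hom x)) := fun x => by rw [hjapp]; rfl
    have hj : IsFirstOrderThickening j := by
      refine (fot_affine_iff j).2 ⟨inferInstance, ?_, ?_⟩
      · intro y
        obtain ⟨c, hc⟩ := hq (eD.hom y)
        refine ⟨eC.inv c, (happ _).trans ?_⟩
        rw [Iso.inv_hom_id_apply, hc, Iso.hom_inv_id_apply]
      · have hle : RingHom.ker j.appTop.hom ≤ (RingHom.ker q).map eC.inv.hom := fun x hx => by
          have h0 : eD.inv (q (eC.hom x)) = 0 := (happ x).symm.trans hx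
          have h1 : q (eC.hom x) = 0 := by
            have := congrArg eD.hom h0
            rwa [Iso.inv_hom_id_apply, map_zero] at this
          rw [← Iso.hom_inv_id_apply eC x]
          exact Ideal.mem_map_of_mem _ h1
        refine le_bot_iff.1 ((Ideal.pow_right_mono hle 2).trans ?_)
        rw [← Ideal.map_pow, hq2, Ideal.map_bot]
    obtain ⟨b, hb⟩ := exists_hom_appTop T' (CommRingCat.ofHom γ ≫ eC.inv)
    obtain ⟨a, ha⟩ := exists_hom_appTop T (CommRingCat.ofHom β ≫ eD.inv)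
    have hb' : ∀ r, b.appTop r = eC.inv (γ r) := fun r => by rw [hb]; rfl
    have ha' : ∀ r, a.appTop r = eD.inv (β r) := fun r => by rw [ha]; rfl
    have hab : j ≫ b = a ≫ h := ext_of_isAffine (by
      rw [Scheme.Hom.comp_appTop, Scheme.Hom.comp_appTop]
      ext r
      refine (congrArg j.appTop (hb' r)).trans ((happ _).trans ?_)
      refine Eq.trans ?_ (ha' _).symm
      rw [Iso.inv_hom_id_apply]
      exact congrArg eD.inv (RingHom.congr_fun hβ r).symm)
    obtain ⟨a', ⟨h1, h2⟩, huq⟩ := hu.2.2 T T' j b a hj hab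
    refine ⟨(a'.appTop ≫ eC.hom).hom, ⟨?_, ?_⟩, fun G hG => ?_⟩
    · ext x
      have h3 : j.appTop (a'.appTop x) = a.appTop (i.appTop x) :=
        congr($(congrArg (fun m => Scheme.Hom.appTop m) h1) x)
      have h4 := congrArg eD.hom (((happ _).symm.trans h3).trans (ha' _))
      rw [Iso.inv_hom_id_apply, Iso.inv_hom_id_apply] at h4
      exact h4
    · ext x
      have h3 : a'.appTop (h'.appTop x) = b.appTop x :=
        congr($(congrArg (fun m => Scheme.Hom.appTop m) h2) x)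
      have h4 := congrArg eC.hom (h3.trans (hb' _))
      rw [Iso.inv_hom_id_apply] at h4
      exact h4
    · obtain ⟨g, hg⟩ := exists_hom_appTop T' (CommRingCat.ofHom G ≫ eC.inv)
      have hg' : ∀ r, g.appTop r = eC.inv (G r) := fun r => by rw [hg]; rfl
      have hga : g = a' := huq g ⟨ext_of_isAffine (by
        rw [Scheme.Hom.comp_appTop, Scheme.Hom.comp_appTop]
        ext r
        refine (congrArg j.appTop (hg' r)).trans ((happ _).trans ?_)
        refine Eq.trans ?_ (ha' _).symm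
        rw [Iso.inv_hom_id_apply]
        exact congrArg eD.inv (RingHom.congr_fun hG.1 r)), ext_of_isAffine (by
        rw [Scheme.Hom.comp_appTop]
        ext r
        refine (hg' _).trans ((congrArg eC.inv (RingHom.congr_fun hG.2 r)).trans (hb' r).symm))⟩
      rw [← hga, hg, Category.assoc, Iso.inv_hom_id, Category.comp_id]
      rfl

/-- The universal property may be tested on affine thickenings. -/
theorem univ_of_affine_tests (hi : IsFirstOrderThickening i) (hc : i ≫ h' = h)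
    (H : ∀ (T T' : Scheme.{u}) [IsAffine T'] (j : T ⟶ T') (b : T' ⟶ X) (a : T ⟶ Z),
      IsFirstOrderThickening j → j ≫ b = a ≫ h → ∃! a' : T' ⟶ Z', j ≫ a' = a ≫ i ∧ a' ≫ h' = b) :
    OmegaSh.IsUnivThickening h i h' := by
  refine ⟨hi, hc, fun T T' j b a hj hab => ?_⟩
  have hres : ∀ (W : T'.Opens), IsFirstOrderThickening (j ∣_ W) ∧
      (j ∣_ W) ≫ W.ι ≫ b = ((j ⁻¹ᵁ W).ι ≫ a) ≫ h := fun W =>
    ⟨fot_of_isPullback (isPullback_morphismRestrict j W) hj, by
      rw [morphismRestrict_ι_assoc, hab, Category.assoc]⟩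
  have huniq : ∀ {W : T'.Opens} (g₁ g₂ : (W : Scheme.{u}) ⟶ Z'),
      (j ∣_ W) ≫ g₁ = ((j ⁻¹ᵁ W).ι ≫ a) ≫ i → g₁ ≫ h' = W.ι ≫ b →
      (j ∣_ W) ≫ g₂ = ((j ⁻¹ᵁ W).ι ≫ a) ≫ i → g₂ ≫ h' = W.ι ≫ b → g₁ = g₂ := by
    intro W g₁ g₂ p₁ q₁ p₂ q₂
    refine Scheme.Cover.hom_ext (W : Scheme.{u}).affineCover _ _ fun k => ?_
    let o := (W : Scheme.{u}).affineCover.f k
    have hsq : IsPullback (pullback.fst o (j ∣_ W)) (pullback.snd o (j ∣_ W)) o (j ∣_ W) := IsPullback.of_hasPullback _ _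
    have hjk := fot_of_isPullback hsq (hres W).1
    refine (H _ _ (pullback.fst o (j ∣_ W)) (o ≫ W.ι ≫ b) (pullback.snd o (j ∣_ W) ≫ (j ⁻¹ᵁ W).ι ≫ a) hjk ?_).unique
      ⟨?_, ?_⟩ ⟨?_, ?_⟩
    · rw [pullback.condition_assoc, (hres W).2]; simp
    · rw [pullback.condition_assoc, p₁]; simp
    · rw [Category.assoc, q₁]
    · rw [pullback.condition_assoc, p₂]; simp
    · rw [Category.assoc, q₂]
  have hex : ∀ W : T'.affineOpens, ∃ g : ((W.1 : T'.Opens) : Scheme.{u}) ⟶ Z',
      (j ∣_ W.1) ≫ g = ((j ⁻¹ᵁ W.1).ι ≫ a) ≫ i ∧ g ≫ h' = W.1.ι ≫ b := fun W => by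
    haveI : IsAffine (W.1 : Scheme.{u}) := W.2
    exact (H _ _ (j ∣_ W.1) (W.1.ι ≫ b) _ (hres W.1).1 (hres W.1).2).exists
  choose g hg hg' using hex
  let 𝒲 : T'.OpenCover := T'.openCoverOfIsOpenCover (fun W : T'.affineOpens => W.1)
    (IsOpenCover.mk (iSup_affineOpens_eq_top T'))
  have hrestr : ∀ {W W' : T'.Opens} (hle : W' ≤ W) (f : (W : Scheme.{u}) ⟶ Z'),
      (j ∣_ W) ≫ f = ((j ⁻¹ᵁ W).ι ≫ a) ≫ i → f ≫ h' = W.ι ≫ b →
      ((j ∣_ W') ≫ T'.homOfLE hle ≫ f = ((j ⁻¹ᵁ W').ι ≫ a) ≫ i) ∧ (T'.homOfLE hle ≫ f) ≫ h' = W'.ι ≫ b := by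
    intro W W' hle f p q
    refine ⟨?_, by rw [Category.assoc, q, Scheme.homOfLE_ι_assoc]⟩
    have e : (j ∣_ W') ≫ T'.homOfLE hle = T.homOfLE (j.preimage_mono hle) ≫ (j ∣_ W) := by
      rw [← cancel_mono W.ι]
      simp [morphismRestrict_ι]
    rw [reassoc_of% e, p]
    simp
  have hglue : ∀ W W' : T'.affineOpens, T'.homOfLE (inf_le_left : W.1 ⊓ W'.1 ≤ W.1) ≫ g W =
      T'.homOfLE (inf_le_right : W.1 ⊓ W'.1 ≤ W'.1) ≫ g W' := fun W W' =>
    huniq _ _ (hrestr _ _ (hg W) (hg' W)).1 (hrestr _ _ (hg W) (hg' W)).2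
      (hrestr _ _ (hg W') (hg' W')).1 (hrestr _ _ (hg W') (hg' W')).2
  have hcomp : ∀ W W' : T'.affineOpens, pullback.fst (𝒲.f W) (𝒲.f W') ≫ g W =
      pullback.snd (𝒲.f W) (𝒲.f W') ≫ g W' := by
    intro W W'
    let p := IsOpenImmersion.lift (W.1 ⊓ W'.1).ι (pullback.fst (𝒲.f W) (𝒲.f W') ≫ W.1.ι) (by
      rintro _ ⟨x, rfl⟩
      rw [Scheme.Opens.range_ι]
      refine ⟨(pullback.fst (𝒲.f W) (𝒲.f W') x).2, ?_⟩
      have : (pullback.fst (𝒲.f W) (𝒲.f W') ≫ W.1.ι) x = (pullback.snd (𝒲.f W) (𝒲.f W') ≫ W'.1.ι) x :=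
        congr($(pullback.condition (f := 𝒲.f W) (g := 𝒲.f W')) x)
      rw [this]
      exact (pullback.snd (𝒲.f W) (𝒲.f W') x).2)
    have e1 : pullback.fst (𝒲.f W) (𝒲.f W') = p ≫ T'.homOfLE inf_le_left := by
      rw [← cancel_mono W.1.ι, Category.assoc, Scheme.homOfLE_ι]
      exact (IsOpenImmersion.lift_fac _ _ _).symm
    have e2 : pullback.snd (𝒲.f W) (𝒲.f W') = p ≫ T'.homOfLE inf_le_right := by
      rw [← cancel_mono W'.1.ι, Category.assoc, Scheme.homOfLE_ι]
      exact (pullback.condition (f := 𝒲.f W) (g := 𝒲.f W')).symm.trans (IsOpenImmersion.lift_fac _ _ _).symm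
    rw [e1, e2, Category.assoc, Category.assoc, hglue]
  let a' := 𝒲.glueMorphisms g hcomp
  have ha' : ∀ W : T'.affineOpens, W.1.ι ≫ a' = g W := fun W => 𝒲.ι_glueMorphisms g hcomp W
  refine ⟨a', ⟨?_, ?_⟩, fun c hcc => ?_⟩
  · refine Scheme.Cover.hom_ext (T.openCoverOfIsOpenCover (fun W : T'.affineOpens => j ⁻¹ᵁ W.1)
      (IsOpenCover.mk (by rw [← Scheme.Hom.preimage_iSup, iSup_affineOpens_eq_top]; rfl))) _ _ fun W => ?_
    show (j ⁻¹ᵁ W.1).ι ≫ j ≫ a' = _
    rw [← morphismRestrict_ι_assoc, ha', hg, Category.assoc]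
    rfl
  · refine Scheme.Cover.hom_ext 𝒲 _ _ fun W => ?_
    show W.1.ι ≫ a' ≫ h' = W.1.ι ≫ b
    rw [reassoc_of% ha', hg']
  · refine Scheme.Cover.hom_ext 𝒲 _ _ fun W => ?_
    show W.1.ι ≫ c = W.1.ι ≫ a'
    rw [ha']
    exact huniq _ _ (by rw [morphismRestrict_ι_assoc, hcc.1, Category.assoc]) (by rw [Category.assoc, hcc.2])
      (hg W) (hg' W)

theorem univ_of_ringUniv [IsAffine Z] [IsAffine Z'] [IsAffine X] (hc : i ≫ h' = h)
    (hr : RingUniv h.appTop.hom h'.appTop.hom i.appTop.hom) : OmegaSh.IsUnivThickening h i h' := by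
  refine univ_of_affine_tests ((fot_affine_iff i).2 ⟨inferInstance, hr.surj, hr.sq⟩) hc
    fun T T' _ j b a hj hab => ?_
  obtain ⟨hT, hs, hk⟩ := (fot_affine_iff j).1 hj
  obtain ⟨F, ⟨hF1, hF2⟩, hFu⟩ := hr.lift Γ(T', ⊤) Γ(T, ⊤) j.appTop.hom hs hk b.appTop.hom a.appTop.hom (by
    rw [← CommRingCat.hom_comp, ← CommRingCat.hom_comp, ← Scheme.Hom.comp_appTop, ← Scheme.Hom.comp_appTop, hab])
  obtain ⟨a', ha'⟩ := exists_hom_appTop T' (CommRingCat.ofHom F)
  refine ⟨a', ⟨ext_of_isAffine ?_, ext_of_isAffine ?_⟩, fun c hcc => ext_of_isAffine ?_⟩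
  · rw [Scheme.Hom.comp_appTop, Scheme.Hom.comp_appTop, ha']
    exact CommRingCat.hom_ext hF1
  · rw [Scheme.Hom.comp_appTop, ha']
    exact CommRingCat.hom_ext hF2
  · rw [ha']
    refine CommRingCat.hom_ext (hFu c.appTop.hom ⟨?_, ?_⟩)
    · rw [← CommRingCat.hom_comp, ← CommRingCat.hom_comp, ← Scheme.Hom.comp_appTop, ← Scheme.Hom.comp_appTop,
        hcc.1]
    · rw [← CommRingCat.hom_comp, ← Scheme.Hom.comp_appTop, hcc.2]

theorem formallyUnramified_of_univ (hu : OmegaSh.IsUnivThickening h i h') : FormallyUnramified h' := by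
  haveI := hu.1.1.1
  haveI := hu.1.1.2
  refine ⟨fun {U} hU {V'} hV' e => ?_⟩
  have e' : i ⁻¹ᵁ V' ≤ h ⁻¹ᵁ U := by
    rw [← hu.2.1]
    exact i.preimage_mono e
  haveI : IsAffine (U : Scheme.{u}) := hU
  haveI : IsAffine (V' : Scheme.{u}) := hV'
  haveI : IsAffine ((i ⁻¹ᵁ V') : Scheme.{u}) := hV'.preimage i
  have hfu := (ringUniv_of_univ (univ_restrict h i h' hu (i ⁻¹ᵁ V') U e' V' rfl e)).formallyUnramified
  exact (RingHom.FormallyUnramified.respectsIso.arrow_mk_iso_iff (arrowResLEAppIso h' U V' e)).1 hfu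

end Groth.Agent.Om3
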